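import Mathlib
import Cfsg.Agent.S0205

/-!
# An odd group acting transitively on the involutions of an elementary abelian group

If moreover the stabilizer of a point `τ` is transitive on the involutions of a complement `E` of
`⟨τ⟩`, then `|E| ≤ 4`.
-/

set_option autoImplicit false
set_option linter.style.haveILetI false
set_option linter.unusedSectionVars false

namespace Cfsg.Agent.JanThom

open Finset

/-- A nontrivial solvable group has a nontrivial normal abelian subgroup of prime exponent. -/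
theorem exists_normal_exp {K : Type*} [Group K] [Finite K] [Nontrivial K]
    (hK : Group.IsSolvable K) :
    ∃ (A : Subgroup K) (r : ℕ), A.Normal ∧ r.Prime ∧ r ∣ Nat.card K ∧ A ≠ ⊥ ∧
      (∀ a ∈ A, ∀ b ∈ A, a * b = b * a) ∧ ∀ a ∈ A, a ^ r = 1 := by
  classical
  have hex : ∃ k, derivedSeries K k = ⊥ := (Group.isSolvable_def K).1 hK
  set k := Nat.find hex with hk
  have hk0 : k ≠ 0 := fun e => by
    have h := Nat.find_spec hex
    rw [← hk, e, derivedSeries_zero] at h
    exact top_ne_bot h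
  obtain ⟨j, hj⟩ := Nat.exists_eq_succ_of_ne_zero hk0
  set A₀ := derivedSeries K j with hA₀
  have hA₀ne : A₀ ≠ ⊥ := Nat.find_min hex (show j < Nat.find hex by omega)
  have hcomm : ∀ a ∈ A₀, ∀ b ∈ A₀, a * b = b * a := fun a ha b hb => by
    have h := Subgroup.commutator_mem_commutator ha hb
    rw [← derivedSeries_succ, show j + 1 = k from hj.symm, Nat.find_spec hex,
      Subgroup.mem_bot, commutatorElement_eq_one_iff_mul_comm] at h
    exact h
  haveI : A₀.Normal := derivedSeries_normal K j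
  have h1 : Nat.card A₀ ≠ 1 := fun e => hA₀ne (Subgroup.card_eq_one.1 e)
  set r := (Nat.card A₀).minFac
  have hr : r.Prime := Nat.minFac_prime h1
  haveI : Fact r.Prime := ⟨hr⟩
  obtain ⟨a, ha⟩ := exists_prime_orderOf_dvd_card' r (Nat.minFac_dvd (Nat.card A₀))
  refine ⟨{ carrier := {a | a ∈ A₀ ∧ a ^ r = 1}
            one_mem' := ⟨one_mem _, one_pow r⟩
            mul_mem' := fun {x y} hx hy => ⟨mul_mem hx.1 hy.1, by
              rw [(Commute.mul_pow (hcomm x hx.1 y hy.1) r), hx.2, hy.2, one_mul]⟩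
            inv_mem' := fun {x} hx => ⟨inv_mem hx.1, by rw [inv_pow, hx.2, inv_one]⟩ }, r, ?_, hr,
    (Nat.minFac_dvd _).trans (Subgroup.card_subgroup_dvd_card A₀), ?_,
    fun x hx y hy => hcomm x hx.1 y hy.1, fun x hx => hx.2⟩
  · exact ⟨fun x hx g => ⟨Subgroup.Normal.conj_mem ‹A₀.Normal› x hx.1 g,
      by rw [conj_pow, hx.2, mul_one, mul_inv_cancel]⟩⟩
  · intro hbot
    have h2 : (a : K) = 1 := Subgroup.mem_bot.1 (hbot ▸ (show (a : K) ∈ A₀ ∧ (a : K) ^ r = 1 from
      ⟨a.2, by rw [← Subgroup.coe_pow, ← ha, pow_orderOf_eq_one]; rfl⟩))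
    rw [show a = 1 from Subtype.ext h2, orderOf_one] at ha
    exact hr.one_lt.ne ha

theorem lt_two_pow {n : ℕ} (hn : 3 ≤ n) : n + 2 < 2 ^ n := by
  induction n, hn using Nat.le_induction with
  | base => norm_num
  | succ m hm ih => rw [pow_succ]; omega

variable {V : Type*} [CommGroup V] [Finite V]

theorem abel_bound (N : Subgroup (MulAut V)) (hodd : Odd (Nat.card N)) (τ : V) (E : Subgroup V)
    (hτ : τ ∉ E) (hsplit : ∀ x, x ∈ E ∨ τ * x ∈ E) (hsq : ∀ x : V, x * x = 1)
    (htrans : ∀ x : V, x ≠ 1 → ∃ φ ∈ N, φ τ = x)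
    (hR : ∀ a ∈ E, ∀ b ∈ E, a ≠ 1 → b ≠ 1 → ∃ φ ∈ N, φ τ = τ ∧ φ a = b) :
    Nat.card E ≤ 4 := by
  classical
  by_contra hbig
  haveI : Fintype V := Fintype.ofFinite V
  have hτ1 : τ ≠ 1 := fun e => hτ (e ▸ one_mem E)
  have hττ : ∀ x, τ * (τ * x) = x := fun x => by rw [← mul_assoc, hsq, one_mul]
  obtain ⟨n, hn⟩ : ∃ n, Nat.card E = 2 ^ n := by
    haveI : Fact (Nat.Prime 2) := ⟨Nat.prime_two⟩
    exact (show IsPGroup 2 E from fun x => ⟨1, by rw [pow_one, pow_two]; exact Subtype.ext (hsq _)⟩).exists_card_eq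
  have hV : Nat.card V = 2 * 2 ^ n := by
    rw [← hn, ← Nat.card_eq_of_bijective (fun p : Bool × E => if p.1 then τ * p.2 else (p.2 : V))
      ⟨?_, ?_⟩, Nat.card_prod, Nat.card_eq_fintype_card (α := Bool), Fintype.card_bool]
    · rintro ⟨b, e, he⟩ ⟨b', e', he'⟩ hb
      cases b <;> cases b' <;> simp at hb ⊢
      · exact hb
      · exact hτ (by rw [show τ = e * e'⁻¹ by rw [hb]; simp]; exact mul_mem he (inv_mem he'))
      · exact hτ (by rw [show τ = e' * e⁻¹ by rw [← hb]; simp]; exact mul_mem he' (inv_mem he))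
      · exact hb
    · intro x
      rcases hsplit x with hx | hx
      · exact ⟨(false, ⟨x, hx⟩), rfl⟩
      · exact ⟨(true, ⟨_, hx⟩), hττ x⟩
  obtain ⟨e₀, he₀, he₀1⟩ : ∃ e ∈ E, e ≠ 1 := by
    by_contra! hc
    have : E = ⊥ := (Subgroup.eq_bot_iff_forall E).2 hc
    rw [this, Subgroup.card_bot] at hbig
    omega
  -- the key closure property
  have hW : ∀ W : Subgroup V, τ ∈ W → (∀ φ ∈ N, φ τ = τ → ∀ x ∈ W, φ x ∈ W) →
      (∃ x ∈ W, x ≠ 1 ∧ x ≠ τ) → W = ⊤ := by
    intro W hτW hinv ⟨x, hx, hx1, hxτ⟩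
    obtain ⟨e, he, heW, he1⟩ : ∃ e ∈ E, e ∈ W ∧ e ≠ 1 := by
      rcases hsplit x with h | h
      · exact ⟨x, h, hx, hx1⟩
      · exact ⟨τ * x, h, mul_mem hτW hx, fun e => hxτ (by rw [← hττ x, e, mul_one])⟩
    have hEW : ∀ b ∈ E, b ∈ W := fun b hb => by
      by_cases hb1 : b = 1
      · exact hb1 ▸ one_mem W
      · obtain ⟨φ, hφ, hφτ, rfl⟩ := hR e he b hb he1 hb1
        exact hinv φ hφ hφτ e heW
    refine eq_top_iff.2 fun y _ => ?_
    rcases hsplit y with h | h
    · exact hEW y h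
    · rw [← hττ y]; exact mul_mem hτW (hEW _ h)
  haveI : Nontrivial N := by
    obtain ⟨φ, hφ, hφe⟩ := htrans e₀ he₀1
    refine ⟨⟨⟨φ, hφ⟩, 1, fun e => hτ ?_⟩⟩
    rw [show φ = 1 from congrArg Subtype.val e] at hφe
    exact (show τ = e₀ from hφe) ▸ he₀
  obtain ⟨A, r, hAn, hr, hrd, hAne, hAc, hAexp⟩ := exists_normal_exp (S0205.result hodd)
  haveI := hAn
  have hrodd : Odd r := hodd.of_dvd_nat hrd
  haveI : Fact r.Prime := ⟨hr⟩
  have happ : ∀ (a b : N) (x : V), (a * b).1 x = a.1 (b.1 x) := fun a b x => rfl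
  have hinv : ∀ (a : N) (x : V), a⁻¹.1 (a.1 x) = x := fun a x => by
    rw [← happ, inv_mul_cancel]; rfl
  -- semiregularity
  have hsemi0 : ∀ a ∈ A, a.1 τ = τ → a = 1 := by
    intro a ha haτ
    let W : Subgroup V :=
      { carrier := {x | ∀ a ∈ A, a.1 τ = τ → a.1 x = x}
        one_mem' := fun a _ _ => map_one a.1
        mul_mem' := fun {x y} hx hy a ha h => by rw [map_mul, hx a ha h, hy a ha h]
        inv_mem' := fun {x} hx a ha h => by rw [map_inv, hx a ha h] }
    by_cases hWne : ∃ x ∈ W, x ≠ 1 ∧ x ≠ τ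
    · have htop := hW W (fun a _ h => h) (fun φ hφ hφτ x hx b hb hbτ => by
        have hb' := hAn.conj_mem b hb (⟨φ, hφ⟩⁻¹)
        rw [inv_inv] at hb'
        have h := hx _ hb' (by
          rw [happ, happ]
          show (⟨φ, hφ⟩ : N)⁻¹.1 (b.1 (φ τ)) = τ
          rw [hφτ, hbτ]
          nth_rw 1 [← hφτ]
          exact hinv ⟨φ, hφ⟩ τ)
        rw [happ, happ] at h
        have h' := congrArg (fun y => φ y) h
        exact (show φ ((φ⁻¹ : MulAut V) (b.1 (φ x))) = b.1 (φ x) from MulAut.apply_inv_self ..).symm.trans h') hWne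
      refine Subtype.ext (MulEquiv.ext fun x => ?_)
      exact (show x ∈ W from htop ▸ Subgroup.mem_top x) a ha haτ
    · exfalso
      push Not at hWne
      have hall : ∀ b ∈ A, b.1 τ = τ := fun b hb => by
        refine hWne _ (fun a ha h => ?_) (fun e => hτ1 ?_)
        · rw [← happ, hAc a ha b hb, happ, h]
        · exact b.1.injective (by rw [e, map_one])
      refine hAne ((Subgroup.eq_bot_iff_forall A).2 fun b hb => Subtype.ext (MulEquiv.ext fun x => ?_))
      by_cases hx : x = 1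
      · rw [hx, map_one, map_one]
      obtain ⟨φ, hφ, rfl⟩ := htrans x hx
      have hb' := hall _ (hAn.conj_mem b hb (⟨φ, hφ⟩⁻¹))
      rw [inv_inv, happ, happ] at hb'
      have h' := congrArg (fun y => φ y) hb'
      exact (show φ ((φ⁻¹ : MulAut V) (b.1 (φ τ))) = b.1 (φ τ) from MulAut.apply_inv_self ..).symm.trans h'
  have hsemi : ∀ a ∈ A, ∀ x : V, x ≠ 1 → a.1 x = x → a = 1 := by
    intro a ha x hx hax
    obtain ⟨φ, hφ, rfl⟩ := htrans x hx
    have := hsemi0 _ (hAn.conj_mem a ha (⟨φ, hφ⟩⁻¹)) (by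
      rw [inv_inv, happ, happ]
      show (φ⁻¹ : MulAut V) (a.1 (φ τ)) = τ
      rw [hax, MulAut.inv_apply_self])
    rwa [conj_eq_one_iff] at this
  -- the norm vanishes
  have hnorm : ∀ a ∈ A, a ≠ 1 → ∀ x : V, ∏ i ∈ range r, (a ^ i).1 x = 1 := by
    intro a ha ha1 x
    by_contra hne
    refine ha1 (hsemi a ha _ hne ?_)
    rw [map_prod]
    have e1 := Finset.prod_range_succ' (fun i => (a ^ i).1 x) r
    rw [Finset.prod_range_succ, hAexp a ha, pow_zero] at e1
    have e2 := mul_right_cancel e1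
    refine Eq.trans (Finset.prod_congr rfl fun i _ => ?_) e2.symm
    rw [pow_succ', happ]
  obtain ⟨b, hbA, hb1⟩ : ∃ b ∈ A, b ≠ 1 := by
    by_contra! hc
    exact hAne ((Subgroup.eq_bot_iff_forall A).2 hc)
  have hbo : orderOf b = r := orderOf_eq_prime (hAexp b hbA) hb1
  have hcyc : A = Subgroup.zpowers b := by
    refine le_antisymm (fun a ha => ?_) (Subgroup.zpowers_le.2 hbA)
    by_contra hab
    have hne : ∀ k : ℕ, a * b ^ k ≠ 1 := fun k e => hab (by
      rw [eq_inv_of_mul_eq_one_left e]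
      exact inv_mem (pow_mem (Subgroup.mem_zpowers b) k))
    have h0 : ∏ k ∈ range r, ∏ i ∈ range r, ((a * b ^ k) ^ i).1 τ = 1 :=
      Finset.prod_eq_one fun k _ => hnorm _ (mul_mem ha (pow_mem hbA k)) (hne k) τ
    rw [Finset.prod_comm, Finset.prod_eq_single 0] at h0
    · simp only [pow_zero, Finset.prod_const, card_range] at h0
      obtain ⟨j, hj⟩ := hrodd
      rw [hj, pow_succ, pow_mul] at h0
      have h1 : ((1 : N).1 τ) = τ := rfl
      rw [h1, pow_two, hsq, one_pow, one_mul] at h0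
      exact hτ1 h0
    · intro i hi hi0
      have hbi : b ^ i ≠ 1 := fun e => by
        have := Nat.le_of_dvd (by omega) (hbo ▸ orderOf_dvd_of_pow_eq_one e)
        rw [Finset.mem_range] at hi
        omega
      refine Eq.trans (Finset.prod_congr rfl (g := fun k => (a ^ i).1 (((b ^ i) ^ k).1 τ))
        fun k _ => ?_) ?_
      · rw [Commute.mul_pow (hAc a ha _ (pow_mem hbA k)), happ, ← pow_mul, ← pow_mul, mul_comm k i]
      · rw [← map_prod, hnorm _ (pow_mem hbA i) hbi, map_one]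
    · intro h
      exact absurd (Finset.mem_range.2 hr.pos) h
  have hAcard : Nat.card A = r := by rw [hcyc, Nat.card_zpowers, hbo]
  -- `r` divides `2q - 1`
  have hmod : Nat.card V ≡ 1 [MOD r] := by
    letI : MulAction A V :=
      { smul := fun a x => a.1.1 x, one_smul := fun x => rfl, mul_smul := fun a a' x => rfl }
    have hp : IsPGroup r A := IsPGroup.of_card (n := 1) (by rw [hAcard, pow_one])
    have h := hp.card_modEq_card_fixedPoints V
    suffices hfix : Nat.card (MulAction.fixedPoints A V) = 1 by rwa [hfix] at h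
    rw [Nat.card_eq_one_iff_exists]
    refine ⟨⟨1, fun a => map_one a.1.1⟩, fun x => Subtype.ext ?_⟩
    by_contra hx
    exact hb1 (hsemi b hbA x.1 hx (x.2 ⟨b, hbA⟩))
  rw [hV] at hmod
  have hrle : r ≤ 2 * 2 ^ n - 1 := by
    have hpos : 0 < 2 ^ n := by positivity
    exact Nat.le_of_dvd (by omega) ((Nat.modEq_iff_dvd' (by omega)).1 hmod.symm)
  -- the orbit of `τ` generates
  have hspan : Subgroup.closure {x | ∃ i : ℕ, x = (b ^ i).1 τ} = ⊤ := by
    have hτm : τ ∈ Subgroup.closure {x | ∃ i : ℕ, x = (b ^ i).1 τ} :=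
      Subgroup.subset_closure ⟨0, rfl⟩
    refine hW _ hτm (fun φ hφ hφτ => ?_) ⟨b.1 τ, Subgroup.subset_closure ⟨1, by rw [pow_one]⟩,
      fun e => hτ1 (b.1.injective (by rw [e, map_one])), fun e => hb1 (hsemi0 b hbA e)⟩
    intro x hx
    have := Subgroup.mem_map_of_mem φ.toMonoidHom hx
    rw [MonoidHom.map_closure] at this
    refine Subgroup.closure_mono ?_ this
    rintro _ ⟨_, ⟨i, rfl⟩, rfl⟩
    have hc := hAn.conj_mem _ (pow_mem hbA i) ⟨φ, hφ⟩
    rw [hcyc, ← mem_powers_iff_mem_zpowers] at hc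
    obtain ⟨j, hj⟩ := hc
    refine ⟨j, ?_⟩
    simp only at hj
    rw [hj, happ, happ]
    show φ ((b ^ i).1 τ) = φ ((b ^ i).1 ((φ⁻¹ : MulAut V) τ))
    conv_rhs => rw [← hφτ, MulAut.inv_apply_self]
  -- the stabilizer
  let R : Subgroup N :=
    { carrier := {φ | φ.1 τ = τ}
      one_mem' := rfl
      mul_mem' := fun {x y} hx hy => by
        show (x * y).1 τ = τ
        rw [happ, hy, hx]
      inv_mem' := fun {x} hx => by
        show x⁻¹.1 τ = τ
        conv_lhs => rw [← hx]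
        exact hinv x τ }
  have hRbig : 2 ^ n - 1 ≤ Nat.card R := by
    choose φ hφN hφτ hφe using fun x : {x : E // x ≠ 1} =>
      hR e₀ he₀ x.1.1 x.1.2 he₀1 fun e => x.2 (Subtype.ext e)
    have h := Nat.card_le_card_of_injective (fun x => (⟨⟨φ x, hφN x⟩, hφτ x⟩ : R)) fun x y e => by
      have e' : φ x = φ y := congrArg (fun p : R => p.1.1) e
      exact Subtype.ext (Subtype.ext ((hφe x).symm.trans ((by rw [e'] : φ x e₀ = φ y e₀).trans (hφe y))))
    haveI : Fintype E := Fintype.ofFinite _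
    rwa [Nat.card_eq_fintype_card (α := {x : E // x ≠ 1}), Fintype.card_subtype_compl,
      Fintype.card_subtype_eq, ← Nat.card_eq_fintype_card, hn] at h
  set cj : R →* MulAut A := (MulAut.conjNormal (H := A)).comp R.subtype with hcj
  have hcji : Function.Injective cj := by
    rw [injective_iff_map_eq_one]
    intro φ hφ
    refine Subtype.ext (Subtype.ext (MulEquiv.ext fun x => ?_))
    have hcm : ∀ i : ℕ, φ.1.1 ((b ^ i).1 τ) = (b ^ i).1 τ := fun i => by
      have h1 := congrArg (fun f : MulAut A => (f ⟨b ^ i, pow_mem hbA i⟩).1) hφ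
      simp only [hcj, MonoidHom.comp_apply, MulAut.conjNormal_apply, MulAut.one_apply,
        Subgroup.coe_subtype] at h1
      rw [← happ, mul_inv_eq_iff_eq_mul.1 h1, happ, φ.2]
    have hm : x ∈ Subgroup.closure {x | ∃ i : ℕ, x = (b ^ i).1 τ} := hspan ▸ Subgroup.mem_top x
    refine Subgroup.closure_induction (p := fun x _ => φ.1.1 x = x) ?_ ?_ ?_ ?_ hm
    · rintro _ ⟨i, rfl⟩; exact hcm i
    · exact map_one _
    · intro x y _ _ hx hy; rw [map_mul, hx, hy]
    · intro x _ hx; rw [map_inv, hx]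
  haveI : IsCyclic A := isCyclic_of_prime_card hAcard
  have hRd : Nat.card R ∣ r - 1 := by
    have h := (Nat.card_congr (MonoidHom.ofInjective hcji).toEquiv).symm ▸ Subgroup.card_subgroup_dvd_card cj.range
    rwa [IsCyclic.card_mulAut, hAcard, Nat.totient_prime hr] at h
  have hRodd : Odd (Nat.card R) := hodd.of_dvd_nat (Subgroup.card_subgroup_dvd_card R)
  have hreq : r = 2 * 2 ^ n - 1 := by
    obtain ⟨c, hc⟩ := hRd
    obtain ⟨j, hj⟩ := hrodd
    obtain ⟨i, hi⟩ := hRodd
    rcases c with _ | _ | c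
    · have := hr.two_le
      omega
    · omega
    · have h2 : Nat.card R * 2 ≤ Nat.card R * (c + 1 + 1) := Nat.mul_le_mul_left _ (by omega)
      omega
  -- every nontrivial element is in the orbit of `τ`
  have horb : ∀ x : V, x ≠ 1 → ∃ i : ℕ, x = (b ^ i).1 τ := by
    haveI : Fintype {x : V // x ≠ 1} := Fintype.ofFinite _
    have hbij : Function.Bijective (fun i : Fin r => (⟨(b ^ (i : ℕ)).1 τ,
        fun e => hτ1 ((b ^ (i : ℕ)).1.injective (by rw [e, map_one]))⟩ : {x : V // x ≠ 1})) := by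
      rw [Fintype.bijective_iff_injective_and_card]
      refine ⟨fun i j e => ?_, ?_⟩
      · have e' : (b ^ (i : ℕ)).1 τ = (b ^ (j : ℕ)).1 τ := congrArg Subtype.val e
        have h1 := hsemi0 ((b ^ (j : ℕ))⁻¹ * b ^ (i : ℕ))
          (mul_mem (inv_mem (pow_mem hbA _)) (pow_mem hbA _)) (by rw [happ, e', hinv])
        rw [inv_mul_eq_one] at h1
        exact Fin.ext (pow_injOn_Iio_orderOf (by rw [hbo]; exact i.2) (by rw [hbo]; exact j.2) h1.symm)
      · rw [Fintype.card_fin, Fintype.card_subtype_compl, Fintype.card_subtype_eq,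
          ← Nat.card_eq_fintype_card, hV, hreq]
    intro x hx
    obtain ⟨i, hi⟩ := hbij.2 ⟨x, hx⟩
    exact ⟨i, (congrArg Subtype.val hi).symm⟩
  -- the field generated by `b`
  let ev : N →* AddMonoid.End (Additive V) :=
    { toFun := fun a => MonoidHom.toAdditive a.1.toMonoidHom
      map_one' := rfl
      map_mul' := fun _ _ => rfl }
  set β := ev b with hβ
  set B : Subring (AddMonoid.End (Additive V)) := Subring.closure {β} with hB
  letI : CommRing B := Subring.closureCommRingOfComm (by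
    rintro x (rfl : x = β) y (rfl : y = β); rfl)
  set bB : B := ⟨β, Subring.subset_closure rfl⟩ with hbB
  have hpowB : ∀ i : ℕ, ((bB ^ i : B) : AddMonoid.End (Additive V)) = ev (b ^ i) := fun i => by
    rw [SubmonoidClass.coe_pow, map_pow]
  set τ' : Additive V := Additive.ofMul τ with hτ'
  have hevτ : ∀ a : N, ev a τ' = Additive.ofMul (a.1 τ) := fun a => rfl
  have hev0 : ∀ x : B, x.1 τ' = 0 → x = 0 := by
    intro x hx
    refine Subtype.ext (AddMonoidHom.ext fun v => ?_)
    show x.1 v = 0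
    by_cases hv : Additive.toMul v = 1
    · rw [show v = 0 from hv, map_zero]
    · obtain ⟨i, hi⟩ := horb _ hv
      have e : v = (bB ^ i : B).1 τ' := by rw [hpowB, hevτ, ← hi]; rfl
      rw [e]
      show (x.1 * (bB ^ i : B).1) τ' = 0
      rw [show x.1 * (bB ^ i : B).1 = (bB ^ i : B).1 * x.1 from congrArg Subtype.val (mul_comm x (bB ^ i))]
      show (bB ^ i : B).1 (x.1 τ') = 0
      rw [hx, map_zero]
  have hbr : bB ^ r = 1 := Subtype.ext (by rw [hpowB, hAexp b hbA, map_one]; rfl)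
  haveI : Nontrivial B := ⟨⟨1, 0, fun e => hτ1 (by
    have := congrArg (fun x : B => x.1 τ') e
    exact this)⟩⟩
  haveI : NoZeroDivisors B := ⟨fun {x y} hxy => by
    by_contra! hne
    obtain ⟨i, hi⟩ := horb (Additive.toMul (y.1 τ')) fun e => hne.2 (hev0 y e)
    have hy : y = bB ^ i := sub_eq_zero.1 (hev0 _ (by
      show (y - bB ^ i : B).1 τ' = 0
      rw [AddSubgroupClass.coe_sub]
      show y.1 τ' - (bB ^ i : B).1 τ' = 0
      rw [sub_eq_zero, hpowB, hevτ, ← hi]
      rfl))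
    have hu : IsUnit (bB ^ i) := (IsUnit.of_pow_eq_one hbr hr.ne_zero).pow i
    rw [hy] at hxy
    exact hne.1 ((IsUnit.mul_left_eq_zero hu).1 hxy)⟩
  haveI : IsDomain B := NoZeroDivisors.to_isDomain B
  obtain ⟨I, hI, hIne, hI0⟩ : ∃ I : Finset ℕ, I ⊆ range (n + 2) ∧ I.Nonempty ∧
      ∏ i ∈ I, (b ^ i).1 τ = 1 := by
    obtain ⟨I, hI, I', hI', hne, he⟩ := Finset.exists_ne_map_eq_of_card_lt_of_maps_to
      (s := (range (n + 2)).powerset) (t := (Finset.univ : Finset V))
      (f := fun I => ∏ i ∈ I, (b ^ i).1 τ) (by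
        rw [Finset.card_powerset, card_range, Finset.card_univ, ← Nat.card_eq_fintype_card, hV,
          ← pow_succ']
        exact Nat.pow_lt_pow_right one_lt_two (by omega)) (fun _ _ => mem_univ _)
    rw [Finset.mem_powerset] at hI hI'
    refine ⟨symmDiff I I', ?_, ?_, ?_⟩
    · intro i hi
      rcases Finset.mem_symmDiff.1 hi with h | h
      · exact hI h.1
      · exact hI' h.1
    · rw [Finset.nonempty_iff_ne_empty]
      intro e
      exact hne (symmDiff_eq_bot.1 e)
    · have h1 : ∀ (s u : Finset ℕ) (f : ℕ → V), Disjoint s u → ∏ i ∈ s ∪ u, f i = (∏ i ∈ s, f i) * ∏ i ∈ u, f i :=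
        fun s u f hd => Finset.prod_union hd
      have hd : Disjoint (I \ I') (I' \ I) := disjoint_sdiff_sdiff
      rw [show symmDiff I I' = (I \ I') ∪ (I' \ I) from rfl, h1 _ _ _ hd]
      have a1 : ∀ J J' : Finset ℕ, ∏ i ∈ J, (b ^ i).1 τ =
          (∏ i ∈ J \ J', (b ^ i).1 τ) * ∏ i ∈ J ∩ J', (b ^ i).1 τ := fun J J' => by
        rw [← h1 _ _ _ (Finset.disjoint_sdiff_inter J J'), Finset.sdiff_union_inter]
      rw [a1 I I', a1 I' I, Finset.inter_comm I' I] at he
      rw [mul_right_cancel he, hsq]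
  set P : Polynomial B := ∑ i ∈ I, Polynomial.X ^ i with hP
  have hPdeg : P.natDegree ≤ n + 1 := Polynomial.natDegree_sum_le_of_forall_le _ _ fun i hi => by
    rw [Polynomial.natDegree_X_pow]
    have := Finset.mem_range.1 (hI hi)
    omega
  have hPne : P ≠ 0 := by
    obtain ⟨i, hi⟩ := hIne
    intro e
    have := congrArg (fun p => Polynomial.coeff p i) e
    simp [hP, Polynomial.finsetSum_coeff, Polynomial.coeff_X_pow, hi] at this
  have hexp : ∀ φ : R, ∃ c : ℕ, b ^ c = φ.1 * b * φ.1⁻¹ := fun φ => by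
    have h := hAn.conj_mem b hbA φ.1
    rw [hcyc, ← mem_powers_iff_mem_zpowers] at h
    exact h
  choose c hc using hexp
  have hroot : ∀ φ : R, bB ^ c φ ∈ P.roots.toFinset := by
    intro φ
    rw [Multiset.mem_toFinset, Polynomial.mem_roots hPne, Polynomial.IsRoot.def, hP,
      Polynomial.eval_finsetSum]
    apply hev0
    rw [show (∑ i ∈ I, Polynomial.eval (bB ^ c φ) (Polynomial.X ^ i) : B).1 τ' =
        ∑ i ∈ I, (Polynomial.eval (bB ^ c φ) (Polynomial.X ^ i) : B).1 τ' from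
      map_sum ({ toFun := fun x => x.1 τ', map_zero' := rfl, map_add' := fun _ _ => rfl } :
        B →+ Additive V) _ I]
    have e : ∀ i, ((Polynomial.eval (bB ^ c φ) (Polynomial.X ^ i) : B)).1 τ' =
        Additive.ofMul (φ.1.1 ((b ^ i).1 τ)) := by
      intro i
      rw [Polynomial.eval_pow, Polynomial.eval_X, ← pow_mul, hpowB, hevτ, pow_mul, hc, conj_pow,
        happ, happ]
      congr 3
      conv_lhs => rw [← φ.2]
      exact hinv φ.1 τ
    rw [Finset.sum_congr rfl fun i _ => e i, ← ofMul_prod, ← map_prod, hI0, map_one]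
    rfl
  have hinjc : Function.Injective (fun φ : R => (⟨bB ^ c φ, hroot φ⟩ : P.roots.toFinset)) := by
    intro φ ψ e
    have e0 : bB ^ c φ = bB ^ c ψ := congrArg Subtype.val e
    have e1 := congrArg (fun x : B => x.1 τ') e0
    simp only [hpowB, hevτ] at e1
    have h1 := hsemi0 ((b ^ c ψ)⁻¹ * b ^ c φ) (mul_mem (inv_mem (pow_mem hbA _)) (pow_mem hbA _))
      (by rw [happ, Additive.ofMul.injective e1, hinv])
    rw [inv_mul_eq_one, hc, hc] at h1
    refine hcji (MulEquiv.ext fun a => Subtype.ext ?_)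
    obtain ⟨i, hi⟩ := (mem_powers_iff_mem_zpowers).2 (hcyc ▸ a.2 : a.1 ∈ Subgroup.zpowers b)
    simp only [hcj, MonoidHom.comp_apply, MulAut.conjNormal_apply, Subgroup.coe_subtype]
    simp only at hi
    rw [← hi, ← conj_pow, ← conj_pow, h1]
  have hfin := Nat.card_le_card_of_injective _ hinjc
  rw [Nat.card_eq_finsetCard] at hfin
  have hle := (hfin.trans (Multiset.toFinset_card_le _)).trans ((Polynomial.card_roots' P).trans hPdeg)
  have hn3 : 3 ≤ n := by
    by_contra hlt
    have : 2 ^ n ≤ 2 ^ 2 := Nat.pow_le_pow_right two_pos (by omega)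
    omega
  have := lt_two_pow hn3
  omega

end Cfsg.Agent.JanThom
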