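import Mathlib
import Cfsg.Agent.Invol.Basic

/-!
# Involution centralisers `Z₂ × PSL(2,q)` modulo core: the setting and the parity lemma

`T` is a Sylow 2-subgroup of the centralizer of the involution `t`, `D = T ∩ N` for a normal
subgroup `N` of the centralizer with `T = ⟨t⟩ × D`, and all involutions of `D` are conjugate in the
centralizer.
-/

set_option autoImplicit false
set_option linter.style.haveILetI false
set_option linter.unusedSectionVars false

namespace Cfsg.Agent.JanThom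

open Subgroup

variable {G : Type*} [Group G]

/-- The setting. -/
structure Hyp (t : G) (T D : Subgroup G) : Prop where
  simple : IsSimpleGroup G
  ncomm : ¬ IsMulCommutative G
  t2 : orderOf t = 2
  Tle : T ≤ centralizer {t}
  Tp : IsPGroup 2 T
  Tmax : ∀ Q : Subgroup G, Q ≤ centralizer {t} → IsPGroup 2 Q →
    ∃ c ∈ centralizer ({t} : Set G), ∀ x ∈ Q, c * x * c⁻¹ ∈ T
  tT : t ∈ T
  DT : D ≤ T
  tD : t ∉ D
  split : ∀ x ∈ T, x ∈ D ∨ t * x ∈ D
  Dnorm : ∀ c ∈ centralizer ({t} : Set G), ∀ x ∈ D, c * x * c⁻¹ ∈ T → c * x * c⁻¹ ∈ D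
  invConj : ∀ a ∈ D, ∀ b ∈ D, orderOf a = 2 → orderOf b = 2 →
    ∃ c ∈ centralizer ({t} : Set G), c * a * c⁻¹ = b

/-- A homomorphism from a nonabelian simple group to an abelian group is trivial. -/
theorem hom_trivial (hs : IsSimpleGroup G) (hn : ¬ IsMulCommutative G) {A : Type*} [CommGroup A]
    (f : G →* A) (g : G) : f g = 1 := by
  haveI := hs
  rcases (f.normal_ker).eq_bot_or_eq_top with h | h
  · refine absurd ⟨⟨fun a b => ?_⟩⟩ hn
    apply (MonoidHom.ker_eq_bot_iff f).1 h
    rw [map_mul, map_mul, mul_comm]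
  · exact f.mem_ker.1 (h ▸ mem_top g)

theorem mul_self_of_conj {t x : G} (ht : orderOf t = 2) (h : IsConj t x) : x * x = 1 := by
  obtain ⟨g, rfl⟩ := isConj_iff.1 h
  rw [conj_mul, ← pow_two, ← ht, pow_orderOf_eq_one, mul_one, mul_inv_cancel]

theorem ne_one_of_conj {t x : G} (ht : orderOf t = 2) (h : IsConj t x) : x ≠ 1 := by
  rintro rfl
  obtain ⟨g, hg⟩ := isConj_iff.1 h
  rw [conj_eq_one_iff] at hg
  rw [hg, orderOf_one] at ht
  omega

theorem orderOf_two {x : G} (h1 : x ≠ 1) (h : x * x = 1) : orderOf x = 2 :=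
  orderOf_eq_prime (by rw [pow_two, h]) h1

variable [Finite G]

/-- The number of elements of `X` conjugate to `t`. -/
noncomputable def jcount (t : G) (X : Subgroup G) : ℕ := Nat.card {x : G // x ∈ X ∧ IsConj t x}

/-- The parity lemma: the sign of `t` on the cosets of `X` is trivial. -/
theorem parity (hs : IsSimpleGroup G) (hn : ¬ IsMulCommutative G) {t : G} (ht : orderOf t = 2)
    (X : Subgroup G) :
    ∃ f : ℕ, f * Nat.card X = jcount t X * Nat.card (centralizer ({t} : Set G)) ∧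
      f ≤ X.index ∧ 4 ∣ X.index - f ∧ f = Nat.card {q : G ⧸ X // t • q = q} := by
  classical
  haveI : Fintype (G ⧸ X) := Fintype.ofFinite _
  set σ : Equiv.Perm (G ⧸ X) := MulAction.toPermHom G (G ⧸ X) t with hσ
  have hσ2 : σ ^ 2 = 1 := by rw [hσ, ← map_pow, ← ht, pow_orderOf_eq_one, map_one]
  have hsign := hom_trivial hs hn (Equiv.Perm.sign.comp (MulAction.toPermHom G (G ⧸ X))) t
  rw [MonoidHom.comp_apply, ← hσ, Equiv.Perm.sign_of_pow_two_eq_one hσ2] at hsign
  haveI : Fact (Nat.Prime 2) := ⟨Nat.prime_two⟩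
  have hle : Fintype.card (Function.fixedPoints σ) ≤ Fintype.card (G ⧸ X) :=
    Fintype.card_subtype_le _
  have hmod : Fintype.card (G ⧸ X) % 2 = Fintype.card (Function.fixedPoints σ) % 2 := by
    have h := Equiv.Perm.card_compl_support_modEq (p := 2) (n := 1) (σ := σ) (by simpa using hσ2)
    have hc : σ.supportᶜ.card = Fintype.card (Function.fixedPoints σ) := by
      rw [Finset.card_compl, ← Equiv.Perm.sum_cycleType]
      exact (Equiv.Perm.card_fixedPoints σ).symm
    rw [hc] at h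
    exact h.symm
  refine ⟨Fintype.card (Function.fixedPoints σ), ?_, ?_, ?_, ?_⟩
  · -- double counting of the elements carrying `t` into `X`
    rw [← Nat.card_eq_fintype_card]
    set C := centralizer ({t} : Set G)
    have e1 : {g : G | g⁻¹ * t * g ∈ X} ≃ X × Function.fixedPoints σ :=
      (Equiv.setCongr (by
        ext g
        show g⁻¹ * t * g ∈ X ↔ σ (QuotientGroup.mk g) = QuotientGroup.mk g
        rw [hσ]
        show _ ↔ t • (QuotientGroup.mk g : G ⧸ X) = _
        rw [MulAction.Quotient.smul_coe, smul_eq_mul, eq_comm, QuotientGroup.eq, ← mul_assoc])).trans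
        (QuotientGroup.preimageMkEquivSubgroupProdSet X (Function.fixedPoints σ))
    let φ : G ⧸ C → G := Quotient.lift (fun g : G => g * t * g⁻¹) (fun a b h => by
      have h' : a⁻¹ * b ∈ C := QuotientGroup.leftRel_apply.1 h
      have h2 := mem_centralizer_singleton_iff.1 h'
      show a * t * a⁻¹ = b * t * b⁻¹
      calc a * t * a⁻¹ = a * (t * (a⁻¹ * b)) * b⁻¹ := by group
        _ = a * ((a⁻¹ * b) * t) * b⁻¹ := by rw [h2]
        _ = b * t * b⁻¹ := by group)
    have φmk : ∀ g : G, φ (QuotientGroup.mk g) = g * t * g⁻¹ := fun g => rfl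
    have e2 : {g : G | g⁻¹ * t * g ∈ X} ≃ C × {q : G ⧸ C | φ q ∈ X} :=
      ((Equiv.inv G).subtypeEquiv (fun g => by
        show g⁻¹ * t * g ∈ X ↔ φ (QuotientGroup.mk g⁻¹) ∈ X
        rw [φmk, inv_inv])).trans
        (QuotientGroup.preimageMkEquivSubgroupProdSet C {q : G ⧸ C | φ q ∈ X})
    have e3 : Nat.card {q : G ⧸ C | φ q ∈ X} = jcount t X := by
      refine Nat.card_eq_of_bijective (fun q => ⟨φ q.1, q.2, ?_⟩) ⟨?_, ?_⟩
      · obtain ⟨g, hg⟩ := QuotientGroup.mk_surjective q.1
        rw [← hg, φmk]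
        exact isConj_iff.2 ⟨g, rfl⟩
      · rintro ⟨q, hq⟩ ⟨q', hq'⟩ h
        obtain ⟨g, rfl⟩ := QuotientGroup.mk_surjective q
        obtain ⟨g', rfl⟩ := QuotientGroup.mk_surjective q'
        have h' : g * t * g⁻¹ = g' * t * g'⁻¹ := congrArg Subtype.val h
        refine Subtype.ext (QuotientGroup.eq.2 (mem_centralizer_singleton_iff.2 ?_))
        calc g⁻¹ * g' * t = g⁻¹ * (g' * t * g'⁻¹) * g' := by group
          _ = g⁻¹ * (g * t * g⁻¹) * g' := by rw [h']
          _ = t * (g⁻¹ * g') := by group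
      · rintro ⟨x, hx, hj⟩
        obtain ⟨g, rfl⟩ := isConj_iff.1 hj
        exact ⟨⟨QuotientGroup.mk g, show φ _ ∈ X by rw [φmk]; exact hx⟩, rfl⟩
    have h := (Nat.card_congr e1).symm.trans (Nat.card_congr e2)
    rw [Nat.card_prod, Nat.card_prod, e3] at h
    rw [mul_comm, h, mul_comm]
  · rw [Subgroup.index_eq_card, Nat.card_eq_fintype_card]
    exact hle
  · rw [Subgroup.index_eq_card, Nat.card_eq_fintype_card]
    have hev : Even ((Fintype.card (G ⧸ X) - Fintype.card (Function.fixedPoints σ)) / 2) := by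
      by_contra h
      rw [(Nat.not_even_iff_odd.1 h).neg_one_pow] at hsign
      exact absurd hsign (by decide)
    obtain ⟨k, hk⟩ := hev
    omega
  · rw [← Nat.card_eq_fintype_card]
    rfl

theorem jcount_eq_zero {t : G} {X : Subgroup G} (h : ∀ x ∈ X, ¬ IsConj t x) : jcount t X = 0 := by
  rw [jcount, Nat.card_eq_zero]
  exact Or.inl ⟨fun ⟨x, hx, hj⟩ => h x hx hj⟩

/-- A subgroup of a Sylow subgroup of index `2^k` has index `2^k` times an odd number. -/
theorem index_eq (S : Sylow 2 G) {X : Subgroup G} {k : ℕ}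
    (hk : Nat.card (S : Subgroup G) = k * Nat.card X) : ∃ o, Odd o ∧ X.index = k * o := by
  refine ⟨(S : Subgroup G).index, Nat.odd_iff.2 (Nat.two_dvd_ne_zero.1 ?_), ?_⟩
  · haveI : Fact (Nat.Prime 2) := ⟨Nat.prime_two⟩
    exact S.not_dvd_index
  · apply Nat.eq_of_mul_eq_mul_right (Nat.card_pos (α := X))
    rw [index_mul_card, ← index_mul_card (S : Subgroup G), hk]
    ring

/-- An element normalising the finite subgroup `Y` preserves it in both directions. -/
theorem mem_normalizer_of {Y : Subgroup G} {g : G} (h : ∀ y ∈ Y, g * y * g⁻¹ ∈ Y) :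
    g ∈ normalizer (Y : Set G) := by
  rw [mem_normalizer_iff]
  intro x
  refine ⟨h x, fun hx => ?_⟩
  have hinj : Function.Injective (fun y : Y => (⟨g * y * g⁻¹, h y y.2⟩ : Y)) := fun a b e =>
    Subtype.ext (conj_injective (congrArg Subtype.val e))
  obtain ⟨y, hy⟩ := Finite.surjective_of_injective hinj ⟨_, hx⟩
  have h' := conj_injective (congrArg Subtype.val hy)
  exact h' ▸ y.2

/-- A proper subgroup of a 2-group is properly normalised. -/
theorem normalizer_grow {Y R : Subgroup G} (hR : IsPGroup 2 R) (hle : Y ≤ R) (hne : Y ≠ R) :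
    ∃ g ∈ R, g ∉ Y ∧ g ∈ normalizer (Y : Set G) := by
  haveI : Fact (Nat.Prime 2) := ⟨Nat.prime_two⟩
  have hnc : NormalizerCondition R :=
    Group.normalizerCondition_of_isNilpotent (h := hR.isNilpotent)
  have hlt : Y.subgroupOf R < ⊤ := lt_top_iff_ne_top.2 fun e =>
    hne (le_antisymm hle (subgroupOf_eq_top.1 e))
  obtain ⟨⟨a, haR⟩, ha, hna⟩ := SetLike.exists_of_lt (hnc _ hlt)
  refine ⟨a, haR, fun h => hna (mem_subgroupOf.2 h), mem_normalizer_of fun y hy => ?_⟩
  exact mem_subgroupOf.1 ((mem_normalizer_iff.1 ha ⟨y, hle hy⟩).1 (mem_subgroupOf.2 hy))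

namespace Hyp

variable {t : G} {T D : Subgroup G}

section Elementary

omit [Finite G]

theorem tt (h : Hyp t T D) : t * t = 1 := by rw [← pow_two, ← h.t2, pow_orderOf_eq_one]

theorem tinv (h : Hyp t T D) : t⁻¹ = t := inv_eq_of_mul_eq_one_right h.tt

theorem t_mul_t_mul (h : Hyp t T D) (x : G) : t * (t * x) = x := by rw [← mul_assoc, h.tt, one_mul]

theorem t_ne_one (h : Hyp t T D) : t ≠ 1 := fun e => h.tD (e ▸ one_mem D)

theorem comm_t (h : Hyp t T D) {x : G} (hx : x ∈ T) : t * x = x * t :=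
  (mem_centralizer_singleton_iff.1 (h.Tle hx)).symm

theorem sq_mem_D (h : Hyp t T D) {x : G} (hx : x ∈ T) : x * x ∈ D := by
  rcases h.split x hx with h' | h'
  · exact mul_mem h' h'
  · have : x * x = t * x * (t * x) := by
      rw [mul_assoc, ← mul_assoc x t, ← h.comm_t hx, mul_assoc, h.t_mul_t_mul]
    rw [this]; exact mul_mem h' h'

theorem tmul_notMem (h : Hyp t T D) {x : G} (hx : x ∈ D) : t * x ∉ D := fun h' =>
  h.tD (by simpa using mul_mem h' (inv_mem hx))

theorem tmul_mem (h : Hyp t T D) {x : G} (hx : x ∈ T) (hxD : x ∉ D) : t * x ∈ D :=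
  (h.split x hx).resolve_left hxD

theorem isConj_tt (_h : Hyp t T D) : IsConj t t := IsConj.refl t

end Elementary

theorem card_T (h : Hyp t T D) : Nat.card T = 2 * Nat.card D := by
  classical
  let e : T ≃ Bool × D :=
    { toFun := fun x => if hx : (x : G) ∈ D then (false, ⟨x, hx⟩)
        else (true, ⟨t * x, h.tmul_mem x.2 hx⟩)
      invFun := fun p => if p.1 then ⟨t * p.2, mul_mem h.tT (h.DT p.2.2)⟩ else ⟨p.2, h.DT p.2.2⟩
      left_inv := fun x => by
        by_cases hx : (x : G) ∈ D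
        · simp [hx]
        · simp [hx, h.t_mul_t_mul]
      right_inv := fun p => by
        rcases p with ⟨b, d, hd⟩
        cases b
        · simp [hd]
        · simp [h.tmul_notMem hd, h.t_mul_t_mul] }
  rw [Nat.card_congr e, Nat.card_prod, Nat.card_eq_fintype_card (α := Bool), Fintype.card_bool]

/-- A 2-subgroup commuting with a conjugate of `t` is conjugate into `T`. -/
theorem exists_into_T (h : Hyp t T D) {x : G} (hx : IsConj t x) {R : Subgroup G}
    (hR : IsPGroup 2 R) (hc : ∀ r ∈ R, r * x = x * r) :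
    ∃ k : G, k * x * k⁻¹ = t ∧ ∀ r ∈ R, k * r * k⁻¹ ∈ T := by
  obtain ⟨g, rfl⟩ := isConj_iff.1 hx
  have hle : R.map (MulAut.conj g⁻¹).toMonoidHom ≤ centralizer {t} := by
    rintro _ ⟨r, hr, rfl⟩
    rw [mem_centralizer_singleton_iff]
    simp only [MulEquiv.coe_toMonoidHom, MulAut.conj_apply, inv_inv]
    calc g⁻¹ * r * g * t = g⁻¹ * (r * (g * t * g⁻¹)) * g := by group
      _ = g⁻¹ * (g * t * g⁻¹ * r) * g := by rw [hc r hr]
      _ = t * (g⁻¹ * r * g) := by group
  obtain ⟨c, hc', hQ⟩ := h.Tmax _ hle (hR.map _)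
  refine ⟨c * g⁻¹, ?_, fun r hr => ?_⟩
  · have := mem_centralizer_singleton_iff.1 hc'
    calc c * g⁻¹ * (g * t * g⁻¹) * (c * g⁻¹)⁻¹ = c * t * c⁻¹ := by group
      _ = t := by rw [this]; group
  · have := hQ _ (mem_map_of_mem _ hr)
    simp only [MulEquiv.coe_toMonoidHom, MulAut.conj_apply, inv_inv] at this
    convert this using 1
    group

theorem card_cent_le (h : Hyp t T D) {x : G} (hx : IsConj t x) {R : Subgroup G}
    (hR : IsPGroup 2 R) (hc : ∀ r ∈ R, r * x = x * r) : Nat.card R ≤ Nat.card T := by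
  obtain ⟨k, -, hk⟩ := h.exists_into_T hx hR hc
  refine Nat.card_le_card_of_injective (fun r => ⟨k * r * k⁻¹, hk r r.2⟩) fun a b e => ?_
  exact Subtype.ext (conj_injective (congrArg Subtype.val e))

/-- `T` is the only 2-subgroup of the centralizer containing `T`. -/
theorem mem_T (h : Hyp t T D) {R : Subgroup G} (hR : IsPGroup 2 R) (hTR : T ≤ R) {x : G}
    (hx : x ∈ R) (hxt : x * t = t * x) : x ∈ T := by
  set Q := R ⊓ centralizer ({t} : Set G) with hQ
  have hTQ : T ≤ Q := le_inf hTR h.Tle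
  have hle : Nat.card Q ≤ Nat.card T :=
    h.card_cent_le (IsConj.refl t) (hR.to_le inf_le_left)
      fun r hr => mem_centralizer_singleton_iff.1 hr.2
  have := Subgroup.eq_of_le_of_card_ge hTQ hle
  rw [this]
  exact ⟨hx, mem_centralizer_singleton_iff.2 hxt⟩

/-- The conjugates of an element of `J` under a 2-group: the orbit bound. -/
theorem class_card (h : Hyp t T D) {x : G} (hx : IsConj t x) {R : Subgroup G} (hR : IsPGroup 2 R)
    (s : Set G) (hs : ∀ r ∈ R, r * x * r⁻¹ ∈ s) :
    Nat.card R ≤ Nat.card T * Nat.card s := by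
  classical
  haveI : Fintype R := Fintype.ofFinite _
  set Q := R ⊓ centralizer ({x} : Set G) with hQ
  have hQle : Nat.card Q ≤ Nat.card T := h.card_cent_le hx (hR.to_le inf_le_left)
    fun r hr => mem_centralizer_singleton_iff.1 hr.2
  have hi : (Q.subgroupOf R).index ≤ Nat.card s := by
    rw [Subgroup.index_eq_card]
    refine Nat.card_le_card_of_injective
      (Quotient.lift (fun r : R => (⟨r * x * (r : G)⁻¹, hs r r.2⟩ : s)) ?_) ?_
    · intro a b hab
      have h' : (a : G)⁻¹ * b ∈ centralizer ({x} : Set G) :=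
        (mem_subgroupOf.1 (QuotientGroup.leftRel_apply.1 hab)).2
      refine Subtype.ext ?_
      show (a : G) * x * (a : G)⁻¹ = b * x * (b : G)⁻¹
      calc (a : G) * x * (a : G)⁻¹ = a * (x * ((a : G)⁻¹ * b)) * (b : G)⁻¹ := by group
        _ = a * (((a : G)⁻¹ * b) * x) * (b : G)⁻¹ := by rw [mem_centralizer_singleton_iff.1 h']
        _ = b * x * (b : G)⁻¹ := by group
    · rintro ⟨a⟩ ⟨b⟩ hab
      have hab' : (a : G) * x * (a : G)⁻¹ = b * x * (b : G)⁻¹ := congrArg Subtype.val hab
      refine QuotientGroup.eq.2 (mem_subgroupOf.2 (Subgroup.mem_inf.2 ⟨?_, ?_⟩))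
      · exact mul_mem (inv_mem a.2) b.2
      rw [mem_centralizer_singleton_iff]
      show (a : G)⁻¹ * b * x = x * ((a : G)⁻¹ * b)
      calc (a : G)⁻¹ * b * x = (a : G)⁻¹ * (b * x * (b : G)⁻¹) * b := by group
        _ = (a : G)⁻¹ * (a * x * (a : G)⁻¹) * b := by rw [hab']
        _ = x * ((a : G)⁻¹ * b) := by group
  have hmul := Subgroup.card_mul_index (Q.subgroupOf R)
  rw [Nat.card_congr (subgroupOfEquivOfLe (inf_le_left : Q ≤ R)).toEquiv] at hmul
  rw [← hmul]
  exact Nat.mul_le_mul hQle hi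

/-- The index of `T` in the centralizer is odd. -/
theorem card_cent (h : Hyp t T D) :
    ∃ o, Odd o ∧ Nat.card (centralizer ({t} : Set G)) = Nat.card T * o := by
  haveI : Fact (Nat.Prime 2) := ⟨Nat.prime_two⟩
  set C := centralizer ({t} : Set G) with hCdef
  refine ⟨(T.subgroupOf C).index, ?_, ?_⟩
  · obtain ⟨P, hP⟩ := (h.Tp.of_equiv (subgroupOfEquivOfLe h.Tle).symm).exists_le_sylow
    have hle : Nat.card (P : Subgroup C) ≤ Nat.card T := by
      rw [← Subgroup.card_map_of_injective C.subtype_injective]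
      refine h.card_cent_le (IsConj.refl t) (P.isPGroup'.map _) ?_
      rintro _ ⟨r, -, rfl⟩
      exact mem_centralizer_singleton_iff.1 r.2
    rw [Subgroup.eq_of_le_of_card_ge hP
      (hle.trans (Nat.card_congr (subgroupOfEquivOfLe h.Tle).toEquiv).ge)]
    exact Nat.odd_iff.2 (Nat.two_dvd_ne_zero.1 P.not_dvd_index)
  · rw [← Nat.card_congr (subgroupOfEquivOfLe h.Tle).toEquiv]
    exact (Subgroup.card_mul_index _).symm

end Hyp

end Cfsg.Agent.JanThom
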