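import Mathlib

/-!
# The facts used about a dihedral 2-group of order at least 8
-/

set_option autoImplicit false
set_option linter.style.haveILetI false

namespace Cfsg.Agent.JanThom

open DihedralGroup

variable {G : Type*} [Group G]

/-- The facts used about the dihedral subgroup `D`. -/
structure DFacts (D : Subgroup G) (z : G) (n : ℕ) : Prop where
  zD : z ∈ D
  zz : z * z = 1
  z1 : z ≠ 1
  zc : ∀ x ∈ D, z * x = x * z
  zsq : ∃ w ∈ D, w * w = z
  sq_invol : ∀ w ∈ D, (w * w) * (w * w) = 1 → w * w = 1 ∨ w * w = z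
  central : ∀ x ∈ D, x * x = 1 → (∀ d ∈ D, x * d = d * x) → x = 1 ∨ x = z
  prodInvol : ∀ x ∈ D, ∃ a ∈ D, ∃ b ∈ D, a * a = 1 ∧ b * b = 1 ∧ x = a * b
  refl_exists : ∃ s ∈ D, s * s = 1 ∧ s ≠ 1 ∧ s ≠ z
  order4 : ∀ d ∈ D, d * d = z → ∀ s ∈ D, s * s = 1 → s ≠ 1 → s ≠ z →
    z * (d * s) * (z * (d * s)) = 1 ∧ z * (d * s) ≠ 1 ∧ d * s * d⁻¹ = s * z
  count : Nat.card {x : G // x ∈ D ∧ x * x = 1} = n + 2
  cardD : Nat.card D = 2 * n
  n4 : 4 ∣ n

theorem two_torsion {k : ℕ} {a : ZMod (2 ^ (k + 2))} (ha : a + a = 0) :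
    a = 0 ∨ a = ((2 ^ (k + 1) : ℕ) : ZMod (2 ^ (k + 2))) := by
  haveI : NeZero (2 ^ (k + 2)) := ⟨by positivity⟩
  have hv := a.val_lt
  have hd : 2 ^ (k + 2) ∣ a.val + a.val := by
    rw [← ZMod.natCast_eq_zero_iff, Nat.cast_add, ZMod.natCast_zmod_val]
    exact ha
  obtain ⟨j, hj⟩ := hd
  have h2 : 2 ^ (k + 2) = 2 * 2 ^ (k + 1) := by ring
  have hj2 : j < 2 := by
    by_contra hge
    have : 2 ^ (k + 2) * 2 ≤ 2 ^ (k + 2) * j := Nat.mul_le_mul_left _ (by omega)
    omega
  interval_cases j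
  · left
    exact (ZMod.val_eq_zero a).1 (by omega)
  · right
    rw [← ZMod.natCast_zmod_val a]
    congr 1
    omega

/-- The central rotation. -/
def half (k : ℕ) : ZMod (2 ^ (k + 2)) := ((2 ^ (k + 1) : ℕ) : ZMod (2 ^ (k + 2)))

theorem half_add (k : ℕ) : half k + half k = 0 := by
  rw [half, ← Nat.cast_add, ← two_mul, ← pow_succ']
  exact ZMod.natCast_self _

theorem half_ne (k : ℕ) : half k ≠ 0 := by
  rw [half, Ne, ZMod.natCast_eq_zero_iff, Nat.pow_dvd_pow_iff_le_right one_lt_two]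
  omega

theorem half_neg (k : ℕ) : -half k = half k := neg_eq_of_add_eq_zero_left (half_add k)

theorem dfacts {D : Subgroup G} {k : ℕ} (e : D ≃* DihedralGroup (2 ^ (k + 2))) :
    ∃ z, DFacts D z (2 ^ (k + 2)) := by
  haveI : NeZero (2 ^ (k + 2)) := ⟨by positivity⟩
  have key : ∀ {x : G} (hx : x ∈ D) {u : DihedralGroup (2 ^ (k + 2))},
      e ⟨x, hx⟩ = u ↔ x = (e.symm u : G) := by
    intro x hx u
    rw [← e.eq_symm_apply, Subtype.ext_iff]
  set z : G := (e.symm (r (half k)) : G) with hz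
  have hez : e ⟨z, (e.symm (r (half k))).2⟩ = r (half k) := (key _).2 hz
  have em : ∀ {x y : G} (hx : x ∈ D) (hy : y ∈ D),
      e ⟨x * y, mul_mem hx hy⟩ = e ⟨x, hx⟩ * e ⟨y, hy⟩ := fun hx hy => map_mul e ⟨_, hx⟩ ⟨_, hy⟩
  have e1 : ∀ h : (1 : G) ∈ D, e ⟨1, h⟩ = 1 := fun h => map_one e
  have inj : ∀ {x y : G} (hx : x ∈ D) (hy : y ∈ D), e ⟨x, hx⟩ = e ⟨y, hy⟩ → x = y :=
    fun hx hy h => congrArg Subtype.val (e.injective h)
  have hzD : z ∈ D := (e.symm (r (half k))).2
  have hzz : z * z = 1 := inj (mul_mem hzD hzD) (one_mem D) (by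
    rw [em hzD hzD, e1, hez, r_mul_r, half_add, one_def])
  have htt : ∀ {x : G} (hx : x ∈ D), x * x = 1 → ∀ {a}, e ⟨x, hx⟩ = r a → x = 1 ∨ x = z := by
    intro x hx hxx a ha
    have h := em hx hx
    rw [show (⟨x * x, mul_mem hx hx⟩ : D) = ⟨1, one_mem D⟩ from Subtype.ext hxx, e1, ha, r_mul_r,
      one_def, r.injEq] at h
    rcases two_torsion h.symm with rfl | h'
    · exact Or.inl (inj hx (one_mem D) (by rw [ha, e1, one_def]))
    · exact Or.inr ((key hx).1 (by rw [ha, h']; rfl))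
  have hfix : ∀ {x : G} (hx : x ∈ D), x = z → e ⟨x, hx⟩ = r (half k) := by
    rintro x hx rfl; exact hez
  refine ⟨z, hzD, hzz, fun h => half_ne k ?_, ?_, ?_, ?_, ?_, ?_, ?_, ?_, ?_, ?_,
    ⟨2 ^ k, by ring⟩⟩
  · have h' := hfix (one_mem D) h.symm
    rw [e1, one_def, r.injEq] at h'
    exact h'.symm
  · intro x hx
    refine inj (mul_mem hzD hx) (mul_mem hx hzD) ?_
    rw [em hzD hx, em hx hzD, hez]
    rcases e ⟨x, hx⟩ with a | a
    · rw [r_mul_r, r_mul_r, add_comm (half k) a]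
    · rw [r_mul_sr, sr_mul_r, sub_eq_add_neg, half_neg]
  · refine ⟨_, (e.symm (r ((2 ^ k : ℕ) : ZMod (2 ^ (k + 2))))).2, ?_⟩
    rw [hz]
    refine congrArg Subtype.val (?_ : e.symm _ * e.symm _ = e.symm _)
    rw [← map_mul, r_mul_r, ← Nat.cast_add, ← two_mul, ← pow_succ']
    rfl
  · intro x hx hxx
    rcases h : e ⟨x, hx⟩ with a | a
    · exact htt (mul_mem hx hx) hxx (a := a + a) (by rw [em hx hx, h, r_mul_r])
    · left
      exact inj (mul_mem hx hx) (one_mem D) (by rw [em hx hx, h, sr_mul_self, e1])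
  · intro x hx hxx hc
    rcases h : e ⟨x, hx⟩ with a | a
    · exact htt hx hxx h
    · exfalso
      obtain ⟨g, hg⟩ : ∃ g : D, e g = r 1 := ⟨e.symm (r 1), e.apply_symm_apply _⟩
      have h' := congrArg e (Subtype.ext (hc g g.2) : (⟨x * g, mul_mem hx g.2⟩ : D) = ⟨g * x, mul_mem g.2 hx⟩)
      rw [em hx g.2, em g.2 hx, h, hg, sr_mul_r, r_mul_sr, sr.injEq] at h'
      have h2 : ((2 : ℕ) : ZMod (2 ^ (k + 2))) = 0 := by push_cast; linear_combination h'
      rw [ZMod.natCast_eq_zero_iff] at h2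
      have := Nat.le_of_dvd two_pos h2
      have : 2 ^ 2 ≤ 2 ^ (k + 2) := Nat.pow_le_pow_right two_pos (by omega)
      omega
  · intro x hx
    rcases h : e ⟨x, hx⟩ with a | a
    · refine ⟨_, (e.symm (sr 0)).2, _, (e.symm (sr a)).2, ?_, ?_, ?_⟩
      · refine congrArg Subtype.val (?_ : e.symm (sr 0) * e.symm (sr 0) = 1)
        rw [← map_mul, sr_mul_self, map_one]
      · refine congrArg Subtype.val (?_ : e.symm (sr a) * e.symm (sr a) = 1)
        rw [← map_mul, sr_mul_self, map_one]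
      · rw [(key hx).1 h]
        refine congrArg Subtype.val (?_ : e.symm (r a) = e.symm (sr 0) * e.symm (sr a))
        rw [← map_mul, sr_mul_sr, sub_zero]
    · refine ⟨x, hx, 1, one_mem D, inj (mul_mem hx hx) (one_mem D) ?_, one_mul 1, (mul_one x).symm⟩
      rw [em hx hx, h, sr_mul_self, e1]
  · refine ⟨_, (e.symm (sr 0)).2, ?_, fun h => ?_, fun h => ?_⟩
    · refine congrArg Subtype.val (?_ : e.symm (sr 0) * e.symm (sr 0) = 1)
      rw [← map_mul, sr_mul_self, map_one]
    · have h' : e.symm (sr (0 : ZMod (2 ^ (k + 2)))) = 1 := Subtype.ext h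
      rw [e.symm_apply_eq, map_one, one_def] at h'
      exact nomatch h'
    · have h' : e.symm (sr (0 : ZMod (2 ^ (k + 2)))) = e.symm (r (half k)) := Subtype.ext h
      exact nomatch (e.symm.injective h')
  · intro d hd hdz s hs hss hs1 hsz
    rcases hd' : e ⟨d, hd⟩ with a | a
    · rcases hs' : e ⟨s, hs⟩ with b | b
      · exact absurd (htt hs hss hs') (by simp [hs1, hsz])
      · have hhalf := hfix (mul_mem hd hd) hdz
        rw [em hd hd, hd', r_mul_r, r.injEq] at hhalf
        have hm := mul_mem hzD (mul_mem hd hs)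
        refine ⟨?_, fun h => ?_, ?_⟩
        · refine inj (mul_mem hm hm) (one_mem D) ?_
          rw [em hm hm, em hzD (mul_mem hd hs), em hd hs, e1, hez, hd', hs', r_mul_sr, r_mul_sr,
            sr_mul_self]
        · have h' := congrArg e (Subtype.ext h : (⟨_, hm⟩ : D) = ⟨1, one_mem D⟩)
          rw [em hzD (mul_mem hd hs), em hd hs, e1, hez, hd', hs', r_mul_sr, r_mul_sr, one_def] at h'
          exact nomatch h'
        · refine inj (mul_mem (mul_mem hd hs) (inv_mem hd)) (mul_mem hs hzD) ?_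
          have ei : e ⟨d⁻¹, inv_mem hd⟩ = (e ⟨d, hd⟩)⁻¹ := map_inv e ⟨d, hd⟩
          rw [em (mul_mem hd hs) (inv_mem hd), em hd hs, ei, em hs hzD, hez, hd', hs', r_mul_sr,
            inv_r, sr_mul_r, sr_mul_r, sr.injEq, ← hhalf]
          have h4 := half_add k
          rw [← hhalf] at h4
          linear_combination -h4
    · exfalso
      have h := hfix (mul_mem hd hd) hdz
      rw [em hd hd, hd', sr_mul_self, one_def, r.injEq] at h
      exact half_ne k h.symm
  · -- counting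
    have ecard : Nat.card {x : G // x ∈ D ∧ x * x = 1} =
        Nat.card {u : DihedralGroup (2 ^ (k + 2)) // u * u = 1} := by
      refine Nat.card_congr ⟨fun x => ⟨e ⟨x.1, x.2.1⟩, by
          rw [← em x.2.1 x.2.1, ← e1 (one_mem D)]; congr 1; exact Subtype.ext x.2.2⟩,
        fun u => ⟨e.symm u.1, (e.symm u.1).2, congrArg Subtype.val
          (show e.symm u.1 * e.symm u.1 = 1 by rw [← map_mul, u.2, map_one])⟩, fun x => ?_, fun u => ?_⟩
      · exact Subtype.ext ((key x.2.1).1 rfl).symm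
      · exact Subtype.ext ((key _).2 rfl)
    rw [ecard]
    let f : Bool ⊕ ZMod (2 ^ (k + 2)) → {u : DihedralGroup (2 ^ (k + 2)) // u * u = 1} := fun p =>
      match p with
      | .inl false => ⟨1, one_mul 1⟩
      | .inl true => ⟨r (half k), by rw [r_mul_r, half_add, one_def]⟩
      | .inr i => ⟨sr i, sr_mul_self i⟩
    have hf : Function.Bijective f := by
      constructor
      · have hh := half_ne k
        rintro ((_ | _) | i) ((_ | _) | j) h <;> have h' := congrArg Subtype.val h <;>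
          dsimp [f] at h' <;> simp only [DihedralGroup.one_def, r.injEq, sr.injEq, reduceCtorEq] at h' <;>
          first
          | rfl
          | exact absurd h' hh
          | exact absurd h'.symm hh
          | rw [h']
      · rintro ⟨u, hu⟩
        rcases u with a | a
        · rw [r_mul_r, one_def, r.injEq] at hu
          rcases two_torsion hu with rfl | rfl
          · exact ⟨.inl false, Subtype.ext one_def⟩
          · exact ⟨.inl true, rfl⟩
        · exact ⟨.inr a, rfl⟩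
    rw [← Nat.card_eq_of_bijective f hf, Nat.card_sum, Nat.card_eq_fintype_card (α := Bool),
      Fintype.card_bool, Nat.card_zmod]
    omega
  · rw [Nat.card_congr e.toEquiv, DihedralGroup.nat_card]

end Cfsg.Agent.JanThom
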