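import Cfsg.Agent.JanThom.Basic
import Cfsg.Agent.JanThom.Dihedral
import Mathlib.GroupTheory.Transfer

/-!
# The dihedral case is impossible
-/

set_option autoImplicit false
set_option linter.style.haveILetI false
set_option linter.unusedSectionVars false

namespace Cfsg.Agent.JanThom

open Subgroup

variable {G : Type*} [Group G] [Finite G] {t z : G} {T D : Subgroup G} {n : ℕ}

namespace Hyp

/-- The unique involution of `T` which is a square. -/
theorem sq_eq_z (h : Hyp t T D) (hz : DFacts D z n) {w : G} (hw : w ∈ T)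
    (h1 : w * w ≠ 1) (h2 : w * w * (w * w) = 1) : w * w = z := by
  rcases h.split w hw with h' | h'
  · exact (hz.sq_invol w h' h2).resolve_left h1
  · have e : w * w = t * w * (t * w) := by
      rw [mul_assoc t w, ← mul_assoc w t, ← h.comm_t hw, mul_assoc, h.t_mul_t_mul]
    rw [e] at h1 h2 ⊢
    exact (hz.sq_invol _ h' h2).resolve_left h1

theorem z_central (h : Hyp t T D) (hz : DFacts D z n) {x : G} (hx : x ∈ T) : x * z = z * x := by
  rcases h.split x hx with h' | h'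
  · exact (hz.zc x h').symm
  · have e := hz.zc _ h'
    have ht := h.comm_t (h.DT hz.zD)
    rw [← mul_assoc, ← ht, mul_assoc, mul_assoc] at e
    exact (mul_left_cancel e).symm

theorem norm_fix_z (h : Hyp t T D) (hz : DFacts D z n) {g : G}
    (hg : g ∈ normalizer (T : Set G)) : g * z * g⁻¹ = z := by
  obtain ⟨w, hw, hwz⟩ := hz.zsq
  have hgw : g * w * g⁻¹ ∈ T := (mem_normalizer_iff.1 hg w).1 (h.DT hw)
  have e : g * w * g⁻¹ * (g * w * g⁻¹) = g * z * g⁻¹ := by rw [← hwz]; group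
  rw [← e]
  refine h.sq_eq_z hz hgw ?_ ?_
  · rw [e]
    exact fun hh => hz.z1 (conj_eq_one_iff.1 hh)
  · rw [e]
    calc g * z * g⁻¹ * (g * z * g⁻¹) = g * (z * z) * g⁻¹ := by group
      _ = 1 := by rw [hz.zz, mul_one, mul_inv_cancel]

theorem exists_grow (h : Hyp t T D) (S : Sylow 2 G) (hTS : T ≤ (S : Subgroup G))
    (hne : Nat.card (S : Subgroup G) ≠ Nat.card T) :
    ∃ g ∈ (S : Subgroup G), g ∉ T ∧ g ∈ normalizer (T : Set G) ∧ g * t * g⁻¹ ≠ t := by
  obtain ⟨g, hgS, hgT, hgN⟩ := normalizer_grow S.isPGroup' hTS fun e => hne (by rw [← e])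
  refine ⟨g, hgS, hgT, hgN, fun e => hgT (h.mem_T S.isPGroup' hTS hgS ?_)⟩
  rwa [← mul_inv_eq_iff_eq_mul]

theorem not_conj_z (h : Hyp t T D) (hz : DFacts D z n) : ¬ IsConj t z := by
  intro hj
  haveI : Fact (Nat.Prime 2) := ⟨Nat.prime_two⟩
  obtain ⟨S, hS⟩ := h.Tp.exists_le_sylow
  by_cases hcard : Nat.card (S : Subgroup G) = Nat.card T
  · have hST : T = (S : Subgroup G) := Subgroup.eq_of_le_of_card_ge hS hcard.le
    obtain ⟨g, hg⟩ := isConj_iff.1 hj
    obtain ⟨k, hk, hkz⟩ := S.conj_eq_normalizer_conj_of_mem_centralizer t g⁻¹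
      (mem_centralizer_iff.2 fun x hx => (h.comm_t (hST ▸ hx)).symm)
      (mem_centralizer_iff.2 fun x hx => by
        rw [inv_inv, hg]
        exact h.z_central hz (hST ▸ hx))
    rw [inv_inv, hg] at hkz
    have hk' : k ∈ normalizer (T : Set G) := by rw [hST]; exact hk
    have h2 := h.norm_fix_z hz hk'
    have ht : t = z := by
      calc t = k * (k⁻¹ * t * k) * k⁻¹ := by group
        _ = k * z * k⁻¹ := by rw [← hkz]
        _ = z := h2
    exact h.tD (ht ▸ hz.zD)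
  · obtain ⟨g, hgS, hgT, hgN, -⟩ := h.exists_grow S hS hcard
    set R := (S : Subgroup G) ⊓ normalizer (T : Set G) with hR
    have hTR : T ≤ R := le_inf hS le_normalizer
    have h1 := h.card_cent_le hj (S.isPGroup'.to_le (inf_le_left : R ≤ _)) fun r hr =>
      mul_inv_eq_iff_eq_mul.1 (h.norm_fix_z hz hr.2)
    exact hgT ((Subgroup.eq_of_le_of_card_ge hTR h1) ▸ ⟨hgS, hgN⟩)

theorem not_conj_D (h : Hyp t T D) (hz : DFacts D z n) {x : G} (hx : x ∈ D) : ¬ IsConj t x := by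
  intro hj
  obtain ⟨c, -, hc⟩ := h.invConj x hx z hz.zD
    (orderOf_two (ne_one_of_conj h.t2 hj) (mul_self_of_conj h.t2 hj)) (orderOf_two hz.z1 hz.zz)
  exact h.not_conj_z hz (hj.trans (isConj_iff.2 ⟨c, hc⟩))

/-- The involutions of `T` outside `D` are conjugate to `t`, given that `tz` is. -/
theorem conj_of_notMem (h : Hyp t T D) (hz : DFacts D z n) (htz : IsConj t (t * z)) {x : G}
    (hx : x ∈ T) (hxD : x ∉ D) (hxx : x * x = 1) : IsConj t x := by
  have hd := h.tmul_mem hx hxD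
  have hdd : t * x * (t * x) = 1 := by
    rw [mul_assoc t x, ← mul_assoc x t, ← h.comm_t hx, mul_assoc t x, h.t_mul_t_mul, hxx]
  by_cases h1 : t * x = 1
  · have : x = t := by rw [← h.t_mul_t_mul x, h1, mul_one]
    rw [this]
  obtain ⟨c, hc, hcd⟩ := h.invConj z hz.zD _ hd (orderOf_two hz.z1 hz.zz) (orderOf_two h1 hdd)
  refine htz.trans (isConj_iff.2 ⟨c, ?_⟩)
  have hct : c * t = t * c := mem_centralizer_singleton_iff.1 hc
  calc c * (t * z) * c⁻¹ = c * t * (z * c⁻¹) := by group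
    _ = t * c * (z * c⁻¹) := by rw [hct]
    _ = t * (c * z * c⁻¹) := by group
    _ = x := by rw [hcd, h.t_mul_t_mul]

/-- For `a` conjugate to `t` and an involution `d ≠ a` commuting with it, exactly one of `d`, `ad`
is conjugate to `t`. -/
theorem lem_pair (h : Hyp t T D) (hz : DFacts D z n) (htz : IsConj t (t * z)) {a d : G}
    (ha : IsConj t a) (hd : d * d = 1) (hd1 : d ≠ 1) (_hda : d ≠ a) (hc : d * a = a * d) :
    IsConj t d ↔ ¬ IsConj t (a * d) := by
  have hR : IsPGroup 2 (zpowers d) := IsPGroup.of_card (n := 1) (by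
    rw [Nat.card_zpowers, pow_one, orderOf_two hd1 hd])
  obtain ⟨k, hka, hk⟩ := h.exists_into_T ha hR (fun r hr => by
    obtain ⟨i, rfl⟩ := mem_zpowers_iff.1 hr
    exact (Commute.zpow_left hc i).eq)
  have hd' := hk d (mem_zpowers d)
  have hdd : k * d * k⁻¹ * (k * d * k⁻¹) = 1 := by
    calc k * d * k⁻¹ * (k * d * k⁻¹) = k * (d * d) * k⁻¹ := by group
      _ = 1 := by rw [hd, mul_one, mul_inv_cancel]
  have e1 : IsConj t d ↔ IsConj t (k * d * k⁻¹) :=
    ⟨fun e => e.trans (isConj_iff.2 ⟨k, rfl⟩), fun e => e.trans (isConj_iff.2 ⟨k, rfl⟩).symm⟩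
  have e2 : IsConj t (a * d) ↔ IsConj t (t * (k * d * k⁻¹)) := by
    have : k * (a * d) * k⁻¹ = t * (k * d * k⁻¹) := by rw [← hka]; group
    exact ⟨fun e => e.trans (isConj_iff.2 ⟨k, this⟩),
      fun e => e.trans (isConj_iff.2 ⟨k, this⟩).symm⟩
  rw [e1, e2]
  rcases h.split _ hd' with hD | hD
  · refine iff_of_false (h.not_conj_D hz hD) (not_not.2 ?_)
    refine h.conj_of_notMem hz htz (mul_mem h.tT hd') (h.tmul_notMem hD) ?_
    rw [mul_assoc t _ (t * _), ← mul_assoc (k * d * k⁻¹) t, ← h.comm_t hd',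
      mul_assoc t (k * d * k⁻¹), h.t_mul_t_mul, hdd]
  · refine iff_of_true (h.conj_of_notMem hz htz hd' (fun hmem => h.tmul_notMem hmem hD) hdd)
      (h.not_conj_D hz hD)

/-- No reflection is centralised by `u`. -/
theorem no_fixed_refl (h : Hyp t T D) (hz : DFacts D z n) (htz : IsConj t (t * z)) {u w d s : G}
    (hu : IsConj t u) (hw : IsConj t w) (huT : u ∉ T) (hut : u * t * u = t * z)
    (hd : d ∈ D) (hdz : d * d = z) (hud : u * d * u = d) (hwe : w = u * (t * d))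
    (hs : s ∈ D) (hss : s * s = 1) (hs1 : s ≠ 1) (hsz : s ≠ z) (hus : u * s * u = s) : False := by
  have huu := mul_self_of_conj h.t2 hu
  have hcomm : s * u = u * s := by
    calc s * u = u * s * u * u := by rw [hus]
      _ = u * s := by rw [mul_assoc, huu, mul_one]
  have huy : IsConj t (u * s) := by
    by_contra hn
    exact h.not_conj_D hz hs ((h.lem_pair hz htz hu hss hs1
      (fun e => huT (e ▸ h.DT hs)) hcomm).2 hn)
  have hyy := mul_self_of_conj h.t2 huy
  obtain ⟨hd2, hd21, -⟩ := hz.order4 d hd hdz s hs hss hs1 hsz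
  have hdD : z * (d * s) ∈ D := mul_mem hz.zD (mul_mem hd hs)
  have hwy : w * (u * s) = t * (z * (d * s)) := by
    have e1 : u * t * d * u = t * z * d := by
      calc u * t * d * u = u * t * (u * u) * d * u := by rw [huu, mul_one]
        _ = u * t * u * (u * d * u) := by group
        _ = t * z * d := by rw [hut, hud]
    calc w * (u * s) = u * t * d * u * s := by rw [hwe]; group
      _ = t * (z * (d * s)) := by rw [e1]; group
  have hprod : IsConj t (w * (u * s)) := by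
    rw [hwy]
    refine h.conj_of_notMem hz htz (mul_mem h.tT (h.DT hdD)) (h.tmul_notMem hdD) ?_
    rw [mul_assoc t _ (t * _), ← mul_assoc (z * (d * s)) t, ← h.comm_t (h.DT hdD),
      mul_assoc t (z * (d * s)), h.t_mul_t_mul, hd2]
  have hww := mul_self_of_conj h.t2 hw
  have hpp := mul_self_of_conj h.t2 hprod
  have hne : u * s ≠ w := fun e => ne_one_of_conj h.t2 hprod (by rw [e, hww])
  have hcom : u * s * w = w * (u * s) := by
    calc u * s * w = w * w * (u * s) * w * ((u * s) * (u * s)) := by rw [hww, hyy, one_mul, mul_one]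
      _ = w * (w * (u * s) * (w * (u * s))) * (u * s) := by group
      _ = w * (u * s) := by rw [hpp, mul_one]
  exact (h.lem_pair hz htz hw hyy (ne_one_of_conj h.t2 huy) hne hcom).1 huy hprod

theorem caseA_index (h : Hyp t T D) (hz : DFacts D z n) :
    ∃ (S : Sylow 2 G) (g : G), T ≤ (S : Subgroup G) ∧ g ∈ (S : Subgroup G) ∧ g ∉ T ∧
      g * t * g⁻¹ = t * z ∧ Nat.card (S : Subgroup G) = 2 * Nat.card T ∧
      (∀ x ∈ T, ∀ r ∈ (S : Subgroup G), r * x * r⁻¹ ∈ T) ∧
      (∀ x ∈ D, ∀ r ∈ (S : Subgroup G), r * x * r⁻¹ ∈ D) ∧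
      IsConj t (t * z) ∧ jcount t T = n + 2 := by
  haveI : Fact (Nat.Prime 2) := ⟨Nat.prime_two⟩
  obtain ⟨S, hS⟩ := h.Tp.exists_le_sylow
  obtain ⟨j, hj⟩ := hz.n4
  by_cases hcard : Nat.card (S : Subgroup G) = Nat.card T
  · exfalso
    obtain ⟨f, hf, hfle, hdiv, -⟩ := parity h.simple h.ncomm h.t2 D
    rw [jcount_eq_zero (fun x hx => h.not_conj_D hz hx), zero_mul, Nat.mul_eq_zero] at hf
    have hf0 : f = 0 := hf.resolve_right Nat.card_pos.ne'
    obtain ⟨o, ⟨o', rfl⟩, hi⟩ := index_eq S (X := D) (k := 2) (by rw [hcard, h.card_T])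
    omega
  obtain ⟨g, hgS, hgT, hgN, hgt⟩ := h.exists_grow S hS hcard
  have hgtT : g * t * g⁻¹ ∈ T := (mem_normalizer_iff.1 hgN t).1 h.tT
  have hjj : IsConj t (g * t * g⁻¹) := isConj_iff.2 ⟨g, rfl⟩
  have hcen : ∀ x ∈ T, g * t * g⁻¹ * x = x * (g * t * g⁻¹) := fun x hx => by
    have hx' : g⁻¹ * x * g ∈ T := (mem_normalizer_iff.1 hgN _).2 (by
      rwa [show g * (g⁻¹ * x * g) * g⁻¹ = x by group])
    calc g * t * g⁻¹ * x = g * (t * (g⁻¹ * x * g)) * g⁻¹ := by group
      _ = g * ((g⁻¹ * x * g) * t) * g⁻¹ := by rw [h.comm_t hx']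
      _ = x * (g * t * g⁻¹) := by group
  have hgtz : g * t * g⁻¹ = t * z := by
    rcases h.split _ hgtT with h1 | h1
    · exact absurd hjj (h.not_conj_D hz h1)
    · have hsq : t * (g * t * g⁻¹) * (t * (g * t * g⁻¹)) = 1 := by
        rw [mul_assoc t _ (t * _), ← mul_assoc (g * t * g⁻¹) t, ← h.comm_t hgtT,
          mul_assoc t (g * t * g⁻¹), h.t_mul_t_mul, mul_self_of_conj h.t2 hjj]
      rcases hz.central _ h1 hsq (fun d hd => by
        rw [mul_assoc, hcen d (h.DT hd), ← mul_assoc, h.comm_t (h.DT hd), mul_assoc]) with h2 | h2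
      · exact absurd (by rw [← h.t_mul_t_mul (g * t * g⁻¹), h2, mul_one]) hgt
      · rw [← h2, h.t_mul_t_mul]
  have htz : IsConj t (t * z) := isConj_iff.2 ⟨g, hgtz⟩
  have hJT : jcount t T = n + 2 := by
    rw [jcount, ← hz.count]
    refine (Nat.card_congr ((Equiv.mulLeft t).subtypeEquiv (p := fun x => x ∈ D ∧ x * x = 1)
      (q := fun x => x ∈ T ∧ IsConj t x) fun x => ⟨fun hx => ⟨mul_mem h.tT (h.DT hx.1),
      h.conj_of_notMem hz htz (mul_mem h.tT (h.DT hx.1)) (h.tmul_notMem hx.1) ?_⟩, fun hx => ?_⟩)).symm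
    · show t * x * (t * x) = 1
      rw [mul_assoc t _ (t * _), ← mul_assoc x t, ← h.comm_t (h.DT hx.1), mul_assoc t x,
        h.t_mul_t_mul, hx.2]
    · obtain ⟨h1, h2⟩ := hx
      have hxx := mul_self_of_conj h.t2 h2
      have hxD : t * (t * x) ∈ D := h.tmul_mem h1 (fun hD => h.not_conj_D hz hD h2)
      rw [h.t_mul_t_mul] at hxD
      refine ⟨hxD, ?_⟩
      rwa [Equiv.coe_mulLeft, mul_assoc t _ (t * _), ← mul_assoc x t, ← h.comm_t (h.DT hxD),
        mul_assoc t x, h.t_mul_t_mul] at hxx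
  obtain ⟨f, hf, hfle, hdiv, -⟩ := parity h.simple h.ncomm h.t2 T
  obtain ⟨a, ha⟩ := h.Tp.exists_card_eq
  obtain ⟨b, hb⟩ := S.isPGroup'.exists_card_eq
  have hab : a < b := by
    have hle := Nat.card_le_card_of_injective _ (Subgroup.inclusion_injective hS)
    rw [ha, hb] at hle hcard
    rcases lt_trichotomy a b with hlt | rfl | hgt
    · exact hlt
    · exact absurd rfl hcard
    · exact absurd hle (not_le.2 (Nat.pow_lt_pow_right one_lt_two hgt))
  obtain ⟨d, rfl⟩ := Nat.exists_eq_add_of_lt hab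
  obtain ⟨o, hoodd, hi⟩ := index_eq S (X := T) (k := 2 ^ (d + 1)) (by rw [hb, ha]; ring)
  obtain ⟨oC, hoC, hC⟩ := h.card_cent
  rw [hJT, hC] at hf
  have hfe : f = (n + 2) * oC :=
    Nat.eq_of_mul_eq_mul_right (Nat.card_pos (α := T)) (by rw [hf]; ring)
  have hd0 : d = 0 := by
    by_contra hd0
    obtain ⟨d', rfl⟩ : ∃ d', d = d' + 1 := ⟨d - 1, by omega⟩
    rw [show 2 ^ (d' + 1 + 1) * o = 4 * (2 ^ d' * o) by ring] at hi
    obtain ⟨oC', rfl⟩ := hoC
    rw [show (n + 2) * (2 * oC' + 1) = 4 * (2 * j * oC' + j + oC') + 2 by rw [hj]; ring] at hfe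
    omega
  subst hd0
  have hS2 : Nat.card (S : Subgroup G) = 2 * Nat.card T := by rw [hb, ha]; ring
  have hTn : ∀ x ∈ T, ∀ r ∈ (S : Subgroup G), r * x * r⁻¹ ∈ T := by
    have hidx : (T.subgroupOf (S : Subgroup G)).index = 2 := by
      have := Subgroup.card_mul_index (T.subgroupOf (S : Subgroup G))
      rw [Nat.card_congr (subgroupOfEquivOfLe hS).toEquiv, hS2] at this
      exact Nat.eq_of_mul_eq_mul_left (Nat.card_pos (α := T)) (this.trans (mul_comm _ _))
    intro x hx r hr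
    exact (Subgroup.normal_of_index_eq_two hidx).conj_mem ⟨x, hS hx⟩ hx ⟨r, hr⟩
  refine ⟨S, g, hS, hgS, hgT, hgtz, hS2, hTn, fun x hx r hr => ?_, htz, hJT⟩
  obtain ⟨p, hp, q, hq, hpp, hqq, rfl⟩ := hz.prodInvol x hx
  have hkey : ∀ p ∈ D, p * p = 1 → r * p * r⁻¹ ∈ D := by
    intro p hp hpp
    by_contra hn
    by_cases hp1 : p = 1
    · subst hp1; exact hn (by rw [mul_one, mul_inv_cancel]; exact one_mem D)
    refine h.not_conj_D hz hp ((h.conj_of_notMem hz htz (hTn p (h.DT hp) r hr) hn ?_).trans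
      (isConj_iff.2 ⟨r, rfl⟩).symm)
    calc r * p * r⁻¹ * (r * p * r⁻¹) = r * (p * p) * r⁻¹ := by group
      _ = 1 := by rw [hpp, mul_one, mul_inv_cancel]
  rw [show r * (p * q) * r⁻¹ = r * p * r⁻¹ * (r * q * r⁻¹) by group]
  exact mul_mem (hkey p hp hpp) (hkey q hq hqq)

end Hyp

end Cfsg.Agent.JanThom
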