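import Cfsg.Agent.JanThom.CaseA
import Mathlib.GroupTheory.SpecificGroups.Cyclic

/-!
# The dihedral case: the two quotients of order four
-/

set_option autoImplicit false
set_option linter.style.haveILetI false
set_option linter.unusedSectionVars false

namespace Cfsg.Agent.JanThom

open Subgroup

variable {G : Type*} [Group G] [Finite G] {t z : G} {T D : Subgroup G} {n : ℕ}

namespace Hyp

/-- The cyclic quotient `S/D`: transfer gives a contradiction. -/
theorem caseA_cyclic (h : Hyp t T D) (hz : DFacts D z n) {S : Sylow 2 G} {g : G}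
    (hS : T ≤ (S : Subgroup G)) (hgS : g ∈ (S : Subgroup G)) (hgT : g ∉ T)
    (hS2 : Nat.card (S : Subgroup G) = 2 * Nat.card T)
    (hcos : ∀ r ∈ (S : Subgroup G), r ∈ T ∨ g⁻¹ * r ∈ T)
    (hDn : ∀ x ∈ D, ∀ r ∈ (S : Subgroup G), r * x * r⁻¹ ∈ D)
    (hJT : jcount t T = n + 2) (hg2 : g * g ∉ D) : False := by
  classical
  haveI : Fact (Nat.Prime 2) := ⟨Nat.prime_two⟩
  set S₀ : Subgroup G := (S : Subgroup G)
  set D' := D.subgroupOf S₀ with hD'
  haveI : D'.Normal := ⟨fun x hx r => hDn _ hx _ r.2⟩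
  have hDS : D ≤ S₀ := h.DT.trans hS
  have hA : Nat.card (S₀ ⧸ D') = 2 ^ 2 := by
    have := Subgroup.card_mul_index D'
    rw [Nat.card_congr (subgroupOfEquivOfLe hDS).toEquiv, hS2, h.card_T] at this
    rw [← Subgroup.index_eq_card]
    exact Nat.eq_of_mul_eq_mul_left (Nat.card_pos (α := D)) (by rw [this]; ring)
  letI : CommGroup (S₀ ⧸ D') := IsPGroup.commGroupOfCardEqPrimeSq (p := 2) hA
  set φ : S₀ →* S₀ ⧸ D' := QuotientGroup.mk' D' with hφ
  have hφD : ∀ {x : S₀}, (x : G) ∈ D → φ x = 1 := fun {x} hx =>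
    (QuotientGroup.eq_one_iff x).2 (mem_subgroupOf.2 hx)
  set τ : S₀ := ⟨t, hS h.tT⟩ with hτ
  have hτ1 : φ τ ≠ 1 := fun e => h.tD (mem_subgroupOf.1 ((QuotientGroup.eq_one_iff τ).1 e))
  have hJS : ∀ x : S₀, IsConj t (x : G) → (x : G) ∈ T ∧ φ x = φ τ := by
    intro x hx
    have hxT : (x : G) ∈ T := by
      rcases hcos _ x.2 with h' | h'
      · exact h'
      exfalso
      set y : S₀ := ⟨g⁻¹ * x, mul_mem (inv_mem hgS) x.2⟩ with hy
      have hxy : x = ⟨g, hgS⟩ * y := Subtype.ext (by simp [hy])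
      have h1 : φ (x * x) = 1 := by
        rw [show x * x = 1 from Subtype.ext (mul_self_of_conj h.t2 hx), map_one]
      rw [hxy, map_mul, map_mul, mul_mul_mul_comm, ← map_mul φ y y, hφD (x := y * y) (h.sq_mem_D h'),
        mul_one, ← map_mul] at h1
      exact hg2 (mem_subgroupOf.1 ((QuotientGroup.eq_one_iff _).1 h1))
    refine ⟨hxT, ?_⟩
    have hd := h.tmul_mem hxT (fun hD => h.not_conj_D hz hD hx)
    have hx' : x = τ * ⟨t * x, mul_mem (hS h.tT) x.2⟩ := Subtype.ext (h.t_mul_t_mul _).symm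
    rw [hx', map_mul, hφD (x := ⟨t * x, _⟩) hd, mul_one]
  obtain ⟨f, hf, -, -, hfix⟩ := parity h.simple h.ncomm h.t2 S₀
  obtain ⟨oC, hoC, hC⟩ := h.card_cent
  have hv : jcount t S₀ = n + 2 := by
    rw [← hJT, jcount, jcount]
    exact Nat.card_congr (Equiv.subtypeEquivRight fun x =>
      ⟨fun hx => ⟨(hJS ⟨x, hx.1⟩ hx.2).1, hx.2⟩, fun hx => ⟨hS hx.1, hx.2⟩⟩)
  rw [hv, hC, hS2] at hf
  obtain ⟨j, hj⟩ := hz.n4
  have hfodd : Odd f := by
    have : f = (2 * j + 1) * oC := Nat.eq_of_mul_eq_mul_right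
      (show 0 < 2 * Nat.card T from Nat.mul_pos two_pos Nat.card_pos) (by rw [hf, hj]; ring)
    rw [this]
    exact Odd.mul ⟨j, rfl⟩ hoC
  letI : Fintype (Quotient (MulAction.orbitRel (zpowers t) (G ⧸ S₀))) := Fintype.ofFinite _
  have htr := hom_trivial h.simple h.ncomm (MonoidHom.transfer φ) t
  rw [MonoidHom.transfer_eq_prod_quotient_orbitRel_zpowers_quot] at htr
  set P : Quotient (MulAction.orbitRel (zpowers t) (G ⧸ S₀)) → ℕ :=
    fun q => Function.minimalPeriod (t • ·) q.out with hP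
  have hper : ∀ q, P q = 1 ∨ P q = 2 := fun q => by
    have hp : Function.IsPeriodicPt (t • ·) 2 q.out := by
      show t • (t • q.out) = q.out
      rw [smul_smul, h.tt, one_smul]
    exact (Nat.dvd_prime Nat.prime_two).1 hp.minimalPeriod_dvd
  rw [Finset.prod_congr rfl (g := fun q => if P q = 1 then φ τ else 1) (fun q _ => ?_),
    Finset.prod_ite, Finset.prod_const, Finset.prod_const_one, mul_one] at htr
  · have hcount : (Finset.univ.filter fun q => P q = 1).card = f := by
      rw [hfix, ← Fintype.card_subtype, ← Nat.card_eq_fintype_card]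
      refine Nat.card_eq_of_bijective (fun q => ⟨q.1.out, ?_⟩) ⟨fun q q' e => ?_, fun x => ?_⟩
      · exact Function.minimalPeriod_eq_one_iff_isFixedPt.1 q.2
      · have e' := congrArg Subtype.val e
        exact Subtype.ext (Quotient.out_injective e')
      · set q : Quotient (MulAction.orbitRel (zpowers t) (G ⧸ S₀)) :=
          Quotient.mk (MulAction.orbitRel (zpowers t) (G ⧸ S₀)) x.1 with hq
        have hout : q.out = x.1 := by
          have h1 : q.out ∈ MulAction.orbit (zpowers t) x.1 :=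
            MulAction.orbitRel_apply.1 (Quotient.exact (Quotient.out_eq q))
          obtain ⟨⟨r, hr⟩, hr'⟩ := h1
          rw [← hr']
          exact mem_stabilizer_iff_of_fixed hr x.2
        exact ⟨⟨q, Function.minimalPeriod_eq_one_iff_isFixedPt.2
          (show t • q.out = q.out by rw [hout]; exact x.2)⟩, Subtype.ext hout⟩
    rw [hcount] at htr
    obtain ⟨i, rfl⟩ := hfodd
    rw [pow_succ, pow_mul, pow_two, ← map_mul, show τ * τ = 1 from Subtype.ext h.tt, map_one,
      one_pow, one_mul] at htr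
    exact hτ1 htr
  · rcases hper q with hq | hq
    · rw [if_pos hq]
      refine (hJS _ (isConj_iff.2 ⟨q.out.out⁻¹, ?_⟩)).2
      show q.out.out⁻¹ * t * (q.out.out⁻¹)⁻¹ = q.out.out⁻¹ * t ^ P q * q.out.out
      rw [hq, inv_inv, pow_one]
    · rw [if_neg (by omega)]
      refine hφD ?_
      show q.out.out⁻¹ * t ^ P q * q.out.out ∈ D
      rw [hq, pow_two, h.tt, mul_one, inv_mul_cancel]
      exact one_mem D
where
  mem_stabilizer_iff_of_fixed {r : G} {X : Type _} [MulAction G X] {x : X} (hr : r ∈ zpowers t)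
      (hx : t • x = x) : r • x = x :=
    (zpowers_le.2 (MulAction.mem_stabilizer_iff.2 hx) : zpowers t ≤ MulAction.stabilizer G x) hr

/-- A class of odd half-size in `D ∪ aD`. -/
theorem exists_small_class (h : Hyp t T D) (hz : DFacts D z n) {S : Sylow 2 G} {g a : G}
    (hS : T ≤ (S : Subgroup G)) (hgS : g ∈ (S : Subgroup G))
    (hS2 : Nat.card (S : Subgroup G) = 2 * Nat.card T)
    (hgt : g * t * g⁻¹ = t * z)
    (hcos : ∀ r ∈ (S : Subgroup G), r ∈ T ∨ g⁻¹ * r ∈ T)
    (hDn : ∀ x ∈ D, ∀ r ∈ (S : Subgroup G), r * x * r⁻¹ ∈ D)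
    (haS : a ∈ (S : Subgroup G)) (haT : a ∉ T) (ha2 : a * a ∈ D) :
    ∃ u, IsConj t u ∧ u ∈ (S : Subgroup G) ∧ u ∉ T ∧ a⁻¹ * u ∈ D ∧ u * t * u = t * z ∧
      ∀ d ∈ D, u * d * u = d ∨ u * d * u = z * d := by
  classical
  haveI : Fact (Nat.Prime 2) := ⟨Nat.prime_two⟩
  set S₀ : Subgroup G := (S : Subgroup G) with hS₀
  have hDS : D ≤ S₀ := h.DT.trans hS
  have hconj : ∀ x ∈ D, a⁻¹ * x * a ∈ D := fun x hx => by
    simpa using hDn x hx _ (inv_mem haS)
  let M : Subgroup G :=
    { carrier := {r | r ∈ D ∨ a⁻¹ * r ∈ D}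
      one_mem' := Or.inl (one_mem D)
      mul_mem' := by
        rintro x y (hx | hx) (hy | hy)
        · exact Or.inl (mul_mem hx hy)
        · refine Or.inr ?_
          rw [show a⁻¹ * (x * y) = a⁻¹ * x * a * (a⁻¹ * y) by group]
          exact mul_mem (hconj x hx) hy
        · refine Or.inr ?_
          rw [← mul_assoc]
          exact mul_mem hx hy
        · refine Or.inl ?_
          rw [show x * y = a * (a⁻¹ * x) * a⁻¹ * (a * a) * (a⁻¹ * y) by group]
          exact mul_mem (mul_mem (hDn _ hx a haS) ha2) hy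
      inv_mem' := by
        rintro x (hx | hx)
        · exact Or.inl (inv_mem hx)
        · refine Or.inr ?_
          rw [show a⁻¹ * x⁻¹ = (a * a)⁻¹ * (a * (a⁻¹ * x)⁻¹ * a⁻¹) by group]
          exact mul_mem (inv_mem ha2) (hDn _ (inv_mem hx) a haS) }
  have hMS : M ≤ S₀ := by
    rintro x (hx | hx)
    · exact hDS hx
    · rw [show x = a * (a⁻¹ * x) by group]; exact mul_mem haS (hDS hx)
  have haD : a ∉ D := fun e => haT (h.DT e)
  have hMcard : Nat.card M = Nat.card T := by
    rw [h.card_T]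
    have e : Nat.card (Bool × D) = Nat.card M := by
      refine Nat.card_eq_of_bijective (fun p => if p.1 then ⟨a * p.2, Or.inr (by simp)⟩
        else ⟨p.2, Or.inl p.2.2⟩) ⟨?_, ?_⟩
      · rintro ⟨b, d, hd⟩ ⟨b', d', hd'⟩ hb
        cases b <;> cases b' <;> simp at hb ⊢
        · exact hb
        · exact haD (by rw [show a = d * d'⁻¹ by rw [hb]; group]; exact mul_mem hd (inv_mem hd'))
        · exact haD (by rw [show a = d' * d⁻¹ by rw [← hb]; group]; exact mul_mem hd' (inv_mem hd))
        · exact hb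
      · rintro ⟨x, hx | hx⟩
        · exact ⟨(false, ⟨x, hx⟩), rfl⟩
        · exact ⟨(true, ⟨_, hx⟩), Subtype.ext (mul_inv_cancel_left a x)⟩
    rw [← e, Nat.card_prod, Nat.card_eq_fintype_card (α := Bool), Fintype.card_bool]
  obtain ⟨f, hf, hfle, hdiv, -⟩ := parity h.simple h.ncomm h.t2 M
  obtain ⟨oC, hoC, hC⟩ := h.card_cent
  obtain ⟨o, ho, hi⟩ := index_eq S (X := M) (k := 2) (by rw [hMcard]; exact hS2)
  have hfe : f = jcount t M * oC := Nat.eq_of_mul_eq_mul_right (Nat.card_pos (α := T))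
    (by rw [mul_assoc, ← hMcard, hf, hC, hMcard]; ring)
  have hv4 : ¬ 4 ∣ jcount t M := fun hd => by
    obtain ⟨i, hi'⟩ := hd
    rw [hi', mul_assoc] at hfe
    obtain ⟨o', rfl⟩ := ho
    omega
  set X := {x : G // x ∈ M ∧ IsConj t x} with hX
  have hMn : ∀ r ∈ S₀, ∀ x ∈ M, r * x * r⁻¹ ∈ M := by
    have hidx : (M.subgroupOf S₀).index = 2 := by
      have := Subgroup.card_mul_index (M.subgroupOf S₀)
      rw [Nat.card_congr (subgroupOfEquivOfLe hMS).toEquiv, hS2, hMcard] at this
      exact Nat.eq_of_mul_eq_mul_left (Nat.card_pos (α := T)) (this.trans (mul_comm _ _))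
    intro r hr x hx
    exact (Subgroup.normal_of_index_eq_two hidx).conj_mem ⟨x, hMS hx⟩ hx ⟨r, hr⟩
  letI : MulAction S₀ X :=
    { smul := fun r x => ⟨r * x.1 * (r : G)⁻¹, hMn r r.2 x.1 x.2.1,
        x.2.2.trans (isConj_iff.2 ⟨r, rfl⟩)⟩
      one_smul := fun x => Subtype.ext (show (1 : G) * x.1 * (1 : G)⁻¹ = x.1 by group)
      mul_smul := fun r r' x => Subtype.ext (show (r : G) * r' * x.1 * ((r : G) * r')⁻¹ =
        r * (r' * x.1 * (r' : G)⁻¹) * (r : G)⁻¹ by group) }
  obtain ⟨x, hx⟩ : ∃ x : X, Nat.card T ≤ Nat.card (MulAction.stabilizer S₀ x) := by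
    by_contra! hall
    refine hv4 ?_
    letI : Fintype (Quotient (MulAction.orbitRel S₀ X)) := Fintype.ofFinite _
    rw [jcount, Nat.card_congr (MulAction.selfEquivSigmaOrbits S₀ X), Nat.card_sigma]
    refine Finset.dvd_sum fun q _ => ?_
    have horb : Nat.card (MulAction.orbit S₀ q.out) * Nat.card (MulAction.stabilizer S₀ q.out) =
        2 * Nat.card T := by
      rw [← hS2, Nat.card_congr (MulAction.orbitEquivQuotientStabilizer S₀ q.out),
        ← Subgroup.index_eq_card, Subgroup.index_mul_card]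
    obtain ⟨i, hi'⟩ := (S.isPGroup'.to_subgroup (MulAction.stabilizer S₀ q.out)).exists_card_eq
    obtain ⟨k, hk⟩ := h.Tp.exists_card_eq
    have hlt := hall q.out
    rw [hi', hk] at hlt
    have hik : i + 1 ≤ k := (Nat.pow_lt_pow_iff_right one_lt_two).1 hlt
    obtain ⟨l, rfl⟩ := Nat.exists_eq_add_of_le hik
    rw [hi', hk, show 2 * 2 ^ (i + 1 + l) = 4 * 2 ^ l * 2 ^ i by ring] at horb
    rw [Nat.eq_of_mul_eq_mul_right (Nat.pow_pos two_pos) horb]
    exact Dvd.intro _ rfl
  obtain ⟨u, huM, huj⟩ := x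
  set Q := (MulAction.stabilizer S₀ (⟨u, huM, huj⟩ : X)).map S₀.subtype with hQ
  have huu := mul_self_of_conj h.t2 huj
  have hQS : Q ≤ S₀ := map_subtype_le _
  have hQc : ∀ r ∈ Q, r * u = u * r := by
    rintro _ ⟨r, hr, rfl⟩
    exact mul_inv_eq_iff_eq_mul.1 (congrArg Subtype.val hr : (r : G) * u * (r : G)⁻¹ = u)
  have haD' : a⁻¹ * u ∈ D := huM.resolve_left fun e => h.not_conj_D hz e huj
  have huT : u ∉ T := fun e => haT (by
    rw [show a = u * (a⁻¹ * u)⁻¹ by group]
    exact mul_mem e (inv_mem (h.DT haD')))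
  have hut : u * t * u = t * z := by
    obtain hx | hx := hcos u (hMS huM)
    · exact absurd hx huT
    · have hc := h.comm_t hx
      have hi : u⁻¹ = u := inv_eq_of_mul_eq_one_right huu
      calc u * t * u = g * (g⁻¹ * u * t) * u⁻¹ := by rw [hi]; group
        _ = g * (t * (g⁻¹ * u)) * u⁻¹ := by rw [hc]
        _ = g * t * g⁻¹ := by group
        _ = t * z := hgt
  have hQcard : Nat.card Q = Nat.card T := le_antisymm
    (h.card_cent_le huj (S.isPGroup'.to_le hQS) hQc)
    (by rw [hQ, Subgroup.card_map_of_injective S₀.subtype_injective]; exact hx)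
  have hQidx : (Q.subgroupOf S₀).index = 2 := by
    have := Subgroup.card_mul_index (Q.subgroupOf S₀)
    rw [Nat.card_congr (subgroupOfEquivOfLe hQS).toEquiv, hS2, hQcard] at this
    exact Nat.eq_of_mul_eq_mul_left (Nat.card_pos (α := T)) (this.trans (mul_comm _ _))
  have hflip : ∀ r ∈ Q, u * r * u = r := fun r hr => by
    rw [← hQc r hr, mul_assoc, huu, mul_one]
  refine ⟨u, huj, hMS huM, huT, haD', hut, fun d hd => ?_⟩
  by_cases hdQ : d ∈ Q
  · exact Or.inl (hflip d hdQ)
  · refine Or.inr ?_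
    have htQ : t ∉ Q := fun e => hz.z1 (by
      have := hflip t e
      rw [hut] at this
      exact mul_eq_left.1 this)
    have htd : t * d ∈ Q := by
      have := (Subgroup.mul_mem_iff_of_index_two hQidx (a := ⟨t, hS h.tT⟩) (b := ⟨d, hDS hd⟩)).2
        (iff_of_false htQ hdQ)
      exact this
    have h1 := hflip _ htd
    calc u * d * u = (t * z)⁻¹ * (u * (t * d) * u) := by
          rw [← hut, show (u * t * u)⁻¹ * (u * (t * d) * u) = u⁻¹ * d * u by group,
            inv_eq_of_mul_eq_one_right huu]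
      _ = z * d := by
          rw [h1, mul_inv_rev, h.tinv, inv_eq_of_mul_eq_one_right hz.zz]
          rw [mul_assoc, h.t_mul_t_mul]

/-- The dihedral case is impossible. -/
theorem caseA (h : Hyp t T D) (hz : DFacts D z n) : False := by
  haveI : Fact (Nat.Prime 2) := ⟨Nat.prime_two⟩
  obtain ⟨S, g, hS, hgS, hgT, hgt, hS2, hTn, hDn, htz, hJT⟩ := h.caseA_index hz
  have hidx : (T.subgroupOf (S : Subgroup G)).index = 2 := by
    have := Subgroup.card_mul_index (T.subgroupOf (S : Subgroup G))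
    rw [Nat.card_congr (subgroupOfEquivOfLe hS).toEquiv, hS2] at this
    exact Nat.eq_of_mul_eq_mul_left (Nat.card_pos (α := T)) (this.trans (mul_comm _ _))
  have hcos : ∀ r ∈ (S : Subgroup G), r ∈ T ∨ g⁻¹ * r ∈ T := by
    intro r hr
    refine or_iff_not_imp_left.2 fun hrT => ?_
    exact (Subgroup.mul_mem_iff_of_index_two hidx (a := ⟨g⁻¹, inv_mem hgS⟩) (b := ⟨r, hr⟩)).2
      (iff_of_false (fun e => hgT ((inv_mem_iff).1 (mem_subgroupOf.1 e))) hrT)
  by_cases hg2 : g * g ∈ D
  swap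
  · exact h.caseA_cyclic hz hS hgS hgT hS2 hcos hDn hJT hg2
  have hsq : ∀ r ∈ (S : Subgroup G), r * r ∈ D := by
    intro r hr
    rcases hcos r hr with h' | h'
    · exact h.sq_mem_D h'
    · set y := g⁻¹ * r
      have e : r * r = g * g * (g⁻¹ * y * g) * y := by simp only [y]; group
      rw [e]
      rcases h.split y h' with hy | hy
      · refine mul_mem (mul_mem hg2 ?_) hy
        simpa using hDn y hy _ (inv_mem hgS)
      · have hw := hDn _ hy _ (inv_mem hgS)
        rw [inv_inv] at hw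
        have hcD : g⁻¹ * t * g * t ∈ D := by
          have e2 : g⁻¹ * t * g * t = g⁻¹ * (t * z)⁻¹ * g * (g⁻¹ * z * g) * t * 1 := by
            rw [mul_inv_rev]
            rw [show g⁻¹ * (z⁻¹ * t⁻¹) * g * (g⁻¹ * z * g) * t * 1 = g⁻¹ * (z⁻¹ * t⁻¹ * z) * g * t by group,
              h.tinv, inv_eq_of_mul_eq_one_right hz.zz]
            rw [show z * t * z = t from by
              rw [← h.comm_t (h.DT hz.zD), mul_assoc, hz.zz, mul_one]]
          rw [e2, mul_one, show g⁻¹ * (t * z)⁻¹ * g = t by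
            rw [← hgt, show g⁻¹ * (g * t * g⁻¹)⁻¹ * g = t⁻¹ by group, h.tinv]]
          have hz' : g⁻¹ * z * g ∈ D := by simpa using hDn z hz.zD _ (inv_mem hgS)
          rw [h.comm_t (h.DT hz'), mul_assoc, h.tt, mul_one]
          exact hz'
        have e3 : g⁻¹ * y * g * y = g⁻¹ * t * g * (g⁻¹ * (t * y) * g) * t * (t * y) := by
          rw [show g⁻¹ * t * g * (g⁻¹ * (t * y) * g) * t * (t * y) =
            g⁻¹ * (t * (t * y)) * g * (t * (t * y)) by group, h.t_mul_t_mul]
        rw [mul_assoc, e3]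
        refine mul_mem hg2 (mul_mem ?_ hy)
        rw [mul_assoc (g⁻¹ * t * g), ← h.comm_t (h.DT hw), ← mul_assoc]
        exact mul_mem hcD hw
  have htgT : t * g ∉ T := fun e => hgT (by simpa [h.t_mul_t_mul] using mul_mem h.tT e)
  have htgS : t * g ∈ (S : Subgroup G) := mul_mem (hS h.tT) hgS
  obtain ⟨u, huj, huS, huT, hgu, hut, hud⟩ :=
    h.exists_small_class hz hS hgS hS2 hgt hcos hDn hgS hgT hg2
  obtain ⟨w, hwj, hwS, hwT, htgw, hwt, -⟩ :=
    h.exists_small_class hz hS hgS hS2 hgt hcos hDn htgS htgT (hsq _ htgS)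
  have huu := mul_self_of_conj h.t2 huj
  have hww := mul_self_of_conj h.t2 hwj
  have huw : u * w ∈ T :=
    (Subgroup.mul_mem_iff_of_index_two hidx (a := ⟨u, huS⟩) (b := ⟨w, hwS⟩)).2
      (iff_of_false huT hwT)
  have huwD : u * w ∉ D := fun e => h.tD (by
    have h1 : g⁻¹ * w ∈ D := by
      rw [show g⁻¹ * w = g⁻¹ * u * (u * w) by
        rw [show g⁻¹ * u * (u * w) = g⁻¹ * (u * u) * w by group, huu, mul_one]]
      exact mul_mem hgu e
    have h2 : g⁻¹ * t * g ∈ D := by
      rw [show g⁻¹ * t * g = g⁻¹ * w * ((t * g)⁻¹ * w)⁻¹ by group]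
      exact mul_mem h1 (inv_mem htgw)
    have h3 := hDn _ h2 g hgS
    rwa [show g * (g⁻¹ * t * g) * g⁻¹ = t by group] at h3)
  obtain ⟨d, hd⟩ : ∃ d, d = t * (u * w) := ⟨_, rfl⟩
  have hdD : d ∈ D := hd ▸ h.tmul_mem huw huwD
  have hwe : w = u * (t * d) := by rw [hd, h.t_mul_t_mul, ← mul_assoc, huu, one_mul]
  have hed : u * d * u * d = z := by
    have h1 : u * (t * d) * (u * (t * d)) = 1 := by rw [← hwe]; exact hww
    have h2 : u * (t * d) * (u * (t * d)) = z * (u * d * u * d) := by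
      calc u * (t * d) * (u * (t * d)) = u * t * (u * u) * d * u * t * d := by
            rw [huu, mul_one]; group
        _ = u * t * u * (u * d * u) * t * d := by group
        _ = t * z * (u * d * u) * t * d := by rw [hut]
        _ = t * (z * (u * d * u) * t) * d := by group
        _ = t * (t * (z * (u * d * u))) * d := by
          rw [h.comm_t (h.DT (mul_mem hz.zD ?_))]
          have := hDn d hdD u huS
          rwa [inv_eq_of_mul_eq_one_right huu] at this
        _ = z * (u * d * u * d) := by rw [h.t_mul_t_mul]; group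
    rw [h2] at h1
    calc u * d * u * d = z * (z * (u * d * u * d)) := by rw [← mul_assoc z z, hz.zz, one_mul]
      _ = z := by rw [h1, mul_one]
  rcases hud d hdD with he | he
  · rw [he] at hed
    obtain ⟨s, hs, hss, hs1, hsz⟩ := hz.refl_exists
    rcases hud s hs with hus | hus
    · exact h.no_fixed_refl hz htz huj hwj huT hut hdD hed he hwe hs hss hs1 hsz hus
    · obtain ⟨-, -, hds⟩ := hz.order4 d hdD hed s hs hss hs1 hsz
      have hdi : d⁻¹ * d⁻¹ = z := by
        rw [← mul_inv_rev, hed, inv_eq_of_mul_eq_one_right hz.zz]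
      have hwi : w⁻¹ = w := inv_eq_of_mul_eq_one_right hww
      have hconjw : ∀ x ∈ D, w * x * w = u * (d * x * d⁻¹) * u := by
        intro x hx
        calc w * x * w = u * (t * d) * x * (u * (t * d))⁻¹ := by rw [← hwe, hwi]
          _ = u * (t * (d * x * d⁻¹) * t⁻¹) * u⁻¹ := by group
          _ = u * (d * x * d⁻¹) * u := by
            rw [h.comm_t (h.DT (mul_mem (mul_mem hdD hx) (inv_mem hdD))), mul_inv_cancel_right,
              inv_eq_of_mul_eq_one_right huu]
      have hzu : u * z * u = z := by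
        have := h.norm_fix_z hz (mem_normalizer_of fun x hx => hTn x hx u huS)
        rwa [inv_eq_of_mul_eq_one_right huu] at this
      have hws : w * s * w = s := by
        rw [hconjw s hs, hds]
        calc u * (s * z) * u = u * s * (u * u) * z * u := by rw [huu, mul_one]; group
          _ = u * s * u * (u * z * u) := by group
          _ = s := by rw [hus, hzu, hz.zc s hs, mul_assoc, hz.zz, mul_one]
      have hwd : w * d⁻¹ * w = d⁻¹ := by
        rw [hconjw _ (inv_mem hdD), mul_inv_cancel, one_mul]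
        calc u * d⁻¹ * u = (u⁻¹ * d * u⁻¹)⁻¹ := by group
          _ = d⁻¹ := by rw [inv_eq_of_mul_eq_one_right huu, he]
      have hue : u = w * (t * d⁻¹) := by
        rw [hwe, show u * (t * d) * (t * d⁻¹) = u * (t * (d * t) * d⁻¹) by group,
          ← h.comm_t (h.DT hdD), h.t_mul_t_mul, mul_inv_cancel, mul_one]
      exact h.no_fixed_refl hz htz hwj huj hwT hwt (inv_mem hdD) hdi hwd hue hs hss hs1 hsz hws
  · rw [he] at hed
    have hdd : d * d = 1 := by
      calc d * d = z * (z * d * d) := by rw [← mul_assoc, ← mul_assoc, hz.zz, one_mul]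
        _ = 1 := by rw [hed, hz.zz]
    have hd1 : d ≠ 1 := fun e => hz.z1 (by
      rw [e, mul_one, mul_one, huu] at he
      exact he.symm)
    have htdd : t * d * (t * d) = 1 := by
      rw [mul_assoc t d, ← mul_assoc d t, ← h.comm_t (h.DT hdD), mul_assoc t d, h.t_mul_t_mul, hdd]
    have htdJ := h.conj_of_notMem hz htz (mul_mem h.tT (h.DT hdD)) (h.tmul_notMem hdD) htdd
    have hfx : u * (t * d) * u = t * d := by
      calc u * (t * d) * u = u * t * (u * u) * d * u := by rw [huu, mul_one]; group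
        _ = u * t * u * (u * d * u) := by group
        _ = t * (z * z) * d := by rw [hut, he]; group
        _ = t * d := by rw [hz.zz, mul_one]
    have hcomm : t * d * u = u * (t * d) := by
      calc t * d * u = u * (t * d) * u * u := by rw [hfx]
        _ = u * (t * d) := by rw [mul_assoc, huu, mul_one]
    refine (h.lem_pair hz htz huj htdd (fun e => h.tmul_notMem hdD (e ▸ one_mem D))
      (fun e => huT (e ▸ mul_mem h.tT (h.DT hdD))) hcomm).1 htdJ ?_
    rw [← hwe]
    exact hwj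

end Hyp

end Cfsg.Agent.JanThom
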