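import Cfsg.Agent.JanThom.Basic
import Cfsg.Agent.JanThom.AbelBound

/-!
# The elementary abelian case
-/

set_option autoImplicit false
set_option linter.style.haveILetI false
set_option linter.unusedSectionVars false

namespace Cfsg.Agent.JanThom

open Subgroup

variable {G : Type*} [Group G] [Finite G]

/-- The elementary abelian case of the setting. -/
structure HypB (t : G) (T D : Subgroup G) : Prop extends Hyp t T D where
  hexp : ∀ x ∈ D, x * x = 1
  hfour : 4 ≤ Nat.card D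

namespace HypB

variable {t : G} {T D : Subgroup G}

theorem T_sq (h : HypB t T D) {x : G} (hx : x ∈ T) : x * x = 1 := by
  rcases h.split x hx with h' | h'
  · exact h.hexp x h'
  · have := h.hexp _ h'
    rwa [mul_assoc t x, ← mul_assoc x t, ← h.toHyp.comm_t hx, mul_assoc t x, h.toHyp.t_mul_t_mul]
      at this

theorem T_comm (h : HypB t T D) {x y : G} (hx : x ∈ T) (hy : y ∈ T) : x * y = y * x := by
  have e := h.T_sq (mul_mem hx hy)
  calc x * y = x * (x * y * (x * y)) * y := by rw [e, mul_one]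
    _ = x * x * (y * x) * (y * y) := by group
    _ = y * x := by rw [h.T_sq hx, h.T_sq hy, one_mul, mul_one]

/-- `N_C(T)` is transitive on the involutions of `D`. -/
theorem trans_D (h : HypB t T D) {a b : G} (ha : a ∈ D) (hb : b ∈ D) (ha1 : a ≠ 1) (hb1 : b ≠ 1) :
    ∃ c ∈ centralizer ({t} : Set G), (∀ x ∈ T, c * x * c⁻¹ ∈ T) ∧ c * a * c⁻¹ = b := by
  haveI : Fact (Nat.Prime 2) := ⟨Nat.prime_two⟩
  set C := centralizer ({t} : Set G) with hC
  obtain ⟨c₀, hc₀, hab⟩ := h.invConj a ha b hb (orderOf_two ha1 (h.hexp a ha))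
    (orderOf_two hb1 (h.hexp b hb))
  obtain ⟨P, hP⟩ := (h.Tp.of_equiv (subgroupOfEquivOfLe h.Tle).symm).exists_le_sylow
  have hle : Nat.card (P : Subgroup C) ≤ Nat.card T := by
    rw [← Subgroup.card_map_of_injective C.subtype_injective]
    refine h.toHyp.card_cent_le (IsConj.refl t) (P.isPGroup'.map _) ?_
    rintro _ ⟨r, -, rfl⟩
    exact mem_centralizer_singleton_iff.1 r.2
  have hPT : T.subgroupOf C = (P : Subgroup C) := Subgroup.eq_of_le_of_card_ge hP
    (hle.trans (Nat.card_congr (subgroupOfEquivOfLe h.Tle).toEquiv).ge)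
  have hmem : ∀ x : C, x ∈ P ↔ (x : G) ∈ T := fun x => by
    rw [← SetLike.mem_coe, show ((P : Sylow 2 C) : Set C) = ((P : Subgroup C) : Set C) from rfl,
      SetLike.mem_coe, ← hPT, mem_subgroupOf]
  haveI : IsMulCommutative (P : Subgroup C) := ⟨⟨fun x y =>
    Subtype.ext (Subtype.ext (h.T_comm ((hmem x.1).1 x.2) ((hmem y.1).1 y.2)))⟩⟩
  obtain ⟨k, hk, hkk⟩ := P.conj_eq_normalizer_conj_of_mem
    (⟨a, h.Tle (h.DT ha)⟩ : C) ⟨c₀⁻¹, inv_mem hc₀⟩ ((hmem _).2 (h.DT ha)) ((hmem _).2 (by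
      show (c₀⁻¹)⁻¹ * a * c₀⁻¹ ∈ T
      rw [inv_inv, hab]
      exact h.DT hb))
  refine ⟨(k⁻¹ : C), (k⁻¹).2, fun x hx => ?_, ?_⟩
  · exact (hmem (k⁻¹ * ⟨x, h.Tle hx⟩ * (k⁻¹)⁻¹)).1
      ((mem_normalizer_iff.1 (inv_mem hk) _).1 ((hmem ⟨x, h.Tle hx⟩).2 hx))
  · have e := congrArg Subtype.val hkk
    simp only [Subgroup.coe_mul, InvMemClass.coe_inv, inv_inv] at e
    rw [InvMemClass.coe_inv, inv_inv, ← e, hab]

theorem norm_D (h : HypB t T D) {c : G} (hc : c ∈ centralizer ({t} : Set G))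
    (hT : ∀ x ∈ T, c * x * c⁻¹ ∈ T) {x : G} (hx : x ∈ D) : c * x * c⁻¹ ∈ D :=
  h.Dnorm c hc x hx (hT x (h.DT hx))

/-- One element of `D` conjugate to `t` gives all of them. -/
theorem all_or_none (h : HypB t T D) {a b : G} (ha : a ∈ D) (hb : b ∈ D) (hb1 : b ≠ 1)
    (hj : IsConj t a) : IsConj t b := by
  obtain ⟨c, -, hc⟩ := h.invConj a ha b hb (orderOf_two (ne_one_of_conj h.t2 hj) (h.hexp a ha))
    (orderOf_two hb1 (h.hexp b hb))
  exact hj.trans (isConj_iff.2 ⟨c, hc⟩)

/-- One element of `tD ∖ t` conjugate to `t` gives all of them. -/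
theorem all_or_none' (h : HypB t T D) {a b : G} (ha : a ∈ D) (hb : b ∈ D) (ha1 : a ≠ 1)
    (hb1 : b ≠ 1) (hj : IsConj t (t * a)) : IsConj t (t * b) := by
  obtain ⟨c, hc, hcc⟩ := h.invConj a ha b hb (orderOf_two ha1 (h.hexp a ha))
    (orderOf_two hb1 (h.hexp b hb))
  refine hj.trans (isConj_iff.2 ⟨c, ?_⟩)
  calc c * (t * a) * c⁻¹ = c * t * c⁻¹ * (c * a * c⁻¹) := by group
    _ = t * b := by rw [mul_inv_eq_iff_eq_mul.2 (mem_centralizer_singleton_iff.1 hc), hcc]

theorem exists_ne_one (h : HypB t T D) : ∃ e ∈ D, e ≠ 1 := by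
  by_contra! hc
  have : D = ⊥ := (Subgroup.eq_bot_iff_forall D).2 hc
  have h4 := h.hfour
  rw [this, Subgroup.card_bot] at h4
  omega

/-- If `T` is a Sylow subgroup then `|D| ≤ 4`. -/
theorem sylow_eq (h : HypB t T D) (S : Sylow 2 G) (hS : (S : Subgroup G) = T) :
    Nat.card D ≤ 4 := by
  classical
  haveI : Fact (Nat.Prime 2) := ⟨Nat.prime_two⟩
  obtain ⟨e₀, he₀, he₀1⟩ := h.exists_ne_one
  obtain ⟨q, hq⟩ : ∃ q, Nat.card D = 2 * q := by
    obtain ⟨j, hj⟩ := (h.Tp.to_le h.DT).exists_card_eq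
    refine ⟨2 ^ (j - 1), ?_⟩
    rcases j with _ | j
    · have := h.hfour; rw [hj] at this; simp at this
    · rw [hj]; simp [pow_succ']
  have hDJ : IsConj t e₀ := by
    by_contra hn
    obtain ⟨f, hf, -, hdiv, -⟩ := parity h.simple h.ncomm h.t2 D
    rw [jcount_eq_zero (fun x hx hj => hn (h.all_or_none hx he₀ he₀1 hj)), zero_mul,
      Nat.mul_eq_zero] at hf
    have hf0 : f = 0 := hf.resolve_right Nat.card_pos.ne'
    obtain ⟨o, ⟨o', rfl⟩, hi⟩ := index_eq S (X := D) (k := 2) (by rw [hS, h.toHyp.card_T])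
    omega
  letI : CommGroup T :=
    { (inferInstance : Group T) with
      mul_comm := fun x y => Subtype.ext (h.T_comm x.2 y.2) }
  haveI : IsMulCommutative (S : Subgroup G) := ⟨⟨fun x y =>
    Subtype.ext (h.T_comm (hS.le x.2) (hS.le y.2))⟩⟩
  set Nt := normalizer (T : Set G) with hNt
  set Φ : Nt →* MulAut T := T.normalizerMonoidHom with hΦ
  have hΦapp : ∀ (g : Nt) (x : T), (Φ g x : G) = g * x * (g : G)⁻¹ := fun g x => rfl
  have hodd : Odd (Nat.card Φ.range) := by
    rw [← Nat.card_congr (QuotientGroup.quotientKerEquivRange Φ).toEquiv, ← Subgroup.index_eq_card]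
    have h1 : T.subgroupOf Nt ≤ Φ.ker := by
      intro g hg
      rw [MonoidHom.mem_ker]
      refine MulEquiv.ext fun x => Subtype.ext ?_
      rw [hΦapp, MulAut.one_apply, h.T_comm (mem_subgroupOf.1 hg) x.2, mul_inv_cancel_right]
    have h3 : T.relIndex Nt ∣ (S : Subgroup G).index := by
      rw [hS]
      exact ⟨Nt.index, (Subgroup.relIndex_mul_index le_normalizer).symm⟩
    exact (Nat.odd_iff.2 (Nat.two_dvd_ne_zero.1 S.not_dvd_index)).of_dvd_nat
      ((Subgroup.index_dvd_of_le h1).trans h3)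
  set τ : T := ⟨t, h.tT⟩ with hτ
  have hfuse : ∀ x : T, IsConj t (x : G) → ∃ φ ∈ Φ.range, φ τ = x := by
    intro x hx
    obtain ⟨g, hg⟩ := isConj_iff.1 hx
    obtain ⟨k, hk, hkk⟩ := S.conj_eq_normalizer_conj_of_mem t g⁻¹
      (show t ∈ (S : Subgroup G) by rw [hS]; exact h.tT)
      (show _ ∈ (S : Subgroup G) by rw [inv_inv, hg, hS]; exact x.2)
    have hk' : k⁻¹ ∈ Nt := by
      refine inv_mem ?_
      rw [hNt, ← hS]
      exact hk
    refine ⟨Φ ⟨k⁻¹, hk'⟩, ⟨_, rfl⟩, Subtype.ext ?_⟩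
    rw [hΦapp]
    show k⁻¹ * t * (k⁻¹)⁻¹ = x
    rw [inv_inv, ← hkk, inv_inv, hg]
  have hR : ∀ a ∈ D.subgroupOf T, ∀ b ∈ D.subgroupOf T, a ≠ 1 → b ≠ 1 →
      ∃ φ ∈ Φ.range, φ τ = τ ∧ φ a = b := by
    intro a ha b hb ha1 hb1
    obtain ⟨c, hc, hcT, hcab⟩ := h.trans_D (mem_subgroupOf.1 ha) (mem_subgroupOf.1 hb)
      (fun e => ha1 (Subtype.ext e)) (fun e => hb1 (Subtype.ext e))
    refine ⟨Φ ⟨c, mem_normalizer_of hcT⟩, ⟨_, rfl⟩, Subtype.ext ?_, Subtype.ext ?_⟩
    · rw [hΦapp]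
      exact mul_inv_eq_iff_eq_mul.2 (mem_centralizer_singleton_iff.1 hc)
    · rw [hΦapp]
      exact hcab
  have hmv : ∀ (φ : MulAut T), φ ∈ Φ.range → IsConj t (φ τ : G) := by
    rintro _ ⟨g, rfl⟩
    exact isConj_iff.2 ⟨g, rfl⟩
  -- the orbit of `t` has odd length
  have hall : ∀ x : T, x ≠ 1 → IsConj t (x : G) := by
    have htD : IsConj t (t * e₀) := by
      by_contra hn
      have hset : ∀ x : T, IsConj t (x : G) ↔ (x = τ ∨ ((x : G) ∈ D ∧ x ≠ 1)) := by
        intro x
        constructor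
        · intro hx
          rcases h.split _ x.2 with hD | hD
          · exact Or.inr ⟨hD, fun e => ne_one_of_conj h.t2 hx (congrArg Subtype.val e)⟩
          · left
            by_contra hne
            refine hn (h.all_or_none' hD he₀ (fun e => hne (Subtype.ext ?_)) he₀1
              (by rwa [h.toHyp.t_mul_t_mul]))
            show (x : G) = t
            rw [← h.toHyp.t_mul_t_mul (x : G), e, mul_one]
        · rintro (rfl | ⟨hD, hx1⟩)
          · exact IsConj.refl t
          · exact h.all_or_none he₀ hD (fun e => hx1 (Subtype.ext e)) hDJ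
      letI : MulAction Φ.range T :=
        { smul := fun φ x => φ.1 x, one_smul := fun x => rfl, mul_smul := fun a a' x => rfl }
      have horb : Odd (Nat.card (MulAction.orbit Φ.range τ)) := by
        refine hodd.of_dvd_nat ?_
        rw [Nat.card_congr (MulAction.orbitEquivQuotientStabilizer Φ.range τ), ← Subgroup.index_eq_card]
        exact Subgroup.index_dvd_card _
      have hc2 : Nat.card (MulAction.orbit Φ.range τ) = Nat.card D := by
        refine (Nat.card_eq_of_bijective (fun d : D =>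
          (⟨if (d : G) = 1 then τ else ⟨d, h.DT d.2⟩, ?_⟩ : MulAction.orbit Φ.range τ)) ⟨?_, ?_⟩).symm
        · split_ifs with hd
          · exact MulAction.mem_orbit_self τ
          · obtain ⟨φ, hφ, hφx⟩ := hfuse ⟨d, h.DT d.2⟩ (h.all_or_none he₀ d.2 hd hDJ)
            exact ⟨⟨φ, hφ⟩, hφx⟩
        · intro a b e
          have e' := congrArg (fun x => (x.1 : G)) e
          simp only at e'
          by_cases ha : (a : G) = 1 <;> by_cases hb : (b : G) = 1 <;> simp [ha, hb, hτ] at e'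
          · exact Subtype.ext (ha.trans hb.symm)
          · exact absurd (e' ▸ b.2) h.tD
          · exact absurd (e'.symm ▸ a.2) h.tD
          · exact e'
        · rintro ⟨x, φ, hφx⟩
          have hx : IsConj t (x : G) := by
            have := hmv φ.1 φ.2
            rwa [show φ.1 τ = x from hφx] at this
          rcases (hset x).1 hx with rfl | ⟨hD, hx1⟩
          · exact ⟨1, Subtype.ext (by simp)⟩
          · refine ⟨⟨x, hD⟩, Subtype.ext ?_⟩
            simp only
            rw [if_neg (fun e : (x : G) = 1 => hx1 (Subtype.ext e))]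
      rw [hc2, hq] at horb
      exact Nat.not_odd_iff_even.2 (even_two_mul q) horb
    intro x hx
    rcases h.split _ x.2 with hD | hD
    · exact h.all_or_none he₀ hD (fun e => hx (Subtype.ext e)) hDJ
    · by_cases h1 : t * (x : G) = 1
      · rw [show (x : G) = t by rw [← h.toHyp.t_mul_t_mul (x : G), h1, mul_one]]
      · have := h.all_or_none' he₀ hD he₀1 h1 htD
        rwa [h.toHyp.t_mul_t_mul] at this
  have := abel_bound Φ.range hodd τ (D.subgroupOf T) (fun e => h.tD (mem_subgroupOf.1 e))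
    (fun x => h.split _ x.2) (fun x => Subtype.ext (h.T_sq x.2)) (fun x hx => hfuse x (hall x hx)) hR
  rwa [Nat.card_congr (subgroupOfEquivOfLe h.DT).toEquiv] at this

end HypB

end Cfsg.Agent.JanThom
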