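import Cfsg.Agent.JanThom.Signed

/-!
# The centralizer of `D` fixes all classes: contradiction
-/

set_option autoImplicit false
set_option linter.style.haveILetI false
set_option linter.unusedSectionVars false
set_option linter.unusedVariables false

namespace Cfsg.Agent.JanThom

open Subgroup

variable {G : Type*} [Group G] [Finite G] {t : G} {T D Y P : Subgroup G}

/-- Two elements of odd index and a character of order two. -/
theorem units_trivial_of_odd_index {B : Type*} [Group B] [Finite B] (ρ : B →* ℤˣ) (K : Subgroup B)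
    (hK : Odd K.index) (h : ∀ x ∈ K, ρ x = 1) (b : B) : ρ b = 1 := by
  have h1 : ρ.ker.index ∣ K.index := Subgroup.index_dvd_of_le fun x hx => MonoidHom.mem_ker.2 (h x hx)
  have h2 : ρ.ker.index ∣ 2 := by
    rw [Subgroup.index_ker]
    have := Subgroup.card_subgroup_dvd_card ρ.range
    rwa [Nat.card_eq_fintype_card (α := ℤˣ), Fintype.card_units_int] at this
  rcases (Nat.dvd_prime Nat.prime_two).1 h2 with h3 | h3
  · exact MonoidHom.mem_ker.1 ((Subgroup.index_eq_one.1 h3) ▸ Subgroup.mem_top b)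
  · rw [h3] at h1
    exact absurd (hK.of_dvd_nat h1) (by decide)

namespace Good

theorem fixed_impossible (hg : Good t T D Y P) (h : HypB t T D)
    (hfix : ∀ g ∈ normalizer (Y : Set G), (∀ d ∈ D, g * d * g⁻¹ = d) → disp t g ∈ sqP P) :
    False := by
  classical
  haveI : Fact (Nat.Prime 2) := ⟨Nat.prime_two⟩
  set N := normalizer (Y : Set G) with hN
  obtain ⟨g₀, hg₀, hmove⟩ := hg.exists_move h
  have hYN : Y ≤ N := le_normalizer
  have hsurjN : ∀ p ∈ P, ∃ g ∈ N, (disp t g)⁻¹ * p ∈ sqP P := fun p hp =>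
    hg.move_surj h (fun c _ hc g hgN => mul_mem (mul_mem hc hgN) (inv_mem hc)) le_rfl hg₀ hmove hp
  obtain ⟨Y₁, hYY₁, hY₁N, hY₁p, hcard, hsurj, hconj⟩ := hg.exists_sylow_over h hYN le_rfl hsurjN
  let A : Subgroup G :=
    { carrier := {g | g ∈ N ∧ disp t g ∈ sqP P}
      one_mem' := ⟨one_mem N, hg.disp_Y h (one_mem Y)⟩
      mul_mem' := fun {a b} ha hb => ⟨mul_mem ha.1 hb.1, by
        rw [disp_mul h]; exact mul_mem ha.2 (hg.norm_sqP h ha.1 hb.2)⟩
      inv_mem' := fun {a} ha => ⟨inv_mem ha.1, by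
        rw [disp_inv h]
        simpa using hg.norm_sqP h (inv_mem ha.1) (inv_mem ha.2)⟩ }
  have hYA : ∀ y ∈ Y, y ∈ A := fun y hy => ⟨hYN hy, hg.disp_Y h hy⟩
  have hnormY : ∀ g ∈ N, ∀ y ∈ Y, g * y * g⁻¹ ∈ Y := fun g hgN y hy =>
    (mem_normalizer_iff.1 hgN y).1 hy
  -- an element of order two in the centre of `Y₁/Y`
  obtain ⟨x₀, hx₀, hx₀Y, hx₀2, hx₀c⟩ : ∃ x₀ ∈ Y₁, x₀ ∉ Y ∧ x₀ * x₀ ∈ Y ∧
      ∀ r ∈ Y₁, r * x₀ * r⁻¹ * x₀⁻¹ ∈ Y := by
    set Yq := Y.subgroupOf Y₁ with hYq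
    haveI : Yq.Normal := ⟨fun x hx r => hnormY r (hY₁N r.2) x hx⟩
    haveI : Nontrivial (Y₁ ⧸ Yq) := by
      rw [← Finite.one_lt_card_iff_nontrivial, ← Subgroup.index_eq_card]
      have h1 := Subgroup.card_mul_index Yq
      rw [Nat.card_congr (subgroupOfEquivOfLe hYY₁).toEquiv, hcard, mul_comm (Nat.card D)] at h1
      rw [Nat.eq_of_mul_eq_mul_left Nat.card_pos h1]
      have := h.hfour
      omega
    have hq : IsPGroup 2 (Y₁ ⧸ Yq) := hY₁p.to_quotient Yq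
    haveI := hq.center_nontrivial
    obtain ⟨j, hj⟩ := (hq.to_subgroup (center (Y₁ ⧸ Yq))).exists_card_eq
    have hd : 2 ∣ Nat.card (center (Y₁ ⧸ Yq)) := by
      rw [hj]
      refine dvd_pow_self 2 fun h0 => ?_
      have := Finite.one_lt_card (α := center (Y₁ ⧸ Yq))
      rw [hj, h0, pow_zero] at this
      omega
    obtain ⟨c, hc⟩ := exists_prime_orderOf_dvd_card' 2 hd
    obtain ⟨x, hx⟩ := QuotientGroup.mk_surjective c.1
    refine ⟨x, x.2, fun e => ?_, ?_, fun r hr => ?_⟩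
    · have h1 : c = 1 := Subtype.ext (hx.symm.trans ((QuotientGroup.eq_one_iff x).2 (mem_subgroupOf.2 e)))
      rw [h1, orderOf_one] at hc
      omega
    · have h1 : c * c = 1 := by
        have := pow_orderOf_eq_one c
        rwa [hc, pow_two] at this
      have h2 : ((x * x : Y₁) : Y₁ ⧸ Yq) = 1 := by
        rw [QuotientGroup.mk_mul, hx]
        exact congrArg Subtype.val h1
      exact mem_subgroupOf.1 ((QuotientGroup.eq_one_iff _).1 h2)
    · have h1 := mem_center_iff.1 c.2 ((⟨r, hr⟩ : Y₁) : Y₁ ⧸ Yq)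
      rw [← hx, ← QuotientGroup.mk_mul, ← QuotientGroup.mk_mul] at h1
      have h2 : (((⟨r, hr⟩ : Y₁) * x * (⟨r, hr⟩ : Y₁)⁻¹ * x⁻¹ : Y₁) : Y₁ ⧸ Yq) = 1 := by
        rw [mul_assoc _ _ x⁻¹, ← mul_inv_rev, QuotientGroup.mk_mul, QuotientGroup.mk_inv, h1,
          mul_inv_cancel]
      exact mem_subgroupOf.1 ((QuotientGroup.eq_one_iff _).1 h2)
  have hx₀N := hY₁N hx₀
  have hdx₀ : disp t x₀ ∉ sqP P := fun e => hx₀Y (hg.fix_mem h hY₁p hYY₁ hx₀ e)
  have hAY : ∀ {R : Subgroup G}, IsPGroup 2 R → Y ≤ R → ∀ r ∈ R, r ∈ A → r ∈ Y :=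
    fun hR hYR r hr hrA => hg.fix_mem h hR hYR hr hrA.2
  -- all conjugates of `t` in `Y₁` lie in `Y`
  have hJY : ∀ x ∈ Y₁, IsConj t x → x ∈ Y := by
    intro x hx hj
    by_contra hxY
    have hxx := mul_self_of_conj h.t2 hj
    have hxN := hY₁N hx
    have hdx : disp t x ∉ sqP P := fun e => hxY (hg.fix_mem h hY₁p hYY₁ hx e)
    obtain ⟨c, hc, hcN, hcx⟩ := hg.trans_cl h (hg.disp_mem h hxN) (hg.disp_mem h hx₀N) hdx hdx₀
    set x₂ := c * x * c⁻¹ with hx₂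
    have hx₂N : x₂ ∈ N := mul_mem (mul_mem hcN hxN) (inv_mem hcN)
    have hx₂2 : x₂ * x₂ = 1 := by rw [hx₂, conj_mul, hxx, mul_one, mul_inv_cancel]
    have hdx₂ : disp t x₂ = c * disp t x * c⁻¹ := by
      rw [hx₂, mul_assoc c, disp_mul h, disp_C h hc, one_mul, disp_mul h, disp_C h (inv_mem hc),
        mul_one, mul_inv_cancel, mul_one]
    have hA1 : x₂⁻¹ * x₀ ∈ A := ⟨mul_mem (inv_mem hx₂N) hx₀N,
      (hg.sameCl h hx₂N hx₀N).2 (by rw [hdx₂]; exact hcx)⟩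
    let K : Subgroup G :=
      { carrier := {g | g ∈ N ∧ ((g ∈ A ∧ x₀⁻¹ * g * x₀ ∈ A) ∨ (x₀⁻¹ * g ∈ A ∧ g * x₀ ∈ A))}
        one_mem' := ⟨one_mem N, Or.inl ⟨one_mem A, by simp⟩⟩
        mul_mem' := by
          rintro a b ⟨ha, ha' | ha'⟩ ⟨hb, hb' | hb'⟩ <;> refine ⟨mul_mem ha hb, ?_⟩
          · left
            refine ⟨mul_mem ha'.1 hb'.1, ?_⟩
            convert mul_mem ha'.2 hb'.2 using 1; group
          · right
            refine ⟨?_, ?_⟩
            · convert mul_mem ha'.2 hb'.1 using 1; group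
            · convert mul_mem ha'.1 hb'.2 using 1; group
          · right
            refine ⟨?_, ?_⟩
            · convert mul_mem ha'.1 hb'.1 using 1; group
            · convert mul_mem ha'.2 hb'.2 using 1; group
          · left
            refine ⟨?_, ?_⟩
            · convert mul_mem ha'.2 hb'.1 using 1; group
            · convert mul_mem ha'.1 hb'.2 using 1; group
        inv_mem' := by
          rintro a ⟨ha, ha' | ha'⟩ <;> refine ⟨inv_mem ha, ?_⟩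
          · left
            refine ⟨inv_mem ha'.1, ?_⟩
            convert inv_mem ha'.2 using 1; group
          · right
            refine ⟨?_, ?_⟩
            · convert inv_mem ha'.2 using 1; group
            · convert inv_mem ha'.1 using 1; group }
    have hx₀K : x₀ ∈ K := ⟨hx₀N, Or.inr ⟨by simp, hYA _ hx₀2⟩⟩
    have hx₂K : x₂ ∈ K := by
      have hinv : x₂⁻¹ = x₂ := inv_eq_of_mul_eq_one_right hx₂2
      refine ⟨hx₂N, Or.inr ⟨?_, ?_⟩⟩
      · convert inv_mem hA1 using 1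
        rw [mul_inv_rev, inv_inv]
      · rwa [hinv] at hA1
    let Rb : Subgroup G :=
      { carrier := {g | g ∈ Y₁ ∧ (g ∈ Y ∨ x₀⁻¹ * g ∈ Y)}
        one_mem' := ⟨one_mem Y₁, Or.inl (one_mem Y)⟩
        mul_mem' := by
          rintro a b ⟨ha, ha' | ha'⟩ ⟨hb, hb' | hb'⟩ <;> refine ⟨mul_mem ha hb, ?_⟩
          · exact Or.inl (mul_mem ha' hb')
          · right
            convert mul_mem (hnormY _ (inv_mem hx₀N) a ha') hb' using 1; group
          · right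
            convert mul_mem ha' hb' using 1; group
          · left
            convert mul_mem (mul_mem (hnormY _ hx₀N _ ha') hx₀2) hb' using 1; group
        inv_mem' := by
          rintro a ⟨ha, ha' | ha'⟩ <;> refine ⟨inv_mem ha, ?_⟩
          · exact Or.inl (inv_mem ha')
          · right
            convert mul_mem (inv_mem hx₀2) (hnormY _ hx₀N _ (inv_mem ha')) using 1; group }
    have hRbK : Rb ≤ K := by
      rintro g ⟨hg₁, hg' | hg'⟩
      · refine ⟨hY₁N hg₁, Or.inl ⟨hYA g hg', hYA _ ?_⟩⟩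
        simpa using hnormY _ (inv_mem hx₀N) g hg'
      · rw [show g = x₀ * (x₀⁻¹ * g) by group]
        refine mul_mem hx₀K ⟨hYN hg', Or.inl ⟨hYA _ hg', hYA _ ?_⟩⟩
        simpa using hnormY _ (inv_mem hx₀N) _ hg'
    have hRbp : IsPGroup 2 Rb := hY₁p.to_le fun g hg' => hg'.1
    have hYRb : Y ≤ Rb := fun y hy => ⟨hYY₁ hy, Or.inl hy⟩
    obtain ⟨P₀, hP₀⟩ := (hRbp.of_equiv (subgroupOfEquivOfLe hRbK).symm).exists_le_sylow
    obtain ⟨Q', hQ'⟩ := ((IsPGroup.of_card (n := 1) (by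
      rw [Nat.card_zpowers, pow_one]
      refine orderOf_two (fun e => ?_) (show (⟨x₂, hx₂K⟩ : K) * ⟨x₂, hx₂K⟩ = 1 from Subtype.ext hx₂2)
      have : x₂ = 1 := congrArg Subtype.val e
      rw [hx₂, conj_eq_one_iff] at this
      exact ne_one_of_conj h.t2 hj this)) : IsPGroup 2 (zpowers (⟨x₂, hx₂K⟩ : K))).exists_le_sylow
    obtain ⟨k, hk⟩ := MulAction.exists_smul_eq K Q' P₀
    set x₁ : G := k * x₂ * (k : G)⁻¹ with hx₁
    have hx₁P : k * ⟨x₂, hx₂K⟩ * k⁻¹ ∈ (P₀ : Subgroup K) := by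
      rw [← hk, Sylow.coe_subgroup_smul]
      exact Subgroup.smul_mem_pointwise_smul _ _ _ (hQ' (mem_zpowers _))
    set R₀ := (P₀ : Subgroup K).map K.subtype with hR₀
    have hR₀p : IsPGroup 2 R₀ := P₀.isPGroup'.map _
    have hYR₀ : Y ≤ R₀ := fun y hy => ⟨⟨y, hRbK (hYRb hy)⟩, hP₀ (mem_subgroupOf.2 (hYRb hy)), rfl⟩
    have hx₁R₀ : x₁ ∈ R₀ := ⟨_, hx₁P, rfl⟩
    have hkN : (k : G) ∈ N := k.2.1
    have hx₂Y : x₂ ∉ Y := fun e => hxY (by
      have := hnormY _ (inv_mem hcN) _ e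
      rw [hx₂] at this
      convert this using 1
      group)
    have hx₁Y : x₁ ∉ Y := fun e => hx₂Y (by
      have := hnormY _ (inv_mem hkN) _ e
      rw [hx₁] at this
      convert this using 1
      group)
    have hx₀R₀ : x₀ ∈ R₀ := ⟨⟨x₀, hx₀K⟩, hP₀ (mem_subgroupOf.2 ⟨hx₀, Or.inr (by simp)⟩), rfl⟩
    have hx₁x₀ : x₀⁻¹ * x₁ ∈ Y := by
      have hmem := mul_mem (inv_mem hx₀R₀) hx₁R₀
      have hx₁K : x₁ ∈ K := map_subtype_le _ hx₁R₀
      rcases hx₁K.2 with ⟨h1, -⟩ | ⟨h1, -⟩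
      · exact absurd (hAY hR₀p hYR₀ _ hx₁R₀ h1) hx₁Y
      · exact hAY hR₀p hYR₀ _ hmem h1
    have hj₁ : IsConj t x₁ := hj.trans ((isConj_iff.2 ⟨c, rfl⟩ : IsConj x x₂).trans (isConj_iff.2 ⟨k, rfl⟩))
    have hx₁Y₁ : x₁ ∈ Y₁ := by
      rw [show x₁ = x₀ * (x₀⁻¹ * x₁) by group]; exact mul_mem hx₀ (hYY₁ hx₁x₀)
    have hx₁N := hY₁N hx₁Y₁
    have hcen : ∀ r ∈ Y₁, x₁⁻¹ * (r * x₁ * r⁻¹) ∈ Y := by
      intro r hr
      have e : x₁⁻¹ * (r * x₁ * r⁻¹) = (x₀⁻¹ * x₁)⁻¹ * (x₀⁻¹ * (r * x₀ * r⁻¹ * x₀⁻¹) * x₀⁻¹⁻¹) *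
          (r * (x₀⁻¹ * x₁) * r⁻¹) := by group
      rw [e]
      exact mul_mem (mul_mem (inv_mem hx₁x₀) (hnormY _ (inv_mem hx₀N) _ (hx₀c r hr)))
        (hnormY r (hY₁N hr) _ hx₁x₀)
    set sset : Set G := {z | IsConj t z ∧ x₁⁻¹ * z ∈ Y} with hsset
    have hlow := h.toHyp.class_card hj₁ hY₁p sset fun r hr =>
      ⟨hj₁.trans (isConj_iff.2 ⟨r, rfl⟩), hcen r hr⟩
    have hx11 := mul_self_of_conj h.t2 hj₁
    have hx₁i : x₁⁻¹ = x₁ := inv_eq_of_mul_eq_one_right hx11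
    have hinv : ∀ z ∈ sset, x₁⁻¹ * z ∈ P ∧ x₁ * (x₁⁻¹ * z) * x₁ = (x₁⁻¹ * z)⁻¹ := by
      rintro z ⟨hzj, hzY⟩
      have hzz := mul_self_of_conj h.t2 hzj
      set y := x₁⁻¹ * z with hy
      have e : x₁ * y * x₁ = y⁻¹ := by
        refine eq_inv_of_mul_eq_one_left ?_
        calc x₁ * y * x₁ * y = z * z := by rw [hy]; group
          _ = 1 := hzz
      refine ⟨?_, e⟩
      by_contra hn
      refine hx₁Y (hg.cent h hY₁p hYY₁ hzY hn hx₁Y₁ ?_)
      rw [inv_eq_of_mul_eq_one_right (mul_self_of_conj h.t2 ((hg.J_iff y hzY).2 hn))] at e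
      calc x₁ * y = x₁ * y * (x₁ * x₁) := by rw [hx11, mul_one]
        _ = x₁ * y * x₁ * x₁ := by group
        _ = y * x₁ := by rw [e]
    obtain ⟨d, hd, hdne⟩ : ∃ d ∈ D, x₁ * d * x₁ ≠ d := by
      by_contra! hc'
      refine hx₁Y (hg.fix_mem h hY₁p hYY₁ hx₁Y₁ (hfix x₁ hx₁N fun d hd => ?_))
      rw [hx₁i]; exact hc' d hd
    have hlt : Nat.card sset < Nat.card P := by
      haveI : Fintype P := Fintype.ofFinite _
      haveI : Fintype sset := Fintype.ofFinite _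
      rw [Nat.card_eq_fintype_card, Nat.card_eq_fintype_card]
      refine Fintype.card_lt_of_injective_of_notMem (fun z => (⟨x₁⁻¹ * z.1, (hinv z z.2).1⟩ : P))
        (fun z z' e => Subtype.ext (mul_left_cancel (congrArg Subtype.val e))) (b := ⟨d, hg.DP hd⟩) ?_
      rintro ⟨z, hz⟩
      have e : x₁⁻¹ * z.1 = d := congrArg Subtype.val hz
      have := (hinv z z.2).2
      rw [e, inv_eq_of_mul_eq_one_right (h.hexp d hd)] at this
      exact hdne this
    rw [hcard, hg.card_Y h, h.toHyp.card_T] at hlow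
    have h3 : 2 * Nat.card D * Nat.card P ≤ 2 * Nat.card D * Nat.card sset := by linarith
    have := h.hfour
    exact absurd (Nat.le_of_mul_le_mul_left h3 (by omega)) (not_le.2 hlt)
  -- `Y₁` is a Sylow subgroup
  obtain ⟨S, hS⟩ := hY₁p.exists_le_sylow
  have hSY₁ : Y₁ = (S : Subgroup G) := by
    by_contra hne
    obtain ⟨g, hgS, hgY₁, hgN₁⟩ := normalizer_grow S.isPGroup' hS hne
    have hgN : g ∈ N := by
      have hJ : ∀ y ∈ Y, y ∉ P → g * y * g⁻¹ ∈ Y := fun y hy hyP =>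
        hJY _ ((mem_normalizer_iff.1 hgN₁ y).1 (hYY₁ hy))
          (((hg.J_iff y hy).2 hyP).trans (isConj_iff.2 ⟨g, rfl⟩))
      refine mem_normalizer_of fun y hy => ?_
      by_cases hyP : y ∈ P
      · rw [show g * y * g⁻¹ = (g * t * g⁻¹)⁻¹ * (g * (t * y) * g⁻¹) by group]
        exact mul_mem (inv_mem (hJ t (hg.tY h) hg.tP))
          (hJ _ (mul_mem (hg.tY h) hy) (hg.tmul_notMem hyP))
      · exact hJ y hy hyP
    set R := (S : Subgroup G) ⊓ N with hR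
    have hY₁R : Y₁ ≤ R := le_inf hS hY₁N
    obtain ⟨k, -, hk⟩ := hconj R inf_le_right (S.isPGroup'.to_le inf_le_left)
    have hle : Nat.card R ≤ Nat.card Y₁ := Nat.card_le_card_of_injective
      (fun r => (⟨k * r * k⁻¹, hk r r.2⟩ : Y₁)) fun a b e => Subtype.ext (conj_injective (congrArg Subtype.val e))
    exact hgY₁ ((Subgroup.eq_of_le_of_card_ge hY₁R hle) ▸ ⟨hgS, hgN⟩)
  -- the sign character of `A`
  have htA : t ∈ A := hYA t (hg.tY h)
  have hYleA : Y ≤ A := hYA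
  have hPA : P ≤ A := hg.PY.trans hYleA
  set PA := P.subgroupOf A with hPAdef
  haveI : PA.Normal := ⟨fun x hx g => hg.norm_P g.2.1 hx⟩
  have hYodd : Odd (Y.subgroupOf A).index := by
    obtain ⟨P₀, hP₀⟩ := (hg.Yp.of_equiv (subgroupOfEquivOfLe hYleA).symm).exists_le_sylow
    have e : Y.subgroupOf A = (P₀ : Subgroup A) := le_antisymm hP₀ fun r hr => mem_subgroupOf.2
      (hAY (P₀.isPGroup'.map A.subtype) (fun y hy => ⟨⟨y, hYleA hy⟩, hP₀ (mem_subgroupOf.2 hy), rfl⟩)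
        r ⟨r, hr, rfl⟩ r.2)
    rw [e]
    exact Nat.odd_iff.2 (Nat.two_dvd_ne_zero.1 P₀.not_dvd_index)
  have hPindex : PA.index = 2 * (Y.subgroupOf A).index := by
    have h1 := Subgroup.card_mul_index PA
    rw [hPAdef, Nat.card_congr (subgroupOfEquivOfLe hPA).toEquiv, ← Subgroup.card_mul_index (Y.subgroupOf A),
      Nat.card_congr (subgroupOfEquivOfLe hYleA).toEquiv, hg.card_Y h] at h1
    exact Nat.eq_of_mul_eq_mul_left Nat.card_pos (h1.trans (by ring))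
  letI : Fintype (A ⧸ PA) := Fintype.ofFinite _
  obtain ⟨η, hηt, hηP⟩ : ∃ η : A →* ℤˣ, η ⟨t, htA⟩ = -1 ∧ ∀ p : A, (p : G) ∈ P → η p = 1 := by
    refine ⟨Equiv.Perm.sign.comp (MulAction.toPermHom A (A ⧸ PA)), ?_, fun p hp => ?_⟩
    swap
    · have e : MulAction.toPermHom A (A ⧸ PA) p = 1 := by
        refine Equiv.ext fun x => ?_
        obtain ⟨a, rfl⟩ := QuotientGroup.mk_surjective x
        show p • (QuotientGroup.mk a : A ⧸ PA) = QuotientGroup.mk a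
        rw [MulAction.Quotient.smul_coe, QuotientGroup.eq, smul_eq_mul, mul_inv_rev, mem_subgroupOf]
        simpa using hg.norm_P (g := (a : G)⁻¹) (inv_mem a.2.1) (inv_mem hp)
      rw [MonoidHom.comp_apply, e, map_one]
    set τt : A := ⟨t, htA⟩
    have hσ : (MulAction.toPermHom A (A ⧸ PA) τt) ^ 2 = 1 := by
      rw [← map_pow, pow_two, show τt * τt = 1 from Subtype.ext h.toHyp.tt, map_one]
    rw [MonoidHom.comp_apply, Equiv.Perm.sign_of_pow_two_eq_one hσ]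
    have hfp : Fintype.card (Function.fixedPoints (MulAction.toPermHom A (A ⧸ PA) τt)) = 0 := by
      rw [Fintype.card_eq_zero_iff]
      refine ⟨fun ⟨x, hx⟩ => ?_⟩
      obtain ⟨a, rfl⟩ := QuotientGroup.mk_surjective x
      have hx' : τt • (QuotientGroup.mk a : A ⧸ PA) = QuotientGroup.mk a := hx
      rw [MulAction.Quotient.smul_coe, QuotientGroup.eq] at hx'
      have h1 := hg.norm_P (g := (a : G)) a.2.1 (mem_subgroupOf.1 hx')
      refine hg.tP ?_
      have e : (a : G) * ((((τt • a)⁻¹ * a : A)) : G) * (a : G)⁻¹ = t⁻¹ := by simp [τt, mul_assoc]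
      rw [e, h.toHyp.tinv] at h1
      exact h1
    obtain ⟨o, ho⟩ := hYodd
    rw [hfp, Nat.sub_zero, ← Nat.card_eq_fintype_card, ← Subgroup.index_eq_card, hPindex,
      Nat.mul_div_cancel_left _ two_pos]
    exact Odd.neg_one_pow ⟨o, ho⟩
  set D₀ : Subgroup G := η.ker.map A.subtype with hD₀
  have hD₀mem : ∀ {g : G}, g ∈ D₀ ↔ ∃ hg' : g ∈ A, η ⟨g, hg'⟩ = 1 := by
    intro g
    constructor
    · rintro ⟨a, ha, rfl⟩; exact ⟨a.2, ha⟩
    · rintro ⟨hg', he⟩; exact ⟨⟨g, hg'⟩, he, rfl⟩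
  have hs2 : x₀ * x₀ ∈ P := by
    by_contra hn
    exact h.sq_not_conj hY₁p hx₀ ((hg.J_iff _ hx₀2).2 hn)
  have htN : t ∈ N := hYN (hg.tY h)
  have hD₀split : ∀ a ∈ A, a ∈ D₀ ∨ t * a ∈ D₀ := by
    intro a ha
    rcases Int.units_eq_one_or (η ⟨a, ha⟩) with e | e
    · exact Or.inl (hD₀mem.2 ⟨ha, e⟩)
    · refine Or.inr (hD₀mem.2 ⟨mul_mem htA ha, ?_⟩)
      rw [show (⟨t * a, mul_mem htA ha⟩ : A) = ⟨t, htA⟩ * ⟨a, ha⟩ from rfl, map_mul, hηt, e]
      rfl
  have htN' : ∀ g ∈ N, t * (g⁻¹ * t * g) ∈ P := fun g hgN => by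
    have := hg.disp_mem h (inv_mem hgN)
    rwa [disp, inv_inv] at this
  have hPD₀ : P ≤ D₀ := fun p hp => hD₀mem.2 ⟨hPA hp, hηP _ hp⟩
  have hdata : SignData t x₀ P N A D₀ := by
    refine ⟨h.toHyp.tt, fun a ha => ha.1, htA, map_subtype_le _, hPD₀, fun e => ?_, hD₀split, ?_,
      fun g hgN p hp => hg.norm_P hgN hp, hx₀N, fun e => hdx₀ e.2, hPD₀ hs2, htN', ?_, ?_, ?_⟩
    · obtain ⟨_, e'⟩ := hD₀mem.1 e
      rw [hηt] at e'
      exact absurd e' (by decide)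
    · intro a ha d hd
      obtain ⟨hdA, hde⟩ := hD₀mem.1 hd
      refine hD₀mem.2 ⟨mul_mem (mul_mem ha hdA) (inv_mem ha), ?_⟩
      rw [show (⟨a * d * a⁻¹, _⟩ : A) = ⟨a, ha⟩ * ⟨d, hdA⟩ * ⟨a, ha⟩⁻¹ from rfl, map_mul, map_mul,
        hde, mul_one, map_inv, mul_inv_cancel]
    · intro d hd d' hd' e
      obtain ⟨hdA, hde⟩ := hD₀mem.1 hd
      obtain ⟨hdA', hde'⟩ := hD₀mem.1 hd'
      let B : Subgroup G := A ⊓ A.comap (MulAut.conj x₀).toMonoidHom
      have hBmem : ∀ {g}, g ∈ B ↔ g ∈ A ∧ x₀ * g * x₀⁻¹ ∈ A := Iff.rfl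
      set ρB : B →* ℤˣ := (η.comp (inclusion (inf_le_left : B ≤ A))) *
        (η.comp (((MulAut.conj x₀).toMonoidHom.comp B.subtype).codRestrict A (fun b => (hBmem.1 b.2).2))) with hρB
      have hYB : Y ≤ B := fun y hy => hBmem.2 ⟨hYA y hy, hYA _ (hnormY x₀ hx₀N y hy)⟩
      have hYBodd : Odd (Y.subgroupOf B).index := by
        obtain ⟨P₀, hP₀⟩ := (hg.Yp.of_equiv (subgroupOfEquivOfLe hYB).symm).exists_le_sylow
        have e : Y.subgroupOf B = (P₀ : Subgroup B) := le_antisymm hP₀ fun r hr => mem_subgroupOf.2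
          (hAY (P₀.isPGroup'.map B.subtype) (fun y hy => ⟨⟨y, hYB hy⟩, hP₀ (mem_subgroupOf.2 hy), rfl⟩)
            r ⟨r, hr, rfl⟩ (hBmem.1 r.2).1)
        rw [e]
        exact Nat.odd_iff.2 (Nat.two_dvd_ne_zero.1 P₀.not_dvd_index)
      have hsign : ∀ y (hy : y ∈ Y) (hA : y ∈ A), y ∉ P → η ⟨y, hA⟩ = -1 := by
        intro y hy hA hyP
        have hp := (hg.split y hy).resolve_left hyP
        rw [show (⟨y, hA⟩ : A) = ⟨t, htA⟩ * ⟨t * y, hPA hp⟩ from
          Subtype.ext (h.toHyp.t_mul_t_mul y).symm, map_mul, hηt, hηP _ hp, mul_one]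
      have htriv := units_trivial_of_odd_index ρB (Y.subgroupOf B) hYBodd (fun y hy => by
        have hy' : (y : G) ∈ Y := mem_subgroupOf.1 hy
        rw [hρB, MonoidHom.mul_apply]
        by_cases hyP : (y : G) ∈ P
        · rw [MonoidHom.comp_apply, MonoidHom.comp_apply, hηP _ hyP, hηP _ ?_, mul_one]
          exact hg.norm_P hx₀N hyP
        · rw [MonoidHom.comp_apply, MonoidHom.comp_apply,
            show inclusion (inf_le_left : B ≤ A) y = ⟨(y : G), (hBmem.1 y.2).1⟩ from rfl,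
            show (((MulAut.conj x₀).toMonoidHom.comp B.subtype).codRestrict A (fun b => (hBmem.1 b.2).2)) y =
              (⟨x₀ * (y : G) * x₀⁻¹, (hBmem.1 y.2).2⟩ : A) from rfl,
            hsign _ hy' _ hyP, hsign _ ?_ _ ?_, Int.units_mul_self]
          · exact hnormY x₀ hx₀N _ hy'
          · intro hP'
            have h1 := hg.norm_P (inv_mem hx₀N) hP'
            refine hyP ?_
            convert h1 using 1
            show (y : G) = x₀⁻¹ * (x₀ * y * x₀⁻¹) * x₀⁻¹⁻¹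
            group)
      have hb : t * d'⁻¹ ∈ B := hBmem.2 ⟨mul_mem htA (inv_mem hdA'), by
        rw [show x₀ * (t * d'⁻¹) * x₀⁻¹ = x₀ * t * d'⁻¹ * x₀⁻¹ by group, e,
          show d * x₀ * d' * d'⁻¹ * x₀⁻¹ = d by group]
        exact hdA⟩
      have h1 := htriv ⟨_, hb⟩
      rw [hρB, MonoidHom.mul_apply, MonoidHom.comp_apply, MonoidHom.comp_apply,
        show inclusion (inf_le_left : B ≤ A) ⟨t * d'⁻¹, hb⟩ = ⟨t, htA⟩ * (⟨d', hdA'⟩ : A)⁻¹ from rfl,
        map_mul, map_inv, hηt, hde', inv_one, mul_one] at h1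
      rw [show (((MulAut.conj x₀).toMonoidHom.comp B.subtype).codRestrict A (fun b => (hBmem.1 b.2).2))
          ⟨t * d'⁻¹, hb⟩ = (⟨d, hdA⟩ : A) from Subtype.ext (by
            show x₀ * (t * d'⁻¹) * x₀⁻¹ = d
            rw [show x₀ * (t * d'⁻¹) * x₀⁻¹ = x₀ * t * d'⁻¹ * x₀⁻¹ by group, e]
            group), hde] at h1
      exact absurd h1 (by decide)
    · intro g hgN
      by_cases hgA : g ∈ A
      · exact Or.inl hgA
      obtain ⟨c, hc, hcN, hcg⟩ := hg.trans_cl h (hg.disp_mem h hx₀N) (hg.disp_mem h hgN) hdx₀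
        (fun e => hgA ⟨hgN, e⟩)
      have hcA : c ∈ A := ⟨hcN, by rw [disp_C h hc]; exact one_mem _⟩
      refine Or.inr ⟨c, hcA, (c * x₀)⁻¹ * g, ⟨mul_mem (inv_mem (mul_mem hcN hx₀N)) hgN,
        (hg.sameCl h (mul_mem hcN hx₀N) hgN).2 ?_⟩, by group⟩
      rw [disp_mul h, disp_C h hc, one_mul]
      exact hcg
    · have hker : η.ker.index = 2 := by
        rw [Subgroup.index_ker]
        have h2 : η.range = ⊤ := eq_top_iff.2 fun u _ => by
          rcases Int.units_eq_one_or u with rfl | rfl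
          · exact one_mem _
          · exact ⟨_, hηt⟩
        rw [h2, Subgroup.card_top, Nat.card_eq_fintype_card, Fintype.card_units_int]
      have h1 := Subgroup.card_mul_index η.ker
      rw [hker, ← Subgroup.card_mul_index PA, hPindex] at h1
      have h2 : Nat.card η.ker = Nat.card D₀ :=
        (Subgroup.card_map_of_injective A.subtype_injective).symm
      have h3 : Nat.card PA = Nat.card P := Nat.card_congr (subgroupOfEquivOfLe hPA).toEquiv
      have h4 := Subgroup.card_mul_index (P.subgroupOf D₀)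
      rw [Nat.card_congr (subgroupOfEquivOfLe hPD₀).toEquiv, ← h2] at h4
      rw [h3, ← h4] at h1
      have h5 : (P.subgroupOf D₀).index = (Y.subgroupOf A).index :=
        Nat.eq_of_mul_eq_mul_left (show 0 < 2 * Nat.card P from Nat.mul_pos two_pos Nat.card_pos) (by linarith)
      rw [h5]
      exact hYodd
  obtain ⟨χ, hχt, hχP⟩ := hdata.exists_sign
  let X : Subgroup G :=
    { carrier := {g | ∃ hgY : g ∈ Y₁, χ ⟨g, hY₁N hgY⟩ = 1}
      one_mem' := ⟨one_mem _, map_one χ⟩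
      mul_mem' := fun {a b} ha hb => ⟨mul_mem ha.1 hb.1, by
        rw [show (⟨a * b, _⟩ : N) = ⟨a, hY₁N ha.1⟩ * ⟨b, hY₁N hb.1⟩ from rfl, map_mul, ha.2, hb.2,
          mul_one]⟩
      inv_mem' := fun {a} ha => ⟨inv_mem ha.1, by
        have e := map_mul χ (⟨a, hY₁N ha.1⟩ : N)⁻¹ ⟨a, hY₁N ha.1⟩
        rw [inv_mul_cancel, map_one, ha.2, mul_one] at e
        exact e.symm⟩ }
  have htY₁ : t ∈ Y₁ := hYY₁ (hg.tY h)
  have hsplit : ∀ y ∈ Y₁, y ∈ X ∨ t * y ∈ X := by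
    intro y hy
    obtain ⟨j, hj⟩ := hY₁p ⟨y, hy⟩
    have hp : χ ⟨y, hY₁N hy⟩ ^ 2 ^ j = 1 := by
      rw [← map_pow, show (⟨y, hY₁N hy⟩ : N) ^ 2 ^ j = 1 from Subtype.ext (congrArg Subtype.val hj :),
        map_one]
    by_cases hy1 : χ ⟨y, hY₁N hy⟩ = 1
    · exact Or.inl ⟨hy, hy1⟩
    · refine Or.inr ⟨mul_mem htY₁ hy, ?_⟩
      rw [show (⟨t * y, _⟩ : N) = ⟨t, htN⟩ * ⟨y, hY₁N hy⟩ from rfl, map_mul]
      have : χ ⟨y, hY₁N hy⟩ = -1 := by
        rcases eq_or_ne (χ ⟨y, hY₁N hy⟩) (-1) with e | e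
        · exact e
        exfalso
        have h1 : |χ ⟨y, hY₁N hy⟩| = 1 := (pow_eq_one_iff_of_nonneg (n := 2 ^ j) (abs_nonneg _) (by positivity)).1
          (by rw [← abs_pow, hp, abs_one])
        rcases abs_eq (zero_le_one' ℝ) |>.1 h1 with e' | e'
        · exact hy1 e'
        · exact e e'
      rw [this, hχt]; norm_num
  have htX : t ∉ X := fun e => by
    obtain ⟨_, e'⟩ := e
    rw [hχt] at e'
    norm_num at e'
  have hX0 : ∀ x ∈ X, ¬ IsConj t x := by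
    rintro x ⟨hx, hxe⟩ hj
    have hxY := hJY x hx hj
    have hp := (hg.split x hxY).resolve_left ((hg.J_iff x hxY).1 hj)
    have : (⟨x, hY₁N hx⟩ : N) = ⟨t, htN⟩ * ⟨t * x, hYN (hg.PY hp)⟩ :=
      Subtype.ext (h.toHyp.t_mul_t_mul x).symm
    rw [this, map_mul, hχt, hχP _ hp] at hxe
    norm_num at hxe
  obtain ⟨f, hf, -, hdiv, -⟩ := parity h.simple h.ncomm h.t2 X
  rw [jcount_eq_zero hX0, zero_mul, Nat.mul_eq_zero] at hf
  have hf0 : f = 0 := hf.resolve_right Nat.card_pos.ne'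
  obtain ⟨o, ⟨o', rfl⟩, hi⟩ := index_eq S (X := X) (k := 2)
    (by rw [← hSY₁, card_two_cosets (M := X) (fun x hx => by obtain ⟨h', -⟩ := hx; exact h') htY₁ htX hsplit])
  omega

end Good

end Cfsg.Agent.JanThom
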