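import Cfsg.Agent.JanThom.CaseB

/-!
# Good pairs

`Y` is a 2-group containing `T` and `P` a subgroup of index 2 containing `D` such that the elements
of `Y` conjugate to `t` are those outside `P`.
-/

set_option autoImplicit false
set_option linter.style.haveILetI false
set_option linter.unusedSectionVars false

namespace Cfsg.Agent.JanThom

open Subgroup

variable {G : Type*} [Group G] [Finite G]

/-- A good pair. -/
structure Good (t : G) (T D Y P : Subgroup G) : Prop where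
  TY : T ≤ Y
  Yp : IsPGroup 2 Y
  PY : P ≤ Y
  DP : D ≤ P
  tP : t ∉ P
  split : ∀ y ∈ Y, y ∈ P ∨ t * y ∈ P
  J_iff : ∀ y ∈ Y, IsConj t y ↔ y ∉ P
  trans : ∀ a ∈ D, ∀ b ∈ D, a ≠ 1 → b ≠ 1 →
    ∃ c ∈ centralizer ({t} : Set G), (∀ y ∈ Y, c * y * c⁻¹ ∈ Y) ∧ c * a * c⁻¹ = b

/-- The squares of elements of `P`. -/
def sqP (P : Subgroup G) : Subgroup G := Subgroup.closure {x | ∃ p ∈ P, x = p * p}

/-- The displacement of `t` under `g`. -/
def disp (t g : G) : G := t * (g * t * g⁻¹)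

theorem card_two_cosets {Y M : Subgroup G} {a : G} (hMY : M ≤ Y) (haY : a ∈ Y) (haM : a ∉ M)
    (hsplit : ∀ y ∈ Y, y ∈ M ∨ a * y ∈ M) : Nat.card Y = 2 * Nat.card M := by
  rw [← Nat.card_eq_of_bijective (fun p : Bool × M =>
    if p.1 then (⟨a⁻¹ * p.2, mul_mem (inv_mem haY) (hMY p.2.2)⟩ : Y) else ⟨p.2, hMY p.2.2⟩) ⟨?_, ?_⟩,
    Nat.card_prod, Nat.card_eq_fintype_card (α := Bool), Fintype.card_bool]
  · rintro ⟨b, m, hm⟩ ⟨b', m', hm'⟩ hb
    cases b <;> cases b' <;> simp at hb ⊢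
    · exact hb
    · exact haM (by rw [show a = m' * m⁻¹ by rw [hb]; group]; exact mul_mem hm' (inv_mem hm))
    · exact haM (by rw [show a = m * m'⁻¹ by rw [← hb]; group]; exact mul_mem hm (inv_mem hm'))
    · exact hb
  · rintro ⟨y, hy⟩
    rcases hsplit y hy with h | h
    · exact ⟨(false, ⟨y, h⟩), rfl⟩
    · exact ⟨(true, ⟨_, h⟩), Subtype.ext (inv_mul_cancel_left a y)⟩

/-- A maximal subgroup over `P` avoiding `a`. -/
theorem exists_compl {Y P : Subgroup G} (hPY : P ≤ Y) (hsq : ∀ y ∈ Y, y * y ∈ P) {a : G}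
    (haY : a ∈ Y) (haP : a ∉ P) :
    ∃ M : Subgroup G, P ≤ M ∧ M ≤ Y ∧ a ∉ M ∧ ∀ y ∈ Y, y ∈ M ∨ a * y ∈ M := by
  classical
  haveI : Fintype (Subgroup G) := Fintype.ofFinite _
  obtain ⟨M, hM, hmax⟩ := Finset.exists_max_image
    (Finset.univ.filter fun M : Subgroup G => P ≤ M ∧ M ≤ Y ∧ a ∉ M) (fun M => Nat.card M)
    ⟨P, by simp [hPY, haP]⟩
  simp only [Finset.mem_filter, Finset.mem_univ, true_and] at hM hmax
  obtain ⟨hPM, hMY, haM⟩ := hM
  refine ⟨M, hPM, hMY, haM, fun y hy => ?_⟩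
  by_contra hcon
  rw [not_or] at hcon
  obtain ⟨hyM, hayM⟩ := hcon
  have hcomm : ∀ u ∈ Y, ∀ v ∈ Y, u * v * u⁻¹ * v⁻¹ ∈ M := fun u hu v hv => hPM (by
    rw [show u * v * u⁻¹ * v⁻¹ = u * v * (u * v) * (v⁻¹ * u⁻¹ * v * (v⁻¹ * u⁻¹ * v)) * (v⁻¹ * v⁻¹) by
      group]
    exact mul_mem (mul_mem (hsq _ (mul_mem hu hv))
      (hsq _ (mul_mem (mul_mem (inv_mem hv) (inv_mem hu)) hv))) (hsq _ (inv_mem hv)))
  have hconj : ∀ u ∈ Y, ∀ m ∈ M, u * m * u⁻¹ ∈ M := fun u hu m hm => by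
    rw [show u * m * u⁻¹ = u * m * u⁻¹ * m⁻¹ * m by group]
    exact mul_mem (hcomm u hu m (hMY hm)) hm
  let M' : Subgroup G :=
    { carrier := {z | z ∈ M ∨ y * z ∈ M}
      one_mem' := Or.inl (one_mem M)
      mul_mem' := by
        rintro u v (hu | hu) (hv | hv)
        · exact Or.inl (mul_mem hu hv)
        · refine Or.inr ?_
          rw [show y * (u * v) = y * u * y⁻¹ * (y * v) by group]
          exact mul_mem (hconj y hy u hu) hv
        · refine Or.inr ?_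
          rw [← mul_assoc]
          exact mul_mem hu hv
        · refine Or.inl ?_
          rw [show u * v = y⁻¹ * (y * u) * y * (y * y)⁻¹ * (y * v) by group]
          refine mul_mem (mul_mem ?_ (inv_mem (hPM (hsq y hy)))) hv
          simpa using hconj _ (inv_mem hy) _ hu
      inv_mem' := by
        rintro u (hu | hu)
        · exact Or.inl (inv_mem hu)
        · refine Or.inr ?_
          rw [show y * u⁻¹ = y * (y * u)⁻¹ * y⁻¹ * (y * y) by group]
          exact mul_mem (hconj y hy _ (inv_mem hu)) (hPM (hsq y hy)) }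
  have hle : M ≤ M' := fun z hz => Or.inl hz
  have hM'Y : M' ≤ Y := by
    rintro z (hz | hz)
    · exact hMY hz
    · rw [show z = y⁻¹ * (y * z) by group]; exact mul_mem (inv_mem hy) (hMY hz)
  have haM' : a ∉ M' := by
    rintro (h | h)
    · exact haM h
    · exact hayM (by
        rw [show a * y = a * y * a⁻¹ * y⁻¹ * (y * a) by group]
        exact mul_mem (hcomm a haY y hy) h)
  have hM'M := Subgroup.eq_of_le_of_card_ge hle (hmax M' ⟨hPM.trans hle, hM'Y, haM'⟩)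
  exact hyM (hM'M ▸ (Or.inr (hPM (hsq y hy)) : y ∈ M'))

namespace HypB

variable {t : G} {T D : Subgroup G}

/-- A 2-element whose square is conjugate to `t` does not exist. -/
theorem sq_not_conj (h : HypB t T D) {R : Subgroup G} (hR : IsPGroup 2 R) {s : G} (hs : s ∈ R) :
    ¬ IsConj t (s * s) := by
  intro hj
  obtain ⟨k, hk, hkT⟩ := h.toHyp.exists_into_T hj (hR.to_le (zpowers_le.2 hs)) fun r hr => by
    obtain ⟨i, rfl⟩ := mem_zpowers_iff.1 hr
    exact (Commute.zpow_left ((Commute.refl s).mul_right (Commute.refl s)) i).eq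
  have h1 := h.T_sq (hkT s (mem_zpowers s))
  exact h.toHyp.t_ne_one (by rw [← hk, ← h1]; group)

end HypB

namespace Good

variable {t : G} {T D Y P : Subgroup G}

theorem tY (hg : Good t T D Y P) (h : HypB t T D) : t ∈ Y := hg.TY h.tT

theorem card_Y (hg : Good t T D Y P) (h : HypB t T D) : Nat.card Y = 2 * Nat.card P :=
  card_two_cosets hg.PY (hg.tY h) hg.tP hg.split

theorem tmul_notMem (hg : Good t T D Y P) {p : G} (hp : p ∈ P) : t * p ∉ P := fun e =>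
  hg.tP (by simpa using mul_mem e (inv_mem hp))

theorem conj_tmul (hg : Good t T D Y P) (h : HypB t T D) {p : G} (hp : p ∈ P) : IsConj t (t * p) :=
  (hg.J_iff _ (mul_mem (hg.tY h) (hg.PY hp))).2 (hg.tmul_notMem hp)

theorem inv_t (hg : Good t T D Y P) (h : HypB t T D) {p : G} (hp : p ∈ P) : t * p * t = p⁻¹ := by
  refine eq_inv_of_mul_eq_one_left ?_
  rw [mul_assoc (t * p)]
  exact mul_self_of_conj h.t2 (hg.conj_tmul h hp)

theorem P_comm (hg : Good t T D Y P) (h : HypB t T D) {p q : G} (hp : p ∈ P) (hq : q ∈ P) :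
    p * q = q * p := by
  have e : (q * p)⁻¹ = (p * q)⁻¹ := by
    rw [mul_inv_rev, ← hg.inv_t h hp, ← hg.inv_t h hq, ← hg.inv_t h (mul_mem hp hq)]
    rw [show t * p * t * (t * q * t) = t * p * (t * t) * q * t by group, h.toHyp.tt, mul_one,
      mul_assoc t p q]
  exact (inv_injective e).symm

theorem omega_iff (hg : Good t T D Y P) (h : HypB t T D) {p : G} (hp : p ∈ P) :
    p * p = 1 ↔ p ∈ D := by
  refine ⟨fun e => ?_, fun e => h.hexp p e⟩
  have hc : p * t = t * p := by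
    have := hg.inv_t h hp
    rw [inv_eq_of_mul_eq_one_right e] at this
    conv_lhs => rw [← this]
    rw [mul_assoc, h.toHyp.tt, mul_one]
  have hT := h.toHyp.mem_T hg.Yp hg.TY (hg.PY hp) hc
  exact (h.split p hT).resolve_right fun hd => hg.tmul_notMem hp (hg.DP hd)

theorem comm_D (hg : Good t T D Y P) (h : HypB t T D) {y d : G} (hy : y ∈ Y) (hd : d ∈ D) :
    y * d = d * y := by
  rcases hg.split y hy with hp | hp
  · exact hg.P_comm h hp (hg.DP hd)
  · have e := hg.P_comm h hp (hg.DP hd)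
    rw [mul_assoc, ← mul_assoc d t, ← h.toHyp.comm_t (h.DT hd), mul_assoc t d] at e
    exact mul_left_cancel e

/-- The centralizer of an element of `Y ∖ P` in a 2-group over `Y` lies in `Y`. -/
theorem cent (hg : Good t T D Y P) (h : HypB t T D) {R : Subgroup G} (hR : IsPGroup 2 R)
    (hYR : Y ≤ R) {x r : G} (hx : x ∈ Y) (hxP : x ∉ P) (hr : r ∈ R) (hc : r * x = x * r) :
    r ∈ Y := by
  classical
  have hj := (hg.J_iff x hx).2 hxP
  set Q := R ⊓ centralizer ({x} : Set G) with hQ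
  have hQle := h.toHyp.card_cent_le hj (hR.to_le (inf_le_left : Q ≤ R))
    fun r hr => mem_centralizer_singleton_iff.1 hr.2
  have hmem : ∀ p : Bool × D, (if p.1 then x * p.2 else (p.2 : G)) ∈ Q ∧
      (if p.1 then x * p.2 else (p.2 : G)) ∈ Y := by
    rintro ⟨b, d, hd⟩
    have hdY : d ∈ Y := hg.PY (hg.DP hd)
    have hcd := hg.comm_D h hx hd
    cases b
    · exact ⟨⟨hYR hdY, mem_centralizer_singleton_iff.2 hcd.symm⟩, hdY⟩
    · refine ⟨⟨hYR (mul_mem hx hdY), mem_centralizer_singleton_iff.2 ?_⟩, mul_mem hx hdY⟩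
      show x * d * x = x * (x * d)
      rw [mul_assoc, ← hcd]
  have hinj : Function.Injective (fun p => (⟨_, (hmem p).1⟩ : Q)) := by
    rintro ⟨b, d, hd⟩ ⟨b', d', hd'⟩ e
    have e' := congrArg Subtype.val e
    cases b <;> cases b' <;> simp at e' ⊢
    · exact e'
    · exact hxP (by rw [show x = d * d'⁻¹ by rw [e']; group]
                    exact mul_mem (hg.DP hd) (inv_mem (hg.DP hd')))
    · exact hxP (by rw [show x = d' * d⁻¹ by rw [← e']; group]
                    exact mul_mem (hg.DP hd') (inv_mem (hg.DP hd)))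
    · exact e'
  haveI : Fintype Q := Fintype.ofFinite _
  haveI : Fintype (Bool × D) := Fintype.ofFinite _
  have hsurj := (Fintype.bijective_iff_injective_and_card _).2 ⟨hinj, le_antisymm
    (Fintype.card_le_of_injective _ hinj) (by
      rw [← Nat.card_eq_fintype_card, ← Nat.card_eq_fintype_card, Nat.card_prod,
        Nat.card_eq_fintype_card (α := Bool), Fintype.card_bool, ← h.toHyp.card_T]
      exact hQle)⟩
  obtain ⟨p, hp⟩ := hsurj.2 ⟨r, hr, mem_centralizer_singleton_iff.2 hc⟩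
  have e : (if p.1 then x * p.2 else (p.2 : G)) = r := congrArg Subtype.val hp
  exact e ▸ (hmem p).2

theorem mem_sqP (hg : Good t T D Y P) (h : HypB t T D) {x : G} :
    x ∈ sqP P ↔ ∃ p ∈ P, x = p * p := by
  refine ⟨fun hx => ?_, fun hx => Subgroup.subset_closure hx⟩
  refine Subgroup.closure_induction (p := fun x _ => ∃ p ∈ P, x = p * p) (fun x hx => hx)
    ⟨1, one_mem P, (one_mul 1).symm⟩ ?_ ?_ hx
  · rintro _ _ _ _ ⟨p, hp, rfl⟩ ⟨q, hq, rfl⟩
    refine ⟨p * q, mul_mem hp hq, ?_⟩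
    rw [mul_assoc p q, ← mul_assoc q p, ← hg.P_comm h hp hq]
    group
  · rintro _ _ ⟨p, hp, rfl⟩
    exact ⟨p⁻¹, inv_mem hp, mul_inv_rev p p⟩

theorem sqP_le (hg : Good t T D Y P) (h : HypB t T D) : sqP P ≤ P := fun x hx => by
  obtain ⟨p, hp, rfl⟩ := (hg.mem_sqP h).1 hx
  exact mul_mem hp hp

theorem card_sqP (hg : Good t T D Y P) (h : HypB t T D) :
    Nat.card P = Nat.card (sqP P) * Nat.card D := by
  let sq : P →* G :=
    { toFun := fun p => (p : G) * p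
      map_one' := one_mul 1
      map_mul' := fun p q => by
        show (p : G) * q * (p * q) = p * p * (q * q)
        rw [mul_assoc (p : G) q, ← mul_assoc (q : G) p, ← hg.P_comm h p.2 q.2]
        group }
  have hr : sq.range = sqP P := by
    ext x
    rw [hg.mem_sqP h]
    exact ⟨fun ⟨p, hp⟩ => ⟨p, p.2, hp.symm⟩, fun ⟨p, hp, e⟩ => ⟨⟨p, hp⟩, e.symm⟩⟩
  have hk : sq.ker = D.subgroupOf P := by
    ext x
    rw [MonoidHom.mem_ker, mem_subgroupOf]
    exact hg.omega_iff h x.2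
  rw [← Nat.card_congr (subgroupOfEquivOfLe hg.DP).toEquiv, ← hk, ← hr, mul_comm,
    ← Subgroup.index_ker, Subgroup.card_mul_index]

/-- A power map inducing `P/P² ≅ D`. -/
theorem exists_pow (hg : Good t T D Y P) (h : HypB t T D) :
    ∃ e : ℕ, (∀ p ∈ P, p ^ e ∈ D) ∧ ∀ p ∈ P, p ^ e = 1 ↔ p ∈ sqP P := by
  classical
  haveI : Fact (Nat.Prime 2) := ⟨Nat.prime_two⟩
  have hex : ∃ k : ℕ, ∀ p ∈ P, p ^ 2 ^ (k + 1) = 1 := by
    obtain ⟨n, hn⟩ := (hg.Yp.to_le hg.PY).exists_card_eq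
    refine ⟨n, fun p hp => ?_⟩
    have e : p ^ 2 ^ n = 1 := by
      rw [← hn]; exact congrArg Subtype.val (pow_card_eq_one' (x := (⟨p, hp⟩ : P)))
    rw [pow_succ, pow_mul, e, one_pow]
  set k := Nat.find hex with hk
  have hpow := Nat.find_spec hex
  set e := 2 ^ k with he
  have hD : ∀ p ∈ P, p ^ e ∈ D := fun p hp => by
    refine (hg.omega_iff h (pow_mem hp e)).1 ?_
    rw [← pow_add, he, ← two_mul, ← pow_succ']
    exact hpow p hp
  obtain ⟨p₀, hp₀, hp₀e⟩ : ∃ p ∈ P, p ^ e ≠ 1 := by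
    rcases Nat.eq_zero_or_pos k with hk0 | hk0
    · obtain ⟨d, hd, hd1⟩ := h.exists_ne_one
      exact ⟨d, hg.DP hd, by rwa [he, hk0, pow_zero, pow_one]⟩
    · have := Nat.find_min hex (show k - 1 < k by omega)
      push Not at this
      rwa [Nat.sub_add_cancel hk0] at this
  let ψ : P →* G :=
    { toFun := fun p => (p : G) ^ e
      map_one' := one_pow e
      map_mul' := fun p q => (show Commute (p : G) q from hg.P_comm h p.2 q.2).mul_pow e }
  have hr : ψ.range = D := by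
    refine le_antisymm ?_ fun d hd => ?_
    · rintro _ ⟨p, rfl⟩; exact hD p p.2
    by_cases hd1 : d = 1
    · exact hd1 ▸ one_mem _
    obtain ⟨c, hc, hcY, rfl⟩ := hg.trans _ (hD p₀ hp₀) d hd hp₀e hd1
    have hcp : c * p₀ * c⁻¹ ∈ P := by
      by_contra hn
      have hj := (hg.J_iff _ (hcY _ (hg.PY hp₀))).2 hn
      exact (hg.J_iff p₀ (hg.PY hp₀)).1 (hj.trans (isConj_iff.2 ⟨c, rfl⟩).symm) hp₀
    exact ⟨⟨_, hcp⟩, conj_pow⟩
  have hle : (sqP P).subgroupOf P ≤ ψ.ker := by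
    intro x hx
    obtain ⟨p, hp, hpe⟩ := (hg.mem_sqP h).1 (mem_subgroupOf.1 hx)
    show (x : G) ^ e = 1
    rw [hpe, (Commute.refl p).mul_pow, ← pow_add, he, ← two_mul, ← pow_succ']
    exact hpow p hp
  have heq : (sqP P).subgroupOf P = ψ.ker := by
    refine Subgroup.eq_of_le_of_card_ge hle (le_of_eq ?_)
    have h1 := Subgroup.card_mul_index ψ.ker
    rw [Subgroup.index_ker, hr, hg.card_sqP h] at h1
    rw [Nat.card_congr (subgroupOfEquivOfLe (hg.sqP_le h)).toEquiv]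
    exact Nat.eq_of_mul_eq_mul_right Nat.card_pos h1
  refine ⟨e, hD, fun p hp => ?_⟩
  rw [← mem_subgroupOf (K := P) (h := ⟨p, hp⟩), heq]
  rfl

/-- The stabilizer of `t` in `N(Y)` is transitive on the nontrivial cosets of `P²`. -/
theorem trans_cl (hg : Good t T D Y P) (h : HypB t T D) {p q : G} (hp : p ∈ P) (hq : q ∈ P)
    (hp' : p ∉ sqP P) (hq' : q ∉ sqP P) :
    ∃ c ∈ centralizer ({t} : Set G), c ∈ normalizer (Y : Set G) ∧
      (c * p * c⁻¹)⁻¹ * q ∈ sqP P := by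
  obtain ⟨e, heD, he⟩ := hg.exists_pow h
  obtain ⟨c, hc, hcY, hpq⟩ := hg.trans _ (heD p hp) _ (heD q hq) (fun h' => hp' ((he p hp).1 h'))
    (fun h' => hq' ((he q hq).1 h'))
  have hcp : c * p * c⁻¹ ∈ P := by
    by_contra hn
    have hj := (hg.J_iff _ (hcY _ (hg.PY hp))).2 hn
    exact (hg.J_iff p (hg.PY hp)).1 (hj.trans (isConj_iff.2 ⟨c, rfl⟩).symm) hp
  refine ⟨c, hc, mem_normalizer_of hcY, (he _ (mul_mem (inv_mem hcp) hq)).1 ?_⟩
  rw [(show Commute (c * p * c⁻¹)⁻¹ q from hg.P_comm h (inv_mem hcp) hq).mul_pow, inv_pow,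
    conj_pow, hpq, inv_mul_cancel]

section Normalizer

theorem norm_P (hg : Good t T D Y P) {g p : G} (hgN : g ∈ normalizer (Y : Set G)) (hp : p ∈ P) :
    g * p * g⁻¹ ∈ P := by
  by_contra hn
  have hy := (mem_normalizer_iff.1 hgN p).1 (hg.PY hp)
  exact (hg.J_iff p (hg.PY hp)).1 (((hg.J_iff _ hy).2 hn).trans (isConj_iff.2 ⟨g, rfl⟩).symm) hp

theorem norm_D (hg : Good t T D Y P) (h : HypB t T D) {g d : G} (hgN : g ∈ normalizer (Y : Set G))
    (hd : d ∈ D) : g * d * g⁻¹ ∈ D := by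
  refine (hg.omega_iff h (hg.norm_P hgN (hg.DP hd))).1 ?_
  rw [conj_mul, h.hexp d hd, mul_one, mul_inv_cancel]

theorem norm_sqP (hg : Good t T D Y P) (h : HypB t T D) {g x : G}
    (hgN : g ∈ normalizer (Y : Set G)) (hx : x ∈ sqP P) : g * x * g⁻¹ ∈ sqP P := by
  obtain ⟨p, hp, rfl⟩ := (hg.mem_sqP h).1 hx
  exact (hg.mem_sqP h).2 ⟨_, hg.norm_P hgN hp, (conj_mul).symm⟩

theorem disp_mem (hg : Good t T D Y P) (h : HypB t T D) {g : G}
    (hgN : g ∈ normalizer (Y : Set G)) : disp t g ∈ P := by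
  have hy := (mem_normalizer_iff.1 hgN t).1 (hg.tY h)
  exact (hg.split _ hy).resolve_left ((hg.J_iff _ hy).1 (isConj_iff.2 ⟨g, rfl⟩))

theorem disp_mul (h : HypB t T D) (g k : G) :
    disp t (g * k) = disp t g * (g * disp t k * g⁻¹) := by
  unfold disp
  rw [show t * (g * t * g⁻¹) * (g * (t * (k * t * k⁻¹)) * g⁻¹) =
    t * g * (t * t) * (k * t * k⁻¹) * g⁻¹ by group, h.toHyp.tt]
  group

theorem disp_C (h : HypB t T D) {c : G} (hc : c ∈ centralizer ({t} : Set G)) : disp t c = 1 := by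
  rw [disp, mul_inv_eq_iff_eq_mul.2 (mem_centralizer_singleton_iff.1 hc), h.toHyp.tt]

theorem disp_inv (h : HypB t T D) (g : G) : disp t g⁻¹ = g⁻¹ * (disp t g)⁻¹ * g := by
  unfold disp
  rw [mul_inv_rev, h.toHyp.tinv, show g⁻¹ * ((g * t * g⁻¹)⁻¹ * t) * g = t⁻¹ * (g⁻¹ * t * g) by group,
    h.toHyp.tinv, inv_inv]

theorem disp_P (hg : Good t T D Y P) (h : HypB t T D) {p : G} (hp : p ∈ P) :
    disp t p = p⁻¹ * p⁻¹ := by
  rw [disp, ← mul_assoc, ← mul_assoc, hg.inv_t h hp]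

theorem disp_Y (hg : Good t T D Y P) (h : HypB t T D) {y : G} (hy : y ∈ Y) :
    disp t y ∈ sqP P := by
  rcases hg.split y hy with hp | hp
  · rw [hg.disp_P h hp]
    exact (hg.mem_sqP h).2 ⟨_, inv_mem hp, rfl⟩
  · rw [← h.toHyp.t_mul_t_mul y, disp_mul h, disp_C h (h.Tle h.tT), one_mul,
      hg.disp_P h hp]
    refine hg.norm_sqP h ?_ ((hg.mem_sqP h).2 ⟨_, inv_mem hp, rfl⟩)
    exact le_normalizer (hg.tY h)

/-- An element of a 2-group over `Y` fixing the class of `t` lies in `Y`. -/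
theorem fix_mem (hg : Good t T D Y P) (h : HypB t T D) {R : Subgroup G} (hR : IsPGroup 2 R)
    (hYR : Y ≤ R) {r : G} (hr : r ∈ R) (hd : disp t r ∈ sqP P) : r ∈ Y := by
  obtain ⟨p, hp, hpe⟩ := (hg.mem_sqP h).1 hd
  have hpr : p * r * t = t * (p * r) := by
    have e1 : r * t * r⁻¹ = t * (p * p) := by rw [← hpe, disp, h.toHyp.t_mul_t_mul]
    calc p * r * t = p * (r * t * r⁻¹) * r := by group
      _ = t * (t * p * t) * (p * p) * r := by
        rw [e1, show t * (t * p * t) = t * (t * (p * t)) by group, h.toHyp.t_mul_t_mul]; group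
      _ = t * (p * r) := by rw [hg.inv_t h hp]; group
  have := hg.TY (h.toHyp.mem_T hR (hg.TY.trans hYR) (mul_mem (hYR (hg.PY hp)) hr) hpr)
  simpa using mul_mem (inv_mem (hg.PY hp)) this

theorem sameCl (hg : Good t T D Y P) (h : HypB t T D) {g k : G}
    (hgN : g ∈ normalizer (Y : Set G)) (hkN : k ∈ normalizer (Y : Set G)) :
    disp t (g⁻¹ * k) ∈ sqP P ↔ (disp t g)⁻¹ * disp t k ∈ sqP P := by
  rw [disp_mul h, disp_inv h,
    show g⁻¹ * (disp t g)⁻¹ * g * (g⁻¹ * disp t k * g⁻¹⁻¹) = g⁻¹ * ((disp t g)⁻¹ * disp t k) * g by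
      group]
  refine ⟨fun hx => ?_, fun hx => by simpa using hg.norm_sqP h (inv_mem hgN) hx⟩
  have := hg.norm_sqP h hgN hx
  rwa [show ∀ w : G, g * (g⁻¹ * w * g) * g⁻¹ = w from fun w => by group] at this

/-- If `Y` is not a Sylow subgroup, some element of `N(Y)` moves the class of `t`; a Sylow subgroup
`Y` is impossible. -/
theorem exists_move (hg : Good t T D Y P) (h : HypB t T D) :
    ∃ g ∈ normalizer (Y : Set G), disp t g ∉ sqP P := by
  haveI : Fact (Nat.Prime 2) := ⟨Nat.prime_two⟩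
  obtain ⟨S, hS⟩ := hg.Yp.exists_le_sylow
  by_cases hSY : Y = (S : Subgroup G)
  · exfalso
    obtain ⟨f, hf, -, hdiv, -⟩ := parity h.simple h.ncomm h.t2 P
    rw [jcount_eq_zero (fun x hx hj => (hg.J_iff x (hg.PY hx)).1 hj hx), zero_mul,
      Nat.mul_eq_zero] at hf
    have hf0 : f = 0 := hf.resolve_right Nat.card_pos.ne'
    obtain ⟨o, ⟨o', rfl⟩, hi⟩ := index_eq S (X := P) (k := 2) (by rw [← hSY, hg.card_Y h])
    omega
  · obtain ⟨g, hgS, hgY, hgN⟩ := normalizer_grow S.isPGroup' hS hSY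
    exact ⟨g, hgN, fun e => hgY (hg.fix_mem h S.isPGroup' hS hgS e)⟩

theorem move_surj (hg : Good t T D Y P) (h : HypB t T D) {K : Subgroup G}
    (hK : ∀ c ∈ centralizer ({t} : Set G), c ∈ normalizer (Y : Set G) →
      ∀ g ∈ K, c * g * c⁻¹ ∈ K) (hKN : K ≤ normalizer (Y : Set G))
    {g₀ : G} (hg₀ : g₀ ∈ K) (hmove : disp t g₀ ∉ sqP P) {p : G} (hp : p ∈ P) :
    ∃ g ∈ K, (disp t g)⁻¹ * p ∈ sqP P := by
  by_cases hps : p ∈ sqP P
  · exact ⟨1, one_mem K, mul_mem (inv_mem (hg.disp_Y h (one_mem Y))) hps⟩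
  obtain ⟨c, hc, hcN, hcp⟩ := hg.trans_cl h (hg.disp_mem h (hKN hg₀)) hp hmove hps
  refine ⟨c * g₀ * c⁻¹, hK c hc hcN g₀ hg₀, ?_⟩
  rw [mul_assoc c, disp_mul h, disp_C h hc, one_mul, disp_mul h, disp_C h (inv_mem hc), mul_one,
    mul_inv_cancel, mul_one]
  exact hcp

/-- A Sylow 2-subgroup over `Y` of a subgroup acting transitively on the classes. -/
theorem exists_sylow_over (hg : Good t T D Y P) (h : HypB t T D) {K : Subgroup G}
    (hYK : Y ≤ K) (hKN : K ≤ normalizer (Y : Set G))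
    (hsurj : ∀ p ∈ P, ∃ g ∈ K, (disp t g)⁻¹ * p ∈ sqP P) :
    ∃ Y₁ : Subgroup G, Y ≤ Y₁ ∧ Y₁ ≤ K ∧ IsPGroup 2 Y₁ ∧
      Nat.card Y₁ = Nat.card D * Nat.card Y ∧
      (∀ p ∈ P, ∃ y ∈ Y₁, (disp t y)⁻¹ * p ∈ sqP P) ∧
      ∀ Q : Subgroup G, Q ≤ K → IsPGroup 2 Q → ∃ k ∈ K, ∀ x ∈ Q, k * x * k⁻¹ ∈ Y₁ := by
  classical
  haveI : Fact (Nat.Prime 2) := ⟨Nat.prime_two⟩
  set sq := (sqP P).subgroupOf P with hsq
  have hcardq : Nat.card (P ⧸ sq) = Nat.card D := by
    have h1 := Subgroup.card_mul_index sq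
    rw [hsq, Nat.card_congr (subgroupOfEquivOfLe (hg.sqP_le h)).toEquiv, hg.card_sqP h] at h1
    rw [← Subgroup.index_eq_card]
    exact Nat.eq_of_mul_eq_mul_left Nat.card_pos h1
  let A : Subgroup G :=
    { carrier := {g | g ∈ K ∧ disp t g ∈ sqP P}
      one_mem' := ⟨one_mem K, hg.disp_Y h (one_mem Y)⟩
      mul_mem' := fun {a b} ha hb => ⟨mul_mem ha.1 hb.1, by
        rw [disp_mul h]; exact mul_mem ha.2 (hg.norm_sqP h (hKN ha.1) hb.2)⟩
      inv_mem' := fun {a} ha => ⟨inv_mem ha.1, by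
        rw [disp_inv h]
        simpa using hg.norm_sqP h (inv_mem (hKN ha.1)) (inv_mem ha.2)⟩ }
  -- cosets of the stabilizer correspond to classes
  have key : ∀ L : Subgroup G, L ≤ K → Nat.card (L ⧸ (A.subgroupOf L)) ≤ Nat.card D ∧
      ((∀ p ∈ P, ∃ g ∈ L, (disp t g)⁻¹ * p ∈ sqP P) ↔ Nat.card (L ⧸ (A.subgroupOf L)) = Nat.card D) := by
    intro L hL
    let φ : L ⧸ (A.subgroupOf L) → P ⧸ sq := Quotient.lift
      (fun g : L => QuotientGroup.mk (⟨disp t g, hg.disp_mem h (hKN (hL g.2))⟩ : P)) (fun a b hab => by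
        have h' : (a : G)⁻¹ * b ∈ A := mem_subgroupOf.1 (QuotientGroup.leftRel_apply.1 hab)
        exact QuotientGroup.eq.2 (mem_subgroupOf.2 ((hg.sameCl h (hKN (hL a.2)) (hKN (hL b.2))).1 h'.2)))
    have hφ : Function.Injective φ := by
      rintro ⟨a⟩ ⟨b⟩ hab
      refine QuotientGroup.eq.2 (mem_subgroupOf.2 ⟨mul_mem (inv_mem (hL a.2)) (hL b.2), ?_⟩)
      exact (hg.sameCl h (hKN (hL a.2)) (hKN (hL b.2))).2 (mem_subgroupOf.1 (QuotientGroup.eq.1 hab))
    haveI : Fintype (L ⧸ A.subgroupOf L) := Fintype.ofFinite _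
    haveI : Fintype (P ⧸ sq) := Fintype.ofFinite _
    refine ⟨hcardq ▸ Nat.card_le_card_of_injective φ hφ, ⟨fun hs => ?_, fun hc => ?_⟩⟩
    · rw [← hcardq]
      refine Nat.card_eq_of_bijective φ ⟨hφ, fun x => ?_⟩
      obtain ⟨⟨p, hp⟩, rfl⟩ := QuotientGroup.mk_surjective x
      obtain ⟨g, hgL, hgp⟩ := hs p hp
      exact ⟨QuotientGroup.mk ⟨g, hgL⟩, QuotientGroup.eq.2 (mem_subgroupOf.2 hgp)⟩
    · intro p hp
      have hb : Function.Bijective φ := (Fintype.bijective_iff_injective_and_card φ).2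
        ⟨hφ, by rw [← Nat.card_eq_fintype_card, ← Nat.card_eq_fintype_card, hc, hcardq]⟩
      obtain ⟨x, hx⟩ := hb.2 (QuotientGroup.mk ⟨p, hp⟩)
      obtain ⟨⟨g, hgL⟩, rfl⟩ := QuotientGroup.mk_surjective x
      exact ⟨g, hgL, mem_subgroupOf.1 (QuotientGroup.eq.1 hx)⟩
  obtain ⟨P₀, hP₀⟩ := (hg.Yp.of_equiv (subgroupOfEquivOfLe hYK).symm).exists_le_sylow
  set Y₁ := (P₀ : Subgroup K).map K.subtype with hY₁
  have hY₁K : Y₁ ≤ K := map_subtype_le _
  have hY₁p : IsPGroup 2 Y₁ := P₀.isPGroup'.map _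
  have hYY₁ : Y ≤ Y₁ := fun y hy => ⟨⟨y, hYK hy⟩, hP₀ (mem_subgroupOf.2 hy), rfl⟩
  have hcardY₁ : Nat.card Y₁ = Nat.card (P₀ : Subgroup K) :=
    Subgroup.card_map_of_injective K.subtype_injective
  have hAY₁ : A.subgroupOf Y₁ = Y.subgroupOf Y₁ := by
    ext ⟨r, hr⟩
    rw [mem_subgroupOf, mem_subgroupOf]
    exact ⟨fun hA => hg.fix_mem h hY₁p hYY₁ hr hA.2, fun hy => ⟨hYK hy, hg.disp_Y h hy⟩⟩
  obtain ⟨hle, hiff⟩ := key Y₁ hY₁K
  rw [← Subgroup.index_eq_card, hAY₁] at hle hiff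
  have hmul := Subgroup.card_mul_index (Y.subgroupOf Y₁)
  rw [Nat.card_congr (subgroupOfEquivOfLe hYY₁).toEquiv] at hmul
  have hge : Nat.card D * Nat.card Y ∣ Nat.card Y₁ := by
    have hK := (key K le_rfl).2.1 hsurj
    have hmulK := Subgroup.card_mul_index (A.subgroupOf K)
    rw [Subgroup.index_eq_card, hK] at hmulK
    have hYA : Nat.card Y ∣ Nat.card (A.subgroupOf K) := by
      have : Y.subgroupOf K ≤ A.subgroupOf K := fun y hy =>
        mem_subgroupOf.2 ⟨y.2, hg.disp_Y h (mem_subgroupOf.1 hy)⟩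
      rw [← Nat.card_congr (subgroupOfEquivOfLe hYK).toEquiv]
      exact Subgroup.card_dvd_of_le this
    obtain ⟨a, ha⟩ := (h.Tp.to_le h.DT).exists_card_eq
    obtain ⟨b, hb⟩ := hg.Yp.exists_card_eq
    have hd : 2 ^ (a + b) ∣ Nat.card K := by
      rw [pow_add, ← ha, ← hb, ← hmulK, mul_comm]
      exact Nat.mul_dvd_mul hYA dvd_rfl
    rw [hcardY₁, ha, hb, ← pow_add]
    exact P₀.pow_dvd_card_of_pow_dvd_card hd
  have hidx : (Y.subgroupOf Y₁).index = Nat.card D := le_antisymm hle (by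
    have := Nat.le_of_dvd Nat.card_pos hge
    rw [← hmul, mul_comm (Nat.card D)] at this
    exact Nat.le_of_mul_le_mul_left this Nat.card_pos)
  refine ⟨Y₁, hYY₁, hY₁K, hY₁p, by rw [← hmul, hidx, mul_comm], hiff.2 hidx, ?_⟩
  intro Q hQ hQp
  obtain ⟨Q', hQ'⟩ := (hQp.of_equiv (subgroupOfEquivOfLe hQ).symm).exists_le_sylow
  obtain ⟨k, hk⟩ := MulAction.exists_smul_eq K Q' P₀
  refine ⟨k, k.2, fun x hx => ⟨k * ⟨x, hQ hx⟩ * k⁻¹, ?_, rfl⟩⟩
  rw [← hk, Sylow.coe_subgroup_smul]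
  exact Subgroup.smul_mem_pointwise_smul _ _ _ (hQ' (mem_subgroupOf.2 hx))

end Normalizer

end Good

end Cfsg.Agent.JanThom
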