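import Mathlib
import Cfsg.Agent.S0276
import Cfsg.Agent.S0809
import Cfsg.Agent.FusionSimple.PSLTwo
import Cfsg.Agent.InvolConjTwo.Linear
import Cfsg.Agent.Linear.SmallIso

/-!
# Sylow 2-subgroups and involutions of `PSL(2,q)`
-/

set_option autoImplicit false
set_option linter.style.haveILetI false

namespace Cfsg.Agent.JanThom

open Matrix
open scoped MatrixGroups

variable {F : Type*} [Field F] [Fintype F]

theorem sq_zero_of_nilpotent {A : Matrix (Fin 2) (Fin 2) F} (h : IsNilpotent A) : A * A = 0 := by
  obtain ⟨k, hk⟩ := h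
  have hdet : A.det = 0 := by
    refine eq_zero_of_pow_eq_zero (n := k + 1) ?_
    rw [← det_pow, pow_succ, hk, zero_mul, det_zero]
  have hsq : A * A = A.trace • A := by
    rw [det_fin_two] at hdet
    rw [← Matrix.ext_iff]
    simp [Fin.forall_fin_two, Matrix.mul_apply, Fin.sum_univ_two, trace_fin_two]
    refine ⟨⟨?_, ?_⟩, ?_, ?_⟩ <;> first | linear_combination hdet | linear_combination -hdet | ring
  have hp : ∀ j : ℕ, A ^ (j + 1) = A.trace ^ j • A := fun j => by
    induction j with
    | zero => simp
    | succ j ih => rw [pow_succ, ih, smul_mul_assoc, hsq, smul_smul, ← pow_succ]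
  have h1 := hp k
  rw [pow_succ, hk, zero_mul, eq_comm, smul_eq_zero] at h1
  rcases h1 with h1 | h1
  · rw [hsq, eq_zero_of_pow_eq_zero h1, zero_smul]
  · rw [h1, zero_mul]

theorem psl_two_facts (hF : 3 < Fintype.card F)
    (P : Sylow 2 (ProjectiveSpecialLinearGroup (Fin 2) F)) :
    (∀ x y : ProjectiveSpecialLinearGroup (Fin 2) F, orderOf x = 2 → orderOf y = 2 → IsConj x y) ∧
      ((∃ k : ℕ, 2 ≤ k ∧ Nonempty ((P : Subgroup (ProjectiveSpecialLinearGroup (Fin 2) F)) ≃*
          DihedralGroup (2 ^ k))) ∨
        ((∀ x ∈ (P : Subgroup (ProjectiveSpecialLinearGroup (Fin 2) F)), x * x = 1) ∧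
          4 ≤ Nat.card (P : Subgroup (ProjectiveSpecialLinearGroup (Fin 2) F)))) := by
  classical
  haveI : Fact (Nat.Prime 2) := ⟨Nat.prime_two⟩
  rcases Nat.even_or_odd (Fintype.card F) with he | hodd
  · -- characteristic two
    haveI hc2 : CharP F 2 := by
      have h := FiniteField.even_card_iff_char_two.2 (Nat.even_iff.1 he)
      exact ringChar.of_eq h
    set π := QuotientGroup.mk' (Subgroup.center SL(2, F)) with hπ
    have hker : π.ker = ⊥ := by
      rw [hπ, QuotientGroup.ker_mk']
      refine Subgroup.eq_bot_of_card_eq _ ?_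
      rw [Linear.card_center_SL, Fintype.card_fin]
      exact Linear.gcd_two_of_even he
    have hinj : Function.Injective π := (MonoidHom.ker_eq_bot_iff π).1 hker
    have hsurj : Function.Surjective π := QuotientGroup.mk'_surjective _
    refine ⟨fun x y hx hy => ?_, Or.inr ⟨fun x hx => ?_, ?_⟩⟩
    · obtain ⟨a, rfl⟩ := hsurj x
      obtain ⟨b, rfl⟩ := hsurj y
      rw [orderOf_injective π hinj] at hx hy
      refine π.map_isConj ((InvolConjTwo.SL_conj_iff_rank a b hx hy).2 ?_)
      have key : ∀ c : SL(2, F), orderOf c = 2 →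
          ((c : Matrix (Fin 2) (Fin 2) F) - 1).rank = 1 := by
        intro c hc
        have hcc : (c : Matrix (Fin 2) (Fin 2) F) * (c : Matrix (Fin 2) (Fin 2) F) = 1 := by
          have := pow_orderOf_eq_one c
          rw [hc, pow_two] at this
          exact congrArg Subtype.val this
        have h0 := InvolConjTwo.sq_zero_of_sq_eq_one hcc
        have hne : (c : Matrix (Fin 2) (Fin 2) F) - 1 ≠ 0 := fun e => by
          rw [show c = 1 from Subtype.ext (sub_eq_zero.1 e), orderOf_one] at hc
          omega
        generalize (c : Matrix (Fin 2) (Fin 2) F) - 1 = N at h0 hne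
        have hle : N.rank ≤ 2 := by simpa using N.rank_le_card_width
        have h2 : N.rank ≠ 2 := fun h2 => hne (by
          have htop : LinearMap.range N.mulVecLin = ⊤ := Submodule.eq_top_of_finrank_eq (by
            rw [Module.finrank_fin_fun]; exact h2)
          refine Matrix.ext_of_mulVec_single fun i => ?_
          rw [zero_mulVec]
          obtain ⟨v, hv⟩ := LinearMap.range_eq_top.1 htop (Pi.single i 1)
          rw [← hv, mulVecLin_apply, mulVec_mulVec, h0, zero_mulVec])
        have h3 : N.rank ≠ 0 := fun h3 => hne (by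
          have hbot : LinearMap.range N.mulVecLin = ⊥ := Submodule.finrank_eq_zero.1 h3
          refine Matrix.ext_of_mulVec_single fun i => ?_
          rw [zero_mulVec, ← mulVecLin_apply, LinearMap.range_eq_bot.1 hbot]
          rfl)
        omega
      rw [key a hx, key b hy]
    · obtain ⟨a, rfl⟩ := hsurj x
      obtain ⟨k, hk⟩ := P.isPGroup' ⟨π a, hx⟩
      have hk' : π a ^ 2 ^ k = 1 := congrArg Subtype.val hk
      rw [← map_pow, ← map_one π] at hk'
      have ha := hinj hk'
      rw [← map_mul, ← map_one π]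
      congr 1
      apply Subtype.ext
      set A := (a : Matrix (Fin 2) (Fin 2) F) with hA
      have hpow : A ^ 2 ^ k = 1 := by exact (Matrix.SpecialLinearGroup.coe_pow a (2 ^ k)).symm.trans (by rw [ha]; rfl)
      haveI : CharP (Matrix (Fin 2) (Fin 2) F) 2 := Matrix.charP 2
      have hnil : IsNilpotent (A - 1) :=
        ⟨2 ^ k, by rw [sub_pow_char_pow_of_commute _ _ (Commute.one_right A), hpow, one_pow, sub_self]⟩
      have h2 := sq_zero_of_nilpotent hnil
      rw [← pow_two, sub_pow_char_of_commute _ (Commute.one_right A), one_pow, sub_eq_zero, pow_two] at h2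
      exact h2
    · obtain ⟨p, hp⟩ := CharP.exists F
      obtain ⟨f, hfp, hf⟩ := FiniteField.card F p
      have hp2 : p = 2 := CharP.eq F hp hc2
      subst hp2
      have hf2 : 2 ≤ (f : ℕ) := by
        by_contra hlt
        have : (f : ℕ) = 1 := by have := f.pos; omega
        rw [this] at hf
        omega
      have hd : 2 ^ 2 ∣ Nat.card (ProjectiveSpecialLinearGroup (Fin 2) F) := by
        rw [Linear.card_PSL_two_of_even he, hf]
        exact ((pow_dvd_pow 2 hf2).mul_right _).mul_right _
      exact Nat.le_of_dvd Nat.card_pos (P.pow_dvd_card_of_pow_dvd_card hd)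
  · have h2 := Nat.odd_iff.1 hodd
    refine ⟨fun x y hx hy => ?_, ?_⟩
    · obtain ⟨Q, hQ⟩ := Sylow.exists_subgroup_card_pow_prime 2 (G := SL(2, F)) (n := 2) (by
        rw [Linear.card_SL_two]
        obtain ⟨j, hj⟩ := hodd
        refine Dvd.intro (Fintype.card F * j * (j + 1)) ?_
        rw [hj, Nat.add_sub_cancel]
        ring)
      exact (S0809.result rfl hodd Q hQ).2.2.2 x y hx hy
    · by_cases h8 : Fintype.card F % 8 = 3 ∨ Fintype.card F % 8 = 5
      · refine Or.inr ⟨fun x hx => ?_, ?_⟩
        · haveI := S0276.result rfl h8 P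
          exact congrArg Subtype.val (IsKleinFour.mul_self
            (⟨x, hx⟩ : (P : Subgroup (ProjectiveSpecialLinearGroup (Fin 2) F))))
        · haveI := S0276.result rfl h8 P
          exact (IsKleinFour.card_four).ge
      · refine Or.inl (FusionSimple.sylow_two_PSL_two_dihedral h2 ?_ P)
        rcases (by omega : Fintype.card F % 8 = 1 ∨ Fintype.card F % 8 = 7) with h | h
        · obtain ⟨j, hj⟩ : ∃ j, Fintype.card F = 8 * j + 1 := ⟨Fintype.card F / 8, by omega⟩
          exact ⟨4 * j * j + j, by rw [hj]; ring_nf; omega⟩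
        · obtain ⟨j, hj⟩ : ∃ j, Fintype.card F = 8 * j + 7 := ⟨Fintype.card F / 8, by omega⟩
          exact ⟨4 * j * j + 7 * j + 3, by rw [hj]; ring_nf; omega⟩

end Cfsg.Agent.JanThom
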