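import Cfsg.Agent.JanThom.Basic
import Cfsg.Agent.JanThom.PSLFacts
import Cfsg.Agent.Cores.Pi
import Cfsg.Agent.Linear.Transvection
import Cfsg.Prelude.Def_CaseTheorems

/-!
# From the hypothesis on the centralizer to the setting
-/

set_option autoImplicit false
set_option linter.style.haveILetI false

namespace Cfsg.Agent.JanThom

open Subgroup

variable {G : Type*} [Group G] [Finite G]

theorem map_perfect {L P A : Type*} [Group L] [Group P] [CommGroup A] (hP : commutator P = ⊤)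
    (e : L ≃* A × P) :
    (commutator L) = ((MonoidHom.fst A P).comp e.toMonoidHom).ker := by
  refine le_antisymm (Abelianization.commutator_subset_ker _) fun x hx => ?_
  have hmem : (1, (e x).2) ∈ (commutator P).map (MonoidHom.inr A P) :=
    ⟨(e x).2, hP ▸ mem_top _, rfl⟩
  have h2 : e.symm.toMonoidHom (1, (e x).2) ∈
      ((commutator P).map (MonoidHom.inr A P)).map e.symm.toMonoidHom := ⟨_, hmem, rfl⟩
  rw [_root_.commutator_def, map_commutator, map_commutator] at h2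
  rw [_root_.commutator_def]
  have e1 : ((1 : A), (e x).2) = e x := Prod.ext (MonoidHom.mem_ker.1 hx).symm rfl
  rw [e1, MulEquiv.coe_toMonoidHom, e.symm_apply_apply] at h2
  exact commutator_mono le_top le_top h2

theorem mul_eq_one_of_ne :
    ∀ u v : Multiplicative (ZMod 2), u ≠ 1 → v ≠ 1 → u * v = 1 := by decide

theorem setup (hs : IsSimpleGroup G) (hG : ¬ IsMulCommutative G) (t : G) (ht : orderOf t = 2)
    {F : Type*} [Field F] [Fintype F] (hF : 3 < Fintype.card F)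
    (hL : Nonempty (↥(Subgroup.closure {x : (↥(Subgroup.centralizer ({t} : Set G)) ⧸
        Cfsg.oddCore ↥(Subgroup.centralizer ({t} : Set G))) | ∃ k : ℕ, orderOf x = 2 ^ k}) ≃*
      (Multiplicative (ZMod 2) × Matrix.ProjectiveSpecialLinearGroup (Fin 2) F))) :
    ∃ T D : Subgroup G, Hyp t T D ∧ ((∃ k, 2 ≤ k ∧ Nonempty (D ≃* DihedralGroup (2 ^ k))) ∨
      ((∀ x ∈ D, x * x = 1) ∧ 4 ≤ Nat.card D)) := by
  classical
  haveI : Fact (Nat.Prime 2) := ⟨Nat.prime_two⟩
  obtain ⟨e⟩ := hL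
  set C := centralizer ({t} : Set G) with hC
  set O := Cfsg.oddCore ↥C with hO
  have hOodd : Odd (Nat.card O) := Cores.odd_card_oddCore
  set π := QuotientGroup.mk' O with hπ
  set Lb := Subgroup.closure {x : ↥C ⧸ O | ∃ k : ℕ, orderOf x = 2 ^ k} with hLb
  haveI hLn : Lb.Normal := ⟨fun x hx g => by
    have h1 : MulAut.conj g x ∈ Lb.map (MulAut.conj g).toMonoidHom := ⟨x, hx, rfl⟩
    rw [hLb, MonoidHom.map_closure] at h1
    refine Subgroup.closure_mono ?_ h1
    rintro _ ⟨y, ⟨k, hk⟩, rfl⟩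
    exact ⟨k, by rw [MulEquiv.coe_toMonoidHom, MulEquiv.orderOf_eq, hk]⟩⟩
  have hmemL : ∀ x : ↥C ⧸ O, ∀ k, x ^ 2 ^ k = 1 → x ∈ Lb := fun x k hk => by
    obtain ⟨j, -, hj⟩ := (Nat.dvd_prime_pow Nat.prime_two).1 (orderOf_dvd_of_pow_eq_one hk)
    exact Subgroup.subset_closure ⟨j, hj⟩
  haveI hsP : IsSimpleGroup (Matrix.ProjectiveSpecialLinearGroup (Fin 2) F) :=
    Linear.isSimpleGroup_PSL_fin 2 le_rfl fun _ => by rw [Nat.card_eq_fintype_card]; omega
  obtain ⟨P0⟩ := (inferInstance : Nonempty (Sylow 2 (Matrix.ProjectiveSpecialLinearGroup (Fin 2) F)))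
  obtain ⟨hconjP, hstr⟩ := psl_two_facts hF P0
  have hno2 : ∀ x : Matrix.ProjectiveSpecialLinearGroup (Fin 2) F, orderOf x = 2 →
      ∃ y, y * x ≠ x * y := by
    intro x hx
    by_contra! hc
    have hz : x ∈ center (Matrix.ProjectiveSpecialLinearGroup (Fin 2) F) := mem_center_iff.2 hc
    rcases (inferInstance : (center (Matrix.ProjectiveSpecialLinearGroup (Fin 2) F)).Normal).eq_bot_or_eq_top
      with h | h
    · rw [h] at hz
      rw [mem_bot.1 hz, orderOf_one] at hx; omega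
    · -- all elements are central, so involutions form singletons
      have hsub : ∀ y, orderOf y = 2 → y = x := fun y hy => by
        obtain ⟨g, hg⟩ := isConj_iff.1 (hconjP x y hx hy)
        rw [← hg, hc g, mul_inv_cancel_right]
      rcases hstr with ⟨k, hk, ⟨f⟩⟩ | ⟨hexp, h4⟩
      · have hk2 : (f.symm (DihedralGroup.sr 0) : Matrix.ProjectiveSpecialLinearGroup (Fin 2) F) =
            f.symm (DihedralGroup.sr 1) :=
          (hsub _ (by rw [orderOf_coe, MulEquiv.orderOf_eq, DihedralGroup.orderOf_sr])).trans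
            (hsub _ (by rw [orderOf_coe, MulEquiv.orderOf_eq, DihedralGroup.orderOf_sr])).symm
        have h01 := f.symm.injective (Subtype.ext hk2)
        injection h01 with h01
        haveI : Fact (1 < 2 ^ k) := ⟨Nat.one_lt_two_pow (by omega)⟩
        exact zero_ne_one h01
      · have hle : Nat.card (P0 : Subgroup (Matrix.ProjectiveSpecialLinearGroup (Fin 2) F)) ≤ 2 := by
          refine (Nat.card_le_card_of_injective (β := Bool) (fun y : (P0 : Subgroup (Matrix.ProjectiveSpecialLinearGroup (Fin 2) F)) => decide (y.1 = 1)) ?_).trans (by simp)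
          intro a b hab
          by_cases ha : a.1 = 1
          · exact Subtype.ext (ha.trans (show b.1 = 1 by simpa [ha] using hab).symm)
          · have hb : b.1 ≠ 1 := by simpa [ha] using hab
            exact Subtype.ext ((hsub _ (orderOf_two ha (hexp _ a.2))).trans
              (hsub _ (orderOf_two hb (hexp _ b.2))).symm)
        omega
  have hperf : commutator (Matrix.ProjectiveSpecialLinearGroup (Fin 2) F) = ⊤ := by
    refine ((inferInstance : (commutator _).Normal).eq_bot_or_eq_top).resolve_left fun h => ?_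
    obtain ⟨x, hx⟩ : ∃ x : (P0 : Subgroup (Matrix.ProjectiveSpecialLinearGroup (Fin 2) F)), orderOf x = 2 := by
      refine exists_prime_orderOf_dvd_card' 2 ?_
      rcases hstr with ⟨k, hk, ⟨f⟩⟩ | ⟨-, h4⟩
      · rw [Nat.card_congr f.toEquiv, DihedralGroup.nat_card]; exact Dvd.intro _ rfl
      · obtain ⟨j, hj⟩ := P0.isPGroup'.exists_card_eq
        rw [hj]
        refine dvd_pow_self 2 fun h0 => ?_
        rw [h0] at hj
        omega
    obtain ⟨y, hy⟩ := hno2 x (by rw [orderOf_coe]; exact hx)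
    refine hy ?_
    have := Subgroup.commutator_mem_commutator (mem_top y) (mem_top (x : Matrix.ProjectiveSpecialLinearGroup (Fin 2) F))
    rw [← _root_.commutator_def, h, mem_bot, commutatorElement_eq_one_iff_mul_comm] at this
    exact this
  set M : Subgroup (↥C ⧸ O) := (commutator Lb).map Lb.subtype with hM
  haveI hMn : M.Normal := by
    rw [hM, _root_.commutator_def, map_commutator, ← MonoidHom.range_eq_map, Subgroup.range_subtype]
    exact Subgroup.commutator_normal Lb Lb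
  set ψ : Matrix.ProjectiveSpecialLinearGroup (Fin 2) F →* ↥C ⧸ O :=
    Lb.subtype.comp (e.symm.toMonoidHom.comp (MonoidHom.inr _ _)) with hψ
  have hψinj : Function.Injective ψ := fun a b hab =>
    congrArg Prod.snd (e.symm.injective (Subtype.ext hab))
  have hMmem : ∀ x, x ∈ M ↔ ∃ y, ψ y = x := by
    intro x
    rw [hM, map_perfect hperf e]
    constructor
    · rintro ⟨l, hl, rfl⟩
      refine ⟨(e l).2, congrArg Subtype.val (?_ : e.symm (1, (e l).2) = l)⟩
      rw [e.symm_apply_eq]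
      exact Prod.ext (MonoidHom.mem_ker.1 hl).symm rfl
    · rintro ⟨y, rfl⟩
      refine ⟨e.symm (1, y), MonoidHom.mem_ker.2 ?_, rfl⟩
      simp
  set N : Subgroup G := (M.comap π).map C.subtype with hN
  obtain ⟨T0⟩ := (inferInstance : Nonempty (Sylow 2 ↥C))
  set T : Subgroup G := (T0 : Subgroup ↥C).map C.subtype with hT
  set D : Subgroup G := T ⊓ N with hD
  have hTle : T ≤ C := map_subtype_le _
  have hTp : IsPGroup 2 T := T0.isPGroup'.map _
  have hπinj : ∀ a : ↥C, (∃ k, a ^ 2 ^ k = 1) → π a = 1 → a = 1 := by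
    rintro a ⟨k, hk⟩ ha
    have haO : a ∈ O := (QuotientGroup.eq_one_iff a).1 ha
    have h1 : orderOf a ∣ Nat.card O := Subgroup.orderOf_dvd_natCard O haO
    have h2 : orderOf a ∣ 2 ^ k := orderOf_dvd_of_pow_eq_one hk
    have hc : Nat.Coprime (Nat.card O) (2 ^ k) :=
      Nat.Coprime.pow_right _ (Nat.coprime_two_right.2 hOodd)
    exact orderOf_eq_one_iff.1 (Nat.eq_one_of_dvd_coprimes hc h1 h2)
  have hT2 : ∀ a : ↥C, a ∈ T0 → ∃ k, a ^ 2 ^ k = 1 := fun a ha => by
    obtain ⟨k, hk⟩ := T0.isPGroup' ⟨a, ha⟩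
    exact ⟨k, congrArg Subtype.val hk⟩
  -- the distinguished involution
  have htC : t ∈ C := mem_centralizer_singleton_iff.2 rfl
  have htc : ∀ c : ↥C, (⟨t, htC⟩ : ↥C) * c = c * ⟨t, htC⟩ := fun c =>
    Subtype.ext (mem_centralizer_singleton_iff.1 c.2).symm
  have ht2 : (⟨t, htC⟩ : ↥C) ^ 2 = 1 := Subtype.ext (by
    show t ^ 2 = 1
    rw [← ht, pow_orderOf_eq_one])
  have htT0 : (⟨t, htC⟩ : ↥C) ∈ T0 := by
    have hp : IsPGroup 2 (zpowers (⟨t, htC⟩ : ↥C)) := IsPGroup.of_card (n := 1) (by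
      rw [Nat.card_zpowers, pow_one, ← orderOf_coe]; exact ht)
    haveI : (zpowers (⟨t, htC⟩ : ↥C)).Normal := ⟨fun a ha g => by
      obtain ⟨k, rfl⟩ := ha
      rw [← (Commute.zpow_left (htc g) k).eq, mul_inv_cancel_right]
      exact zpow_mem (mem_zpowers _) k⟩
    have h1 := T0.is_maximal' (T0.isPGroup'.to_sup_of_normal_right hp) le_sup_left
    show _ ∈ (T0 : Subgroup ↥C)
    rw [← h1]
    exact mem_sup_right (mem_zpowers _)
  have htM : π ⟨t, htC⟩ ∉ M := by
    intro h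
    obtain ⟨y, hy⟩ := (hMmem _).1 h
    have hy2 : orderOf y = 2 := by
      refine orderOf_two (fun h1 => ?_) (hψinj ?_)
      · rw [h1, map_one] at hy
        have h3 := congrArg Subtype.val (hπinj _ ⟨1, by simpa using ht2⟩ hy.symm)
        exact absurd ht (by rw [show t = 1 from h3, orderOf_one]; norm_num)
      · rw [map_mul, map_one, hy, ← map_mul, ← pow_two, ht2, map_one]
    obtain ⟨y', hy'⟩ := hno2 y hy2
    refine hy' (hψinj ?_)
    obtain ⟨c, hc⟩ := QuotientGroup.mk'_surjective O (ψ y')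
    rw [map_mul, map_mul, hy, ← hc, ← map_mul, ← map_mul, htc c]
  have htpow : π ⟨t, htC⟩ ∈ Lb := hmemL _ 1 (by rw [pow_one, ← map_pow, ht2, map_one])
  -- membership
  have hDmem : ∀ (x : G) (hx : x ∈ C), x ∈ D ↔ (⟨x, hx⟩ : ↥C) ∈ T0 ∧ π ⟨x, hx⟩ ∈ M := by
    intro x hx
    constructor
    · rintro ⟨⟨a, ha, hax⟩, ⟨b, hb, hbx⟩⟩
      have e1 : a = ⟨x, hx⟩ := Subtype.ext hax
      have e2 : b = ⟨x, hx⟩ := Subtype.ext hbx
      exact ⟨e1 ▸ ha, e2 ▸ hb⟩
    · rintro ⟨h1, h2⟩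
      exact ⟨⟨_, h1, rfl⟩, ⟨_, h2, rfl⟩⟩
  have hsplit : ∀ x ∈ T, x ∈ D ∨ t * x ∈ D := by
    rintro _ ⟨a, ha, rfl⟩
    obtain ⟨k, hk⟩ := hT2 a ha
    have haL : π a ∈ Lb := hmemL _ k (by rw [← map_pow, hk, map_one])
    set ea := (e ⟨π a, haL⟩).1
    set et := (e ⟨π ⟨t, htC⟩, htpow⟩).1
    have hkerM : ∀ (l : Lb), (e l).1 = 1 → (l : ↥C ⧸ O) ∈ M := fun l hl => by
      refine (hMmem _).2 ⟨(e l).2, congrArg Subtype.val (?_ : e.symm (1, (e l).2) = l)⟩
      rw [e.symm_apply_eq]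
      exact Prod.ext hl.symm rfl
    have het : et ≠ 1 := fun h => htM (hkerM _ h)
    by_cases h1 : ea = 1
    · exact Or.inl ((hDmem _ a.2).2 ⟨ha, hkerM _ h1⟩)
    · refine Or.inr ((hDmem _ (mul_mem htC a.2)).2 ⟨mul_mem htT0 ha, ?_⟩)
      have h2 : et * ea = 1 := by
        exact mul_eq_one_of_ne et ea het h1
      have := hkerM (⟨π ⟨t, htC⟩, htpow⟩ * ⟨π a, haL⟩) (by
        rw [map_mul, Prod.fst_mul]; exact h2)
      show π (⟨t, htC⟩ * a) ∈ M
      rw [map_mul]
      exact this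
  have hMC : ∀ (c x : G) (hc : c ∈ C) (hx : x ∈ C), π ⟨x, hx⟩ ∈ M →
      π ⟨c * x * c⁻¹, mul_mem (mul_mem hc hx) (inv_mem hc)⟩ ∈ M := by
    intro c x hc hx h
    have := hMn.conj_mem _ h (π ⟨c, hc⟩)
    rw [← map_inv, ← map_mul, ← map_mul] at this
    exact this
  refine ⟨T, D, ⟨hs, hG, ht, hTle, hTp, ?_, ⟨_, htT0, rfl⟩, inf_le_left,
    fun h => htM ((hDmem t htC).1 h).2, hsplit, ?_, ?_⟩, ?_⟩
  · -- conjugacy into `T`
    intro Q hQ hQp
    obtain ⟨Q', hQ'⟩ := (hQp.of_equiv (subgroupOfEquivOfLe hQ).symm).exists_le_sylow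
    obtain ⟨c, hc⟩ := MulAction.exists_smul_eq ↥C Q' T0
    refine ⟨c, c.2, fun x hx => ⟨c * ⟨x, hQ hx⟩ * c⁻¹, ?_, rfl⟩⟩
    rw [← hc, Sylow.coe_subgroup_smul]
    exact Subgroup.smul_mem_pointwise_smul _ _ _ (hQ' (mem_subgroupOf.2 hx))
  · intro c hc x hx hcx
    have hxC := hTle hx.1
    obtain ⟨a, ha, hax⟩ := hcx
    refine (hDmem _ (mul_mem (mul_mem hc hxC) (inv_mem hc))).2 ⟨?_, hMC c x hc hxC ((hDmem x hxC).1 hx).2⟩
    have e1 : a = ⟨_, mul_mem (mul_mem hc hxC) (inv_mem hc)⟩ := Subtype.ext hax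
    exact e1 ▸ ha
  · intro a ha b hb ha2 hb2
    have haC := hTle ha.1
    have hbC := hTle hb.1
    obtain ⟨haT, haM⟩ := (hDmem a haC).1 ha
    obtain ⟨hbT, hbM⟩ := (hDmem b hbC).1 hb
    obtain ⟨y, hy⟩ := (hMmem _).1 haM
    obtain ⟨y', hy'⟩ := (hMmem _).1 hbM
    have hord : ∀ (u : ↥C), u ∈ T0 → orderOf u = 2 → ∀ v, ψ v = π u → orderOf v = 2 := by
      intro u huT hu v hv
      refine orderOf_two (fun h1 => ?_) (hψinj ?_)
      · rw [h1, map_one] at hv
        rw [hπinj u (hT2 u huT) hv.symm, orderOf_one] at hu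
        omega
      · have hp := pow_orderOf_eq_one u
        rw [hu, pow_two] at hp
        rw [map_mul, map_one, hv, ← map_mul, hp, map_one]
    obtain ⟨g, hg⟩ := isConj_iff.1 (hconjP y y'
      (hord _ haT (by rw [← orderOf_coe]; exact ha2) y hy)
      (hord _ hbT (by rw [← orderOf_coe]; exact hb2) y' hy'))
    obtain ⟨c, hc⟩ := QuotientGroup.mk'_surjective O (ψ g)
    set a' : ↥C := c * ⟨a, haC⟩ * c⁻¹ with ha'
    have ha'2 : orderOf a' = 2 := by
      rw [show a' = MulAut.conj c ⟨a, haC⟩ from rfl, MulEquiv.orderOf_eq, ← orderOf_coe]; exact ha2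
    have hb'2 : orderOf (⟨b, hbC⟩ : ↥C) = 2 := by rw [← orderOf_coe]; exact hb2
    have hO' : π a' = π ⟨b, hbC⟩ := by
      rw [ha', map_mul, map_mul, map_inv, ← hy', ← hg, map_mul, map_mul, map_inv, hc, hy]
    have hodd : Odd (orderOf (a' * ⟨b, hbC⟩)) := by
      refine hOodd.of_dvd_nat (Subgroup.orderOf_dvd_natCard O ?_)
      refine (QuotientGroup.eq_one_iff _).1 ?_
      show π (a' * ⟨b, hbC⟩) = 1
      have hp := pow_orderOf_eq_one (⟨b, hbC⟩ : ↥C)
      rw [hb'2, pow_two] at hp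
      rw [map_mul, hO', ← map_mul, hp, map_one]
    obtain ⟨d, -, hd⟩ := Invol.exists_conj_eq_of_odd ha'2 hb'2 hodd
    refine ⟨((d * c : ↥C) : G), (d * c).2, ?_⟩
    rw [ha'] at hd
    have := congrArg Subtype.val hd
    simp only [coe_mul, InvMemClass.coe_inv] at this ⊢
    rw [← this]; group
  · -- the structure of `D`
    set Tb : Sylow 2 (↥C ⧸ O) := T0.mapSurjective (QuotientGroup.mk'_surjective O) with hTb
    have hTbmem : ∀ x, x ∈ Tb ↔ ∃ a ∈ T0, π a = x := fun x => Iff.rfl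
    set R : Subgroup (↥C ⧸ O) := (Tb : Subgroup (↥C ⧸ O)) ⊓ M with hR
    have hRp : IsPGroup 2 R := Tb.isPGroup'.to_le inf_le_left
    have hRψ : R ≤ ψ.range := fun x hx => MonoidHom.mem_range.2 ((hMmem x).1 hx.2)
    have hQcard : Nat.card (R.comap ψ) = Nat.card R := by
      rw [← Subgroup.card_map_of_injective hψinj, Subgroup.map_comap_eq_self hRψ]
    set Q : Sylow 2 (Matrix.ProjectiveSpecialLinearGroup (Fin 2) F) :=
      { toSubgroup := R.comap ψ
        isPGroup' := hRp.comap_of_injective ψ hψinj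
        is_maximal' := fun {Q'} hQ' hle => by
          obtain ⟨U, hU⟩ := (hQ'.map ψ).exists_le_sylow
          obtain ⟨g, hg⟩ := MulAction.exists_smul_eq (↥C ⧸ O) Tb U
          have hle' : Nat.card (Q'.map ψ) ≤ Nat.card R := by
            refine Nat.card_le_card_of_injective
              (fun x => (⟨g⁻¹ * x.1 * g, ?_, ?_⟩ : R)) fun x x' hxx => ?_
            · have hxU : x.1 ∈ (U : Subgroup (↥C ⧸ O)) := hU x.2
              rw [← hg, Sylow.coe_subgroup_smul, Subgroup.mem_pointwise_smul_iff_inv_smul_mem] at hxU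
              have e1 : (MulAut.conj g)⁻¹ • x.1 = g⁻¹ * x.1 * g := by
                rw [← map_inv, MulAut.smul_def, MulAut.conj_apply, inv_inv]
              exact e1 ▸ hxU
            · obtain ⟨y, -, hy⟩ := x.2
              have := hMn.conj_mem _ ((hMmem _).2 ⟨y, hy⟩) g⁻¹
              rwa [inv_inv] at this
            · exact Subtype.ext (mul_left_cancel (mul_right_cancel (congrArg Subtype.val hxx)))
          rw [Subgroup.card_map_of_injective hψinj, ← hQcard] at hle'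
          exact (Subgroup.eq_of_le_of_card_ge hle hle').symm } with hQdef
    let e1 : D →* R :=
      { toFun := fun x => ⟨π ⟨x, hTle x.2.1⟩,
          (hTbmem _).2 ⟨_, ((hDmem x (hTle x.2.1)).1 x.2).1, rfl⟩, ((hDmem x (hTle x.2.1)).1 x.2).2⟩
        map_one' := Subtype.ext (map_one π)
        map_mul' := fun x y => Subtype.ext (map_mul π (⟨x, hTle x.2.1⟩ : ↥C) ⟨y, hTle y.2.1⟩) }
    have e1b : Function.Bijective e1 := by
      refine ⟨(injective_iff_map_eq_one e1).2 fun x hx => ?_, fun x => ?_⟩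
      · have hxT := ((hDmem x (hTle x.2.1)).1 x.2).1
        have := hπinj _ (hT2 _ hxT) (congrArg Subtype.val hx)
        exact Subtype.ext (congrArg Subtype.val this :)
      · obtain ⟨a, ha, hax⟩ := (hTbmem _).1 x.2.1
        exact ⟨⟨a, (hDmem _ a.2).2 ⟨ha, hax ▸ x.2.2⟩⟩, Subtype.ext hax⟩
    let e2 : (R.comap ψ) →* R := ψ.subgroupComap R
    have e2b : Function.Bijective e2 := by
      refine ⟨fun x y h => ?_, fun x => ?_⟩
      · have h' := congrArg (fun z : R => (z : ↥C ⧸ O)) h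
        exact Subtype.ext (hψinj h')
      obtain ⟨y, hy⟩ := hRψ x.2
      exact ⟨⟨y, show ψ y ∈ R by rw [hy]; exact x.2⟩, Subtype.ext hy⟩
    let E : D ≃* (Q : Subgroup (Matrix.ProjectiveSpecialLinearGroup (Fin 2) F)) :=
      (MulEquiv.ofBijective e1 e1b).trans (MulEquiv.ofBijective e2 e2b).symm
    rcases (psl_two_facts hF Q).2 with ⟨k, hk, ⟨f⟩⟩ | ⟨hexp, h4⟩
    · exact Or.inl ⟨k, hk, ⟨E.trans f⟩⟩
    · refine Or.inr ⟨fun x hx => ?_, by rw [Nat.card_congr E.toEquiv]; exact h4⟩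
      have h := hexp _ (E ⟨x, hx⟩).2
      have h' : E (⟨x, hx⟩ * ⟨x, hx⟩) = E 1 := by rw [map_mul, map_one]; exact Subtype.ext h
      exact congrArg Subtype.val (E.injective h')

end Cfsg.Agent.JanThom
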