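import Cfsg.Agent.JanThom.Good

/-!
# The centralizer of `D` moves the classes: a larger good pair
-/

set_option autoImplicit false
set_option linter.style.haveILetI false
set_option linter.unusedSectionVars false
set_option linter.unusedVariables false

namespace Cfsg.Agent.JanThom

open Subgroup

variable {G : Type*} [Group G] [Finite G]

namespace HypB

variable {t : G} {T D : Subgroup G}

/-- With only `v = |P|` conjugates of `t` the hyperplane argument gives a contradiction. -/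
theorem parity_big (h : HypB t T D) {S : Sylow 2 G} {M : Subgroup G}
    (hv : jcount t M * Nat.card D = Nat.card M) (h4 : ∃ i, Nat.card (S : Subgroup G) = 4 * i * Nat.card M) :
    False := by
  obtain ⟨f, hf, hfle, hdiv, -⟩ := parity h.simple h.ncomm h.t2 M
  obtain ⟨oC, ⟨o', rfl⟩, hC⟩ := h.toHyp.card_cent
  obtain ⟨i, hi⟩ := h4
  obtain ⟨o, -, hidx⟩ := index_eq S (X := M) (k := 4 * i) hi
  rw [hC, h.toHyp.card_T, show jcount t M * (2 * Nat.card D * (2 * o' + 1)) =
    2 * (2 * o' + 1) * (jcount t M * Nat.card D) by ring, hv] at hf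
  have hfe := Nat.eq_of_mul_eq_mul_right Nat.card_pos hf
  rw [show 4 * i * o = 4 * (i * o) by ring] at hidx
  omega

end HypB

namespace Good

variable {t : G} {T D Y P : Subgroup G}

theorem translations (hg : Good t T D Y P) (h : HypB t T D) {g₀ : G}
    (hg₀ : g₀ ∈ normalizer (Y : Set G)) (hg₀D : ∀ d ∈ D, g₀ * d * g₀⁻¹ = d)
    (hmove : disp t g₀ ∉ sqP P) :
    ∃ Y' P', Good t T D Y' P' ∧ Nat.card Y < Nat.card Y' := by
  classical
  haveI : Fact (Nat.Prime 2) := ⟨Nat.prime_two⟩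
  set K := normalizer (Y : Set G) ⊓ centralizer (D : Set G) with hK
  have hKN : K ≤ normalizer (Y : Set G) := inf_le_left
  have hKD : ∀ {k}, k ∈ K → ∀ d ∈ D, k * d * k⁻¹ = d := fun {k} hk d hd =>
    mul_inv_eq_iff_eq_mul.2 (mem_centralizer_iff.1 hk.2 d hd).symm
  have hYK : Y ≤ K := fun y hy => ⟨le_normalizer hy, mem_centralizer_iff.2 fun d hd =>
    (hg.comm_D h hy hd).symm⟩
  have hg₀K : g₀ ∈ K := ⟨hg₀, mem_centralizer_iff.2 fun d hd =>
    (mul_inv_eq_iff_eq_mul.1 (hg₀D d hd)).symm⟩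
  have hKconj : ∀ {c}, c ∈ normalizer (Y : Set G) → ∀ g ∈ K, c * g * c⁻¹ ∈ K := by
    intro c hc g hgK
    refine Subgroup.mem_inf.2 ⟨mul_mem (mul_mem hc hgK.1) (inv_mem hc), mem_centralizer_iff.2 fun d hd => ?_⟩
    have h1 := hKD hgK _ (hg.norm_D h (inv_mem hc) hd)
    refine (mul_inv_eq_iff_eq_mul.1 ?_).symm
    calc c * g * c⁻¹ * d * (c * g * c⁻¹)⁻¹ = c * (g * (c⁻¹ * d * c⁻¹⁻¹) * g⁻¹) * c⁻¹ := by group
      _ = c * (c⁻¹ * d * c⁻¹⁻¹) * c⁻¹ := by rw [h1]
      _ = d := by group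
  obtain ⟨Y', hYY', hY'K, hY'p, hcard, hsurj, hconjY'⟩ := hg.exists_sylow_over h hYK hKN
    (fun p hp => hg.move_surj h (fun c _ hcN g hgK => hKconj hcN g hgK) hKN hg₀K hmove hp)
  have hY'N : Y' ≤ normalizer (Y : Set G) := hY'K.trans hKN
  have hD4 := h.hfour
  have hlt : Nat.card Y < Nat.card Y' := by
    rw [hcard]
    calc Nat.card Y < 2 * Nat.card Y := by have := Nat.card_pos (α := Y); omega
      _ ≤ Nat.card D * Nat.card Y := Nat.mul_le_mul_right _ (by omega)
  have hTY' : T ≤ Y' := hg.TY.trans hYY'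
  have htY' : t ∈ Y' := hYY' (hg.tY h)
  have hPY' : P ≤ Y' := hg.PY.trans hYY'
  -- translations
  obtain ⟨e, heD, he⟩ := hg.exists_pow h
  have htransl : ∀ {k p : G}, k ∈ K → p ∈ P → p⁻¹ * (k * p * k⁻¹) ∈ sqP P := by
    intro k p hk hp
    have hp' := hg.norm_P (hKN hk) hp
    refine (he _ (mul_mem (inv_mem hp) hp')).1 ?_
    rw [(show Commute p⁻¹ (k * p * k⁻¹) from hg.P_comm h (inv_mem hp) hp').mul_pow, inv_pow,
      conj_pow, hKD hk _ (heD p hp), inv_mul_cancel]
  have hsq : ∀ y ∈ Y', y * y ∈ P := by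
    intro y hy
    have hd := hg.disp_mem h (hY'N hy)
    have hdd : disp t (y * y) ∈ sqP P := by
      rw [disp_mul h, show disp t y * (y * disp t y * y⁻¹) =
        disp t y * disp t y * ((disp t y)⁻¹ * (y * disp t y * y⁻¹)) by group]
      exact mul_mem ((hg.mem_sqP h).2 ⟨_, hd, rfl⟩) (htransl (hY'K hy) hd)
    have hyy := hg.fix_mem h hY'p hYY' (mul_mem hy hy) hdd
    by_contra hn
    exact h.sq_not_conj hY'p hy ((hg.J_iff _ hyy).2 hn)
  have hcomm : ∀ u ∈ Y', ∀ v ∈ Y', u * v * u⁻¹ * v⁻¹ ∈ P := fun u hu v hv => by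
    rw [show u * v * u⁻¹ * v⁻¹ = u * v * (u * v) * (v⁻¹ * u⁻¹ * v * (v⁻¹ * u⁻¹ * v)) * (v⁻¹ * v⁻¹) by
      group]
    exact mul_mem (mul_mem (hsq _ (mul_mem hu hv))
      (hsq _ (mul_mem (mul_mem (inv_mem hv) (inv_mem hu)) hv))) (hsq _ (inv_mem hv))
  -- the Frattini argument
  have hR : ∀ a ∈ D, ∀ b ∈ D, a ≠ 1 → b ≠ 1 → ∃ q ∈ centralizer ({t} : Set G),
      q ∈ normalizer (Y : Set G) ∧ (∀ y ∈ Y', q * y * q⁻¹ ∈ Y') ∧ q * a * q⁻¹ = b := by
    intro a ha b hb ha1 hb1
    obtain ⟨c, hc, hcY, hcab⟩ := hg.trans a ha b hb ha1 hb1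
    have hcN : c ∈ normalizer (Y : Set G) := mem_normalizer_of hcY
    obtain ⟨k, hk, hkc⟩ := hconjY' (Y'.map (MulAut.conj c).toMonoidHom)
      (by rintro _ ⟨y, hy, rfl⟩; exact hKconj hcN y (hY'K hy)) (hY'p.map _)
    have hh₀ : ∀ y ∈ Y', k * c * y * (k * c)⁻¹ ∈ Y' := fun y hy => by
      have := hkc _ ⟨y, hy, rfl⟩
      simp only [MulEquiv.coe_toMonoidHom, MulAut.conj_apply] at this
      convert this using 1
      group
    have hh₀N : k * c ∈ normalizer (Y : Set G) := mul_mem (hKN hk) hcN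
    obtain ⟨y, hy, hyd⟩ := hsurj _ (hg.disp_mem h hh₀N)
    have hhd : disp t (y⁻¹ * (k * c)) ∈ sqP P := (hg.sameCl h (hY'N hy) hh₀N).2 hyd
    obtain ⟨p, hp, hpe⟩ := (hg.mem_sqP h).1 hhd
    set w := y⁻¹ * (k * c) with hw
    have hwt : w * t * w⁻¹ = t * (p * p) := by rw [← hpe, disp, h.toHyp.t_mul_t_mul]
    have hpw : p * w * t = t * (p * w) := by
      calc p * w * t = p * (w * t * w⁻¹) * w := by group
        _ = t * (t * p * t) * (p * p) * w := by
          rw [hwt, show t * (t * p * t) = t * (t * (p * t)) by group, h.toHyp.t_mul_t_mul]; group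
        _ = t * (p * w) := by rw [hg.inv_t h hp]; group
    refine ⟨p * w, mem_centralizer_singleton_iff.2 hpw,
      mul_mem (le_normalizer (hg.PY hp)) (mul_mem (inv_mem (hY'N hy)) hh₀N), fun z hz => ?_, ?_⟩
    · rw [hw, show p * (y⁻¹ * (k * c)) * z * (p * (y⁻¹ * (k * c)))⁻¹ =
        p * (y⁻¹ * (k * c * z * (k * c)⁻¹) * y) * p⁻¹ by group]
      exact mul_mem (mul_mem (hPY' hp) (mul_mem (mul_mem (inv_mem hy) (hh₀ z hz)) hy))
        (inv_mem (hPY' hp))
    · have h1 : ∀ {u}, u ∈ K → u * b * u⁻¹ = b := fun hu => hKD hu b hb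
      rw [hw, show p * (y⁻¹ * (k * c)) * a * (p * (y⁻¹ * (k * c)))⁻¹ =
        p * (y⁻¹ * (k * (c * a * c⁻¹) * k⁻¹) * (y⁻¹)⁻¹) * p⁻¹ by group, hcab, h1 hk,
        h1 (hY'K (inv_mem hy)), h1 (hYK (hg.PY hp))]
  -- the Sylow hyperplanes
  by_cases hc1 : ∃ x ∈ Y', x ∉ Y ∧ IsConj t x
  swap
  · exfalso
    push Not at hc1
    have hJY : ∀ x ∈ Y', IsConj t x → x ∈ Y := fun x hx hj => by
      by_contra hn; exact hc1 x hx hn hj
    obtain ⟨S, hS⟩ := hY'p.exists_le_sylow
    by_cases hSY : Y' = (S : Subgroup G)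
    · obtain ⟨M, hPM, hMY', htM, hsplit⟩ := exists_compl hPY' hsq htY' hg.tP
      have hM0 : ∀ x ∈ M, ¬ IsConj t x := fun x hx hj => by
        have hxY := hJY x (hMY' hx) hj
        have hxP := (hg.J_iff x hxY).1 hj
        have htx := (hg.split x hxY).resolve_left hxP
        exact htM (by simpa using mul_mem (hPM htx) (inv_mem hx))
      obtain ⟨f, hf, -, hdiv, -⟩ := parity h.simple h.ncomm h.t2 M
      rw [jcount_eq_zero hM0, zero_mul, Nat.mul_eq_zero] at hf
      have hf0 : f = 0 := hf.resolve_right Nat.card_pos.ne'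
      obtain ⟨o, ⟨o', rfl⟩, hi⟩ := index_eq S (X := M) (k := 2)
        (by rw [← hSY, card_two_cosets hMY' htY' htM hsplit])
      omega
    · obtain ⟨x₀, hx₀, hx₀Y⟩ : ∃ x ∈ Y', x ∉ Y := by
        by_contra! hc
        exact absurd (Nat.card_le_card_of_injective _ (Subgroup.inclusion_injective
          (show Y' ≤ Y from hc))) (not_le.2 hlt)
      obtain ⟨M, hYM, hMY', hx₀M, hsplit⟩ := exists_compl hYY'
        (fun y hy => hg.PY (hsq y hy)) hx₀ hx₀Y
      have hM2 := card_two_cosets hMY' hx₀ hx₀M hsplit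
      have hv : jcount t M = Nat.card P := by
        symm
        refine Nat.card_eq_of_bijective (fun p : P => ⟨t * p.1, hYM (mul_mem (hg.tY h) (hg.PY p.2)),
          hg.conj_tmul h p.2⟩) ⟨fun p p' hp => Subtype.ext (mul_left_cancel (congrArg Subtype.val hp)),
          fun ⟨x, hx, hj⟩ => ?_⟩
        have hxY := hJY x (hMY' hx) hj
        exact ⟨⟨t * x, (hg.split x hxY).resolve_left ((hg.J_iff x hxY).1 hj)⟩,
          Subtype.ext (h.toHyp.t_mul_t_mul x)⟩
      refine h.parity_big (S := S) (M := M) ?_ ?_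
      · rw [hv]
        have := hg.card_Y h
        rw [this, hM2] at hcard
        have e2 : 2 * Nat.card M = 2 * (Nat.card P * Nat.card D) := by rw [hcard]; ring
        omega
      · obtain ⟨a, ha⟩ := hY'p.exists_card_eq
        obtain ⟨b, hb⟩ := S.isPGroup'.exists_card_eq
        have hab : a < b := by
          by_contra hle
          refine hSY (Subgroup.eq_of_le_of_card_ge hS ?_)
          rw [ha, hb]
          exact Nat.pow_le_pow_right two_pos (not_lt.1 hle)
        obtain ⟨j, rfl⟩ := Nat.exists_eq_add_of_lt hab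
        refine ⟨2 ^ j, ?_⟩
        rw [hb, show 4 * 2 ^ j * Nat.card M = 2 * 2 ^ j * (2 * Nat.card M) by ring, ← hM2, ha]
        ring
  -- classes outside `Y` fill cosets of `P`
  have hclass : ∀ x ∈ Y', x ∉ Y → IsConj t x → ∀ p ∈ P, IsConj t (x * p) := by
    intro x hx hxY hj
    by_contra! hcon
    obtain ⟨p₀, hp₀, hp₀n⟩ := hcon
    set s : Set G := {y | ∃ p ∈ P, y = x * p ∧ IsConj t y} with hs
    have h1 := h.toHyp.class_card hj hY'p s fun r hr => ⟨x⁻¹ * (r * x * r⁻¹), by
      rw [show x⁻¹ * (r * x * r⁻¹) = x⁻¹ * r * x⁻¹⁻¹ * r⁻¹ by group]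
      exact hcomm _ (inv_mem hx) _ hr, by group, hj.trans (isConj_iff.2 ⟨r, rfl⟩)⟩
    have h2 : Nat.card s < Nat.card P := by
      let φ : s → P := fun y => ⟨x⁻¹ * y.1, by
        obtain ⟨p, hp, hyp, -⟩ := y.2
        rw [hyp, inv_mul_cancel_left]; exact hp⟩
      have hinj : Function.Injective φ := fun y y' e =>
        Subtype.ext (mul_left_cancel (congrArg Subtype.val e))
      haveI : Fintype P := Fintype.ofFinite _
      haveI : Fintype s := Fintype.ofFinite _
      rw [Nat.card_eq_fintype_card, Nat.card_eq_fintype_card]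
      refine Fintype.card_lt_of_injective_of_notMem φ hinj (b := ⟨p₀, hp₀⟩) ?_
      rintro ⟨y, hy⟩
      have e : x⁻¹ * y.1 = p₀ := congrArg Subtype.val hy
      obtain ⟨p, -, -, hyj⟩ := y.2
      rw [inv_mul_eq_iff_eq_mul.1 e] at hyj
      exact hp₀n hyj
    rw [hcard, hg.card_Y h, h.toHyp.card_T] at h1
    have h3 : 2 * Nat.card D * Nat.card P ≤ 2 * Nat.card D * Nat.card s := by linarith
    exact absurd (Nat.le_of_mul_le_mul_left h3 (by omega)) (not_le.2 h2)
  have hnever : ∀ x ∈ Y', x ∉ Y → IsConj t x → ¬ IsConj t (x * t) := by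
    intro x hx hxY hj hj'
    have h1 := mul_self_of_conj h.t2 hj
    have h2 := mul_self_of_conj h.t2 hj'
    refine hxY (hg.TY (h.toHyp.mem_T hY'p hTY' hx ?_))
    calc x * t = x * t * (x * t * (x * t))⁻¹ := by rw [h2]; group
      _ = t⁻¹ * x⁻¹ := by group
      _ = t * x := by rw [h.toHyp.tinv, inv_eq_of_mul_eq_one_right h1]
  -- every other coset contains a conjugate of `t`
  have hJcoset : ∀ y ∈ Y', y ∉ Y → ¬ IsConj t y → IsConj t (y * t) := by
    intro y hy hyY hyn
    obtain ⟨x, hx, hxY, hj⟩ := hc1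
    have hdx : disp t x ∉ sqP P := fun e => hxY (hg.fix_mem h hY'p hYY' hx e)
    have hdy : disp t y ∉ sqP P := fun e => hyY (hg.fix_mem h hY'p hYY' hy e)
    obtain ⟨c, hc, hcN, hcxy⟩ := hg.trans_cl h (hg.disp_mem h (hY'N hx)) (hg.disp_mem h (hY'N hy)) hdx hdy
    have hne : ∀ {w}, w ∈ P → w ∉ sqP P → w ^ e ≠ 1 := fun hw hw' e' => hw' ((he _ hw).1 e')
    obtain ⟨q, hq, hqN, hqY', hqa⟩ := hR _ (heD _ (hg.disp_mem h (hY'N hx))) _
      (heD _ (hg.disp_mem h (hY'N hy))) (hne (hg.disp_mem h (hY'N hx)) hdx)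
      (hne (hg.disp_mem h (hY'N hy)) hdy)
    have hqx : q * x * q⁻¹ ∈ Y' := hqY' x hx
    have hdq : disp t (q * x * q⁻¹) = q * disp t x * q⁻¹ := by
      rw [mul_assoc q, disp_mul h, disp_C h hq, one_mul, disp_mul h, disp_C h (inv_mem hq), mul_one,
        mul_inv_cancel, mul_one]
    have hd : (disp t y)⁻¹ * disp t (q * x * q⁻¹) ∈ sqP P := by
      have hy' := hg.disp_mem h (hY'N hy)
      have hq' := hg.norm_P hqN (hg.disp_mem h (hY'N hx))
      rw [hdq]
      refine (he _ (mul_mem (inv_mem hy') hq')).1 ?_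
      rw [(show Commute (disp t y)⁻¹ (q * disp t x * q⁻¹) from hg.P_comm h (inv_mem hy') hq').mul_pow,
        inv_pow, conj_pow, hqa, inv_mul_cancel]
    have hqxY : q * x * q⁻¹ ∉ Y := fun e1 => hdy (by
      have := mul_mem hd (inv_mem (hg.disp_Y h e1))
      rw [mul_inv_cancel_right] at this
      simpa using inv_mem this)
    have hz : y⁻¹ * (q * x * q⁻¹) ∈ Y := hg.fix_mem h hY'p hYY' (mul_mem (inv_mem hy) hqx)
      ((hg.sameCl h (hY'N hy) (hY'N hqx)).2 hd)
    have hzj : IsConj t (q * x * q⁻¹) := hj.trans (isConj_iff.2 ⟨q, rfl⟩)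
    rcases hg.split _ hz with hp | hp
    · refine absurd ?_ hyn
      have := hclass _ hqx hqxY hzj _ (inv_mem hp)
      rwa [mul_inv_rev, inv_inv, mul_inv_cancel_left] at this
    · have := hclass _ hqx hqxY hzj _ (inv_mem hp)
      rwa [show q * x * q⁻¹ * (t * (y⁻¹ * (q * x * q⁻¹)))⁻¹ = y * t⁻¹ by group, h.toHyp.tinv] at this
  -- products of two conjugates
  have hprod : ∀ a ∈ Y', ∀ b ∈ Y', IsConj t a → IsConj t b → ¬ IsConj t (a * b) := by
    intro a ha b hb hja hjb hjab
    have haa := mul_self_of_conj h.t2 hja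
    have hbb := mul_self_of_conj h.t2 hjb
    have hab2 := mul_self_of_conj h.t2 hjab
    have hcab : b * a = a * b := by
      calc b * a = a * a * (b * a) * (b * b) := by rw [haa, hbb, one_mul, mul_one]
        _ = a * (a * b * (a * b)) * b := by group
        _ = a * b := by rw [hab2, mul_one]
    by_cases haY : a ∈ Y
    · have hbY := hg.cent h hY'p hYY' haY ((hg.J_iff a haY).1 hja) hb hcab
      have hP : a * b ∈ P := by
        rw [show a * b = a * (t * t) * b by rw [h.toHyp.tt, mul_one]]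
        rw [show a * (t * t) * b = a * t * (t * b) by group]
        refine mul_mem ?_ ((hg.split b hbY).resolve_left ((hg.J_iff b hbY).1 hjb))
        have e1 := (hg.split a haY).resolve_left ((hg.J_iff a haY).1 hja)
        rw [show a * t = t * (t * a) * t by rw [h.toHyp.t_mul_t_mul], hg.inv_t h e1]
        exact inv_mem e1
      exact (hg.J_iff _ (hg.PY hP)).1 hjab hP
    by_cases hbY : b ∈ Y
    · exact haY (hg.cent h hY'p hYY' hbY ((hg.J_iff b hbY).1 hjb) ha hcab.symm)
    by_cases habY : a * b ∈ Y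
    · refine haY (hg.cent h hY'p hYY' habY ((hg.J_iff _ habY).1 hjab) ha ?_)
      rw [mul_assoc a b a, hcab]
    -- four cosets of `D` in the centralizer of `a`
    set Q := Y' ⊓ centralizer ({a} : Set G) with hQ
    have hQle := h.toHyp.card_cent_le hja (hY'p.to_le (inf_le_left : Q ≤ Y'))
      fun r hr => mem_centralizer_singleton_iff.1 hr.2
    have hmem : ∀ p : Bool × Bool × D,
        (if p.1 then a else 1) * (if p.2.1 then b else 1) * (p.2.2 : G) ∈ Q := by
      rintro ⟨i, j, d, hd⟩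
      refine ⟨mul_mem (mul_mem ?_ ?_) (hPY' (hg.DP hd)), mem_centralizer_singleton_iff.2 ?_⟩
      · cases i <;> simp [ha]
      · cases j <;> simp [hb]
      · have h1 : Commute (d : G) a := (mem_centralizer_iff.1 (hY'K ha).2 d hd)
        have h2 : Commute b a := hcab
        refine Commute.mul_left (Commute.mul_left ?_ ?_) h1
        · cases i <;> simp
        · cases j <;> simp [h2]
    have hinj : Function.Injective (fun p => (⟨_, hmem p⟩ : Q)) := by
      rintro ⟨i, j, d, hd⟩ ⟨i', j', d', hd'⟩ e'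
      have e1 := congrArg Subtype.val e'
      simp only at e1
      have hw : ((if i' then a else 1) * (if j' then b else 1))⁻¹ *
          ((if i then a else 1) * (if j then b else 1)) ∈ Y := by
        rw [show ((if i' then a else 1) * (if j' then b else 1))⁻¹ *
          ((if i then a else 1) * (if j then b else 1)) = d' * d⁻¹ by
            rw [eq_mul_inv_iff_mul_eq, mul_assoc, e1]; group]
        exact hg.PY (mul_mem (hg.DP hd') (inv_mem (hg.DP hd)))
      have hai : a⁻¹ = a := inv_eq_of_mul_eq_one_right haa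
      have hbi : b⁻¹ = b := inv_eq_of_mul_eq_one_right hbb
      cases i <;> cases j <;> cases i' <;> cases j' <;>
        simp [hai, hbi, haa, hbb, mul_inv_rev, mul_assoc] at hw e1 <;>
        first
        | exact Prod.ext rfl (Prod.ext rfl (Subtype.ext e1))
        | exact absurd hw haY
        | exact absurd hw hbY
        | exact absurd hw habY
        | exact absurd hw (by rw [hcab]; exact habY)
        | (simp [← mul_assoc, hcab, haa, hbb] at hw
           first
           | exact absurd hw haY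
           | exact absurd hw hbY
           | exact absurd hw habY
           | (simp [mul_assoc, hcab, haa, hbb] at hw
              first
              | exact absurd hw haY
              | exact absurd hw hbY
              | exact absurd hw habY))
    have := (Nat.card_le_card_of_injective _ hinj).trans hQle
    rw [Nat.card_prod, Nat.card_prod, Nat.card_eq_fintype_card (α := Bool), Fintype.card_bool,
      h.toHyp.card_T] at this
    omega
  have hnon : ∀ a ∈ Y', ¬ IsConj t a → IsConj t (a * t) ∧ IsConj t (t * a) := by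
    intro a ha hna
    by_cases haY : a ∈ Y
    · have haP : a ∈ P := by
        by_contra hn; exact hna ((hg.J_iff a haY).2 hn)
      refine ⟨?_, hg.conj_tmul h haP⟩
      have := hg.conj_tmul h (inv_mem haP)
      rwa [← hg.inv_t h haP, mul_assoc t a t, h.toHyp.t_mul_t_mul] at this
    · have h1 := hJcoset a ha haY hna
      refine ⟨h1, ?_⟩
      have hatY : a * t ∉ Y := fun e1 => haY (by simpa using mul_mem e1 (inv_mem (hg.tY h)))
      have := hclass _ (mul_mem ha htY') hatY h1 ((a * t)⁻¹ * (t * a)) (by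
        rw [show (a * t)⁻¹ * (t * a) = t⁻¹ * a⁻¹ * t⁻¹⁻¹ * a⁻¹⁻¹ by group]
        exact hcomm _ (inv_mem htY') _ (inv_mem ha))
      rwa [mul_inv_cancel_left] at this
  let P' : Subgroup G :=
    { carrier := {x | x ∈ Y' ∧ ¬ IsConj t x}
      one_mem' := ⟨one_mem Y', fun hj => ne_one_of_conj h.t2 hj rfl⟩
      mul_mem' := fun {a b} ha hb => ⟨mul_mem ha.1 hb.1, by
        have := hprod _ (mul_mem ha.1 htY') _ (mul_mem htY' hb.1) (hnon a ha.1 ha.2).1
          (hnon b hb.1 hb.2).2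
        rwa [mul_assoc a t, h.toHyp.t_mul_t_mul] at this⟩
      inv_mem' := fun {a} ha => ⟨inv_mem ha.1, fun hj => ha.2 (by
        have := inv_eq_of_mul_eq_one_right (mul_self_of_conj h.t2 hj)
        rw [inv_inv] at this
        rw [this]; exact hj)⟩ }
  refine ⟨Y', P', ⟨hTY', hY'p, fun x hx => hx.1, fun d hd => ⟨hPY' (hg.DP hd), fun hj =>
    (hg.J_iff d (hg.PY (hg.DP hd))).1 hj (hg.DP hd)⟩, fun hx => hx.2 (IsConj.refl t),
    fun y hy => ?_, fun y hy => ⟨fun hj hx => hx.2 hj, fun hn => ?_⟩, fun a ha b hb ha1 hb1 => ?_⟩, hlt⟩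
  · by_cases hj : IsConj t y
    · exact Or.inr ⟨mul_mem htY' hy, hprod t htY' y hy (IsConj.refl t) hj⟩
    · exact Or.inl ⟨hy, hj⟩
  · by_contra hj; exact hn ⟨hy, hj⟩
  · obtain ⟨q, hq, -, hqY', hqa⟩ := hR a ha b hb ha1 hb1
    exact ⟨q, hq, hqY', hqa⟩

end Good

end Cfsg.Agent.JanThom
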