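import Cfsg.Agent.JanThom.CaseAEnd
import Cfsg.Agent.JanThom.Translations
import Cfsg.Agent.JanThom.Fixed
import Cfsg.Agent.JanThom.Setup

/-!
# The Sylow 2-subgroups are elementary abelian of order 8
-/

set_option autoImplicit false
set_option linter.style.haveILetI false
set_option linter.unusedSectionVars false

namespace Cfsg.Agent.JanThom

open Subgroup

variable {G : Type*} [Group G] [Finite G] {t : G} {T D : Subgroup G}

namespace HypB

/-- No good pair exists. -/
theorem not_good (h : HypB t T D) : ¬ ∃ Y P : Subgroup G, Good t T D Y P := by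
  classical
  rintro ⟨Y, P, hg⟩
  induction hn : Nat.card G - Nat.card Y using Nat.strong_induction_on generalizing Y P with
  | _ n ih =>
  subst hn
  by_cases hfix : ∀ g ∈ normalizer (Y : Set G), (∀ d ∈ D, g * d * g⁻¹ = d) → disp t g ∈ sqP P
  · exact hg.fixed_impossible h hfix
  · push Not at hfix
    obtain ⟨g, hgN, hgD, hmove⟩ := hfix
    obtain ⟨Y', P', hg', hlt⟩ := hg.translations h hgN hgD hmove
    have := Subgroup.card_le_card_group Y'
    exact ih _ (by omega) Y' P' hg' rfl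

/-- `T` is a Sylow subgroup of `G`. -/
theorem sylow_T (h : HypB t T D) {S : Sylow 2 G} (hS : T ≤ (S : Subgroup G)) :
    (S : Subgroup G) = T := by
  classical
  by_contra hne
  haveI : Fact (Nat.Prime 2) := ⟨Nat.prime_two⟩
  obtain ⟨e₀, he₀, he₀1⟩ := h.exists_ne_one
  obtain ⟨a, ha⟩ := h.Tp.exists_card_eq
  obtain ⟨b, hb⟩ := S.isPGroup'.exists_card_eq
  have hab : a < b := by
    by_contra hle
    refine hne (Subgroup.eq_of_le_of_card_ge hS ?_).symm
    rw [ha, hb]
    exact Nat.pow_le_pow_right two_pos (not_lt.1 hle)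
  obtain ⟨j, rfl⟩ := Nat.exists_eq_add_of_lt hab
  obtain ⟨f, hf, hfle, hdiv, -⟩ := parity h.simple h.ncomm h.t2 T
  obtain ⟨oC, hoC, hC⟩ := h.toHyp.card_cent
  obtain ⟨o, ho, hi⟩ := index_eq S (X := T) (k := 2 ^ (j + 1)) (by rw [hb, ha]; ring)
  rw [hC] at hf
  have hfe : f = jcount t T * oC :=
    Nat.eq_of_mul_eq_mul_right (Nat.card_pos (α := T)) (by rw [hf]; ring)
  have hvodd : ¬ Odd (jcount t T) := by
    intro hodd
    obtain ⟨i, hi'⟩ := hodd.mul hoC
    rw [← hfe] at hi'
    rw [show 2 ^ (j + 1) * o = 2 * (2 ^ j * o) by ring] at hi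
    omega
  obtain ⟨m, hm⟩ := (h.Tp.to_le h.DT).exists_card_eq
  obtain ⟨m', rfl⟩ : ∃ m', m = m' + 1 := ⟨m - 1, by
    rcases m with _ | m
    · have := h.hfour; rw [hm] at this; simp at this
    · rfl⟩
  -- exactly one of `D`, `tD ∖ t` consists of conjugates of `t`
  have hcount : ∀ (P : Prop), (∀ x : T, IsConj t (x : G) ↔ ((x : G) = t ∨ (P ∧ (x : G) ≠ 1 ∧ (x : G) ≠ t))) →
      ¬ P → False := by
    intro P hP hn
    refine hvodd ?_
    have h1 : jcount t T = 1 := by
      rw [jcount, Nat.card_eq_one_iff_exists]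
      refine ⟨⟨t, h.tT, IsConj.refl t⟩, fun x => Subtype.ext ?_⟩
      rcases (hP ⟨x.1, x.2.1⟩).1 x.2.2 with e | ⟨p, -, -⟩
      · exact e
      · exact absurd p hn
    rw [h1]; exact odd_one
  by_cases hE : IsConj t e₀
  · by_cases hF : IsConj t (t * e₀)
    · -- all `2q - 1` involutions: an odd number
      refine hvodd ?_
      have h1 : jcount t T + 1 = Nat.card T := by
        have hall : ∀ x ∈ T, x ≠ 1 → IsConj t x := by
          intro x hx hx1
          rcases h.split x hx with hD | hD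
          · exact h.all_or_none he₀ hD hx1 hE
          · by_cases he : t * x = 1
            · rw [show x = t by rw [← h.toHyp.t_mul_t_mul x, he, mul_one]]
            · have := h.all_or_none' he₀ hD he₀1 he hF
              rwa [h.toHyp.t_mul_t_mul] at this
        have h2 : jcount t T = Nat.card {x : T // x ≠ 1} := by
          refine Nat.card_congr ⟨fun x => ⟨⟨x.1, x.2.1⟩, fun e => ne_one_of_conj h.t2 x.2.2 (congrArg Subtype.val e)⟩,
            fun x => ⟨x.1.1, x.1.2, hall _ x.1.2 fun e => x.2 (Subtype.ext e)⟩, fun x => rfl, fun x => rfl⟩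
        haveI : Fintype T := Fintype.ofFinite _
        rw [h2, Nat.card_eq_fintype_card, Fintype.card_subtype_compl, Fintype.card_subtype_eq,
          Nat.card_eq_fintype_card]
        have := Fintype.card_pos (α := T)
        omega
      rw [h.toHyp.card_T, hm] at h1
      exact ⟨2 ^ (m' + 1) - 1, by have : 0 < 2 ^ (m' + 1) := Nat.pow_pos two_pos; omega⟩
    · -- two commuting conjugates in `D` lead to one in `tD ∖ t`
      obtain ⟨e₁, he₁, he₁1, hne₁⟩ : ∃ e ∈ D, e ≠ 1 ∧ e ≠ e₀ := by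
        by_contra! hc
        have hle : Nat.card D ≤ 2 := by
          refine (Nat.card_le_card_of_injective (β := Bool) (fun x : D => decide ((x : G) = 1)) ?_).trans (by simp)
          intro x y hxy
          by_cases hx : (x : G) = 1
          · exact Subtype.ext (hx.trans (show (y : G) = 1 by simpa [hx] using hxy).symm)
          · have hy : (y : G) ≠ 1 := by simpa [hx] using hxy
            exact Subtype.ext ((hc _ x.2 hx).trans (hc _ y.2 hy).symm)
        have := h.hfour
        omega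
      have hne : e₀ * e₁ ≠ 1 := fun e => hne₁ (by
        rw [← mul_left_cancel (e.trans (h.hexp e₀ he₀).symm)])
      have hcom : e₁ * e₀ = e₀ * e₁ := h.T_comm (h.DT he₁) (h.DT he₀)
      have hR : IsPGroup 2 (zpowers e₁) := (h.Tp.to_le h.DT).to_le (zpowers_le.2 he₁)
      obtain ⟨k, hk, hkT⟩ := h.toHyp.exists_into_T hE hR fun r hr => by
        obtain ⟨i, rfl⟩ := mem_zpowers_iff.1 hr
        exact (Commute.zpow_left hcom i).eq
      set d := k * e₁ * k⁻¹ with hd
      have hdT : d ∈ T := hkT e₁ (mem_zpowers e₁)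
      have hdj : IsConj t d := (h.all_or_none he₀ he₁ he₁1 hE).trans (isConj_iff.2 ⟨k, rfl⟩)
      have htdj : IsConj t (t * d) := (h.all_or_none he₀ (mul_mem he₀ he₁) hne hE).trans
        (isConj_iff.2 ⟨k, by rw [hd, ← hk]; group⟩)
      have hd1 : d ≠ 1 := ne_one_of_conj h.t2 hdj
      have hdt : d ≠ t := fun e => ne_one_of_conj h.t2 htdj (by rw [e, h.toHyp.tt])
      rcases h.split d hdT with hD | hD
      · exact hF (h.all_or_none' hD he₀ hd1 he₀1 htdj)
      · refine hF (h.all_or_none' hD he₀ (fun e => hdt ?_) he₀1 (by rwa [h.toHyp.t_mul_t_mul]))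
        rw [← h.toHyp.t_mul_t_mul d, e, mul_one]
  · by_cases hF : IsConj t (t * e₀)
    · refine h.not_good ⟨T, D, ⟨le_rfl, h.Tp, h.DT, le_rfl, h.tD, h.split, fun y hy => ?_,
        fun a ha b hb ha1 hb1 => h.trans_D ha hb ha1 hb1⟩⟩
      refine ⟨fun hj hD => hE (h.all_or_none hD he₀ he₀1 hj), fun hn => ?_⟩
      have hty := h.toHyp.tmul_mem hy hn
      by_cases he : t * y = 1
      · rw [show y = t by rw [← h.toHyp.t_mul_t_mul y, he, mul_one]]
      · have := h.all_or_none' he₀ hty he₀1 he hF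
        rwa [h.toHyp.t_mul_t_mul] at this
    · refine hcount False (fun x => ⟨fun hx => Or.inl ?_, fun hx => ?_⟩) id
      · by_contra hxt
        have hx1 : (x : G) ≠ 1 := ne_one_of_conj h.t2 hx
        rcases h.split _ x.2 with hD | hD
        · exact hE (h.all_or_none hD he₀ he₀1 hx)
        · refine hF (h.all_or_none' hD he₀ (fun e => hxt ?_) he₀1 (by rwa [h.toHyp.t_mul_t_mul]))
          rw [← h.toHyp.t_mul_t_mul (x : G), e, mul_one]
      · rcases hx with e | ⟨hf', -, -⟩
        · rw [e]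
        · exact hf'.elim

end HypB

theorem main {G : Type*} [Group G] [Finite G] (hs : IsSimpleGroup G) (hG : ¬ IsMulCommutative G) (t : G)
    (ht : orderOf t = 2) {F : Type*} [Field F] [Fintype F] (hF : 3 < Fintype.card F)
    (hL : Nonempty (↥(Subgroup.closure {x : (↥(Subgroup.centralizer ({t} : Set G)) ⧸
        Cfsg.oddCore ↥(Subgroup.centralizer ({t} : Set G))) | ∃ k : ℕ, orderOf x = 2 ^ k}) ≃*
      (Multiplicative (ZMod 2) × Matrix.ProjectiveSpecialLinearGroup (Fin 2) F))) (S : Sylow 2 G) :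
    Nat.card ↥(S : Subgroup G) = 8 ∧ ∀ x ∈ (S : Subgroup G), x ^ 2 = 1 := by
  haveI : Fact (Nat.Prime 2) := ⟨Nat.prime_two⟩
  obtain ⟨T, D, h, hcase⟩ := setup hs hG t ht hF hL
  rcases hcase with ⟨k, hk, ⟨e⟩⟩ | ⟨hexp, h4⟩
  · obtain ⟨k', rfl⟩ : ∃ k', k = k' + 2 := ⟨k - 2, by omega⟩
    obtain ⟨z, hz⟩ := dfacts e
    exact (h.caseA hz).elim
  · have hB : HypB t T D := ⟨h, hexp, h4⟩
    obtain ⟨S₀, hS₀⟩ := h.Tp.exists_le_sylow
    have hST := hB.sylow_T hS₀
    have hD4 : Nat.card D = 4 := le_antisymm (hB.sylow_eq S₀ hST) h4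
    have hcard : Nat.card (S₀ : Subgroup G) = 8 := by rw [hST, h.card_T, hD4]
    obtain ⟨g, hg⟩ := MulAction.exists_smul_eq G S₀ S
    refine ⟨by rw [← hcard]; exact (Nat.card_congr (Sylow.equiv S S₀).toEquiv), fun x hx => ?_⟩
    rw [← hg, Sylow.coe_subgroup_smul, Subgroup.mem_pointwise_smul_iff_inv_smul_mem] at hx
    have e1 : (MulAut.conj g)⁻¹ • x = g⁻¹ * x * g := by
      rw [← map_inv, MulAut.smul_def, MulAut.conj_apply, inv_inv]
    have h2 := hB.T_sq (hST ▸ (e1 ▸ hx : g⁻¹ * x * g ∈ (S₀ : Subgroup G)))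
    calc x ^ 2 = g * (g⁻¹ * x * g * (g⁻¹ * x * g)) * g⁻¹ := by rw [pow_two]; group
      _ = 1 := by rw [h2, mul_one, mul_inv_cancel]

end Cfsg.Agent.JanThom
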