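import Mathlib
import Cfsg.Agent.S0205

/-!
# Odd-order groups acting on real vector spaces

The dimension is congruent modulo 2 to that of the fixed space.
-/

set_option autoImplicit false
set_option linter.style.haveILetI false
set_option linter.unusedSectionVars false

namespace Cfsg.Agent.JanThom

open Module Polynomial Filter

/-- A real polynomial of odd degree has a root. -/
theorem exists_root_of_odd {p : ℝ[X]} (hm : p.Monic) (hd : Odd p.natDegree) : ∃ x, p.eval x = 0 := by
  have hdeg : 0 < p.degree := natDegree_pos_iff_degree_pos.1 hd.pos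
  have h1 := p.tendsto_atTop_of_leadingCoeff_nonneg hdeg (by rw [hm.leadingCoeff]; norm_num)
  have hn : (p.comp (-X)).natDegree = p.natDegree := by rw [natDegree_comp]; simp
  have h2 := (p.comp (-X)).tendsto_atBot_of_leadingCoeff_nonpos
    (natDegree_pos_iff_degree_pos.1 (hn ▸ hd.pos)) (by
      rw [leadingCoeff_comp (by simp), hm.leadingCoeff, one_mul]
      simp [hd.neg_one_pow])
  obtain ⟨a, ha⟩ := (h1.eventually (eventually_ge_atTop 0)).exists
  obtain ⟨b, hb⟩ := (h2.eventually (eventually_le_atBot 0)).exists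
  rw [eval_comp] at hb
  simp only [eval_neg, eval_X] at hb
  exact mem_range_of_exists_le_of_exists_ge p.continuous ⟨-b, hb⟩ ⟨a, ha⟩

variable {V : Type*} [AddCommGroup V] [Module ℝ V] [FiniteDimensional ℝ V]

/-- An operator of odd order fixes a subspace of the same parity. -/
theorem parity_cyclic (g : V →ₗ[ℝ] V) {r : ℕ} (hr : Odd r) (hg : g ^ r = 1) :
    finrank ℝ V % 2 = finrank ℝ (LinearMap.ker (g - 1)) % 2 := by
  have hrk := LinearMap.finrank_range_add_finrank_ker (g - 1)
  suffices h : Even (finrank ℝ (LinearMap.range (g - 1))) by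
    obtain ⟨k, hk⟩ := h
    omega
  by_contra hodd
  rw [Nat.not_even_iff_odd] at hodd
  have hinv : ∀ x ∈ LinearMap.range (g - 1), g x ∈ LinearMap.range (g - 1) := by
    rintro _ ⟨y, rfl⟩
    exact ⟨g y, by simp⟩
  set g' : Module.End ℝ (LinearMap.range (g - 1)) := g.restrict hinv with hg'
  obtain ⟨μ, hμ⟩ := exists_root_of_odd g'.charpoly_monic (by rw [g'.charpoly_natDegree]; exact hodd)
  obtain ⟨x, hx⟩ := ((Module.End.hasEigenvalue_iff_isRoot_charpoly g' μ).2 hμ).exists_hasEigenvector
  have hgx : g x.1 = μ • x.1 := congrArg Subtype.val hx.apply_eq_smul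
  have hpow : ∀ i : ℕ, (g ^ i) x.1 = μ ^ i • x.1 := fun i => by
    induction i with
    | zero => simp
    | succ i ih => rw [pow_succ', Module.End.mul_apply, ih, map_smul, hgx, smul_smul, pow_succ]
  have h1 := hpow r
  rw [hg, Module.End.one_apply] at h1
  have hx0 : x.1 ≠ 0 := fun e => hx.2 (Subtype.ext e)
  have hμ1 : μ ^ r = 1 := by
    by_contra hne
    refine hx0 (smul_right_injective V (sub_ne_zero.2 hne) ?_)
    show (μ ^ r - 1) • x.1 = (μ ^ r - 1) • (0 : V)
    rw [sub_smul, ← h1, one_smul, sub_self, smul_zero]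
  have hμ' : μ = 1 := hr.pow_injective (a₁ := μ) (a₂ := 1) (by simpa using hμ1)
  rw [hμ', one_smul] at hgx
  obtain ⟨y, hy⟩ := x.2
  have hgy : g y = y + x.1 := by
    rw [← hy]; simp
  have hiy : ∀ i : ℕ, (g ^ i) y = y + (i : ℝ) • x.1 := fun i => by
    induction i with
    | zero => simp
    | succ i ih =>
      rw [pow_succ', Module.End.mul_apply, ih, map_add, map_smul, hgx, hgy]
      push_cast
      rw [add_smul, one_smul]
      abel
  have h2 := hiy r
  rw [hg, Module.End.one_apply, left_eq_add, smul_eq_zero] at h2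
  rcases h2 with h2 | h2
  · exact absurd (Nat.cast_eq_zero.1 h2) hr.pos.ne'
  · exact hx0 h2

/-- The common fixed space of a set of operators. -/
def fixedSpace {R : Type*} [Group R] (ρ : R →* (V →ₗ[ℝ] V)) (K : Subgroup R) : Submodule ℝ V where
  carrier := {v | ∀ r ∈ K, ρ r v = v}
  add_mem' := fun {a b} ha hb r hr => by rw [map_add, ha r hr, hb r hr]
  zero_mem' := fun r _ => map_zero _
  smul_mem' := fun c v hv r hr => by rw [map_smul, hv r hr]

theorem mem_fixedSpace {R : Type*} [Group R] {ρ : R →* (V →ₗ[ℝ] V)} {K : Subgroup R} {v : V} :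
    v ∈ fixedSpace ρ K ↔ ∀ r ∈ K, ρ r v = v := Iff.rfl

/-- For a group of odd order the dimension and the dimension of the fixed space have one parity. -/
theorem real_parity {R : Type*} [Group R] [Finite R] (hR : Odd (Nat.card R))
    (ρ : R →* (V →ₗ[ℝ] V)) : finrank ℝ V % 2 = finrank ℝ (fixedSpace ρ ⊤) % 2 := by
  suffices ∀ K : Subgroup R, finrank ℝ V % 2 = finrank ℝ (fixedSpace ρ K) % 2 from this ⊤
  intro K
  induction hn : Nat.card K using Nat.strong_induction_on generalizing K with
  | _ n ih =>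
  subst hn
  by_cases hK : K = ⊥
  · subst hK
    have : fixedSpace ρ (⊥ : Subgroup R) = ⊤ := eq_top_iff.2 fun v _ r hr => by
      rw [Subgroup.mem_bot.1 hr, map_one]; rfl
    rw [this, finrank_top]
  have hKo : Odd (Nat.card K) := hR.of_dvd_nat (Subgroup.card_subgroup_dvd_card K)
  haveI : Nontrivial K := (Subgroup.nontrivial_iff_ne_bot K).2 hK
  haveI : Group.IsSolvable K := S0205.result hKo
  obtain ⟨M, hM, hle⟩ : ∃ M : Subgroup K, IsCoatom M ∧ commutator K ≤ M :=
    (eq_top_or_exists_le_coatom (commutator K)).resolve_left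
      (Group.IsSolvable.commutator_lt_top_of_nontrivial K).ne
  haveI : M.Normal := Subgroup.Normal.of_commutator_le K hle
  obtain ⟨g, -, hgM⟩ := SetLike.exists_of_lt hM.lt_top
  have hlt : Nat.card (M.map K.subtype) < Nat.card K := by
    rw [Subgroup.card_map_of_injective (Subgroup.subtype_injective K)]
    refine lt_of_le_of_ne (Subgroup.card_le_card_group M) fun e => hgM ?_
    rw [Subgroup.eq_top_of_card_eq M e]
    trivial
  have hih := ih _ hlt (M.map K.subtype) rfl
  set F := fixedSpace ρ (M.map K.subtype) with hF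
  have hinv : ∀ v ∈ F, ρ (g : R) v ∈ F := by
    intro v hv r hr
    obtain ⟨m, hm, rfl⟩ := hr
    have h := hv _ ⟨_, Subgroup.Normal.conj_mem (inferInstance : M.Normal) m hm g⁻¹, rfl⟩
    simp only [Subgroup.coe_subtype, Subgroup.coe_mul, InvMemClass.coe_inv, inv_inv] at h
    have e : (ρ (m : R)) (ρ (g : R) v) = ρ (g : R) (ρ ((g : R)⁻¹ * m * g) v) := by
      rw [← Module.End.mul_apply, ← map_mul, ← Module.End.mul_apply, ← map_mul]
      congr 2
      group
    show (ρ (m : R)) (ρ (g : R) v) = _
    rw [e, h]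
  set g' : F →ₗ[ℝ] F := (ρ (g : R)).restrict hinv with hg'
  have hsup : M ⊔ Subgroup.zpowers g = ⊤ := hM.2 _ (lt_of_le_of_ne le_sup_left fun e =>
    hgM (e ▸ Subgroup.mem_sup_right (Subgroup.mem_zpowers g)))
  have ho : Odd (orderOf g) := hKo.of_dvd_nat (orderOf_dvd_natCard g)
  have hgr : g' ^ orderOf g = 1 := by
    rw [hg', Module.End.pow_restrict]
    refine LinearMap.ext fun v => Subtype.ext ?_
    show ((ρ (g : R)) ^ orderOf g) v.1 = v.1
    rw [← map_pow, ← SubgroupClass.coe_pow, pow_orderOf_eq_one, OneMemClass.coe_one, map_one]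
    rfl
  have hstep := parity_cyclic g' ho hgr
  rw [hih, hstep]
  congr 1
  have hmap : (LinearMap.ker (g' - 1)).map F.subtype = fixedSpace ρ K := by
    ext v
    constructor
    · rintro ⟨w, hw, rfl⟩ r hr
      have hw' : ρ (g : R) w.1 = w.1 :=
        congrArg Subtype.val (sub_eq_zero.1 (LinearMap.mem_ker.1 hw))
      let St : Subgroup K :=
        { carrier := {k | ρ (k : R) w.1 = w.1}
          mul_mem' := fun {a b} ha hb => by
            show ρ ((a : R) * b) w.1 = w.1
            rw [map_mul, Module.End.mul_apply, hb, ha]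
          one_mem' := by show ρ (1 : R) w.1 = w.1; rw [map_one]; rfl
          inv_mem' := fun {a} ha => by
            show ρ ((a : R)⁻¹) w.1 = w.1
            nth_rw 1 [← ha]
            rw [← Module.End.mul_apply, ← map_mul, inv_mul_cancel, map_one]
            rfl }
      have : (⊤ : Subgroup K) ≤ St := hsup ▸ sup_le (fun m hm => w.2 _ ⟨m, hm, rfl⟩)
        ((Subgroup.zpowers_le).2 hw')
      exact this (Subgroup.mem_top (⟨r, hr⟩ : K))
    · intro hv
      have hvF : v ∈ F := fun r hr => by
        obtain ⟨m, -, rfl⟩ := hr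
        exact hv _ m.2
      refine ⟨⟨v, hvF⟩, LinearMap.mem_ker.2 (sub_eq_zero.2 (Subtype.ext ?_)), rfl⟩
      exact hv _ g.2
  rw [← hmap]
  exact (Submodule.equivMapOfInjective _ F.injective_subtype _).finrank_eq

end Cfsg.Agent.JanThom
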