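import Cfsg.Agent.JanThom.Good
import Cfsg.Agent.JanThom.RealParity

/-!
# The centralizer of `D` fixes all classes: the signed module

A sign character on the classes gives a homomorphism of `N(Y)` to `±1` that is `-1` at `t`.
-/

set_option autoImplicit false
set_option linter.style.haveILetI false
set_option linter.unusedSectionVars false
set_option linter.unusedVariables false

namespace Cfsg.Agent.JanThom

open Subgroup

variable {G : Type*} [Group G] [Finite G] {t : G} {T D Y P : Subgroup G}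

/-- The data needed to build the signed module. -/
structure SignData (t s : G) (P N A D₀ : Subgroup G) : Prop where
  tt : t * t = 1
  AN : A ≤ N
  tA : t ∈ A
  D0A : D₀ ≤ A
  PD : P ≤ D₀
  tD : t ∉ D₀
  split : ∀ a ∈ A, a ∈ D₀ ∨ t * a ∈ D₀
  nrm : ∀ a ∈ A, ∀ d ∈ D₀, a * d * a⁻¹ ∈ D₀
  Pnrm : ∀ g ∈ N, ∀ p ∈ P, g * p * g⁻¹ ∈ P
  sN : s ∈ N
  sA : s ∉ A
  ss : s * s ∈ D₀
  tN : ∀ g ∈ N, t * (g⁻¹ * t * g) ∈ P
  sep : ∀ d ∈ D₀, ∀ d' ∈ D₀, s * t ≠ d * s * d'
  double : ∀ g ∈ N, g ∈ A ∨ ∃ c ∈ A, ∃ a ∈ A, g = c * s * a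
  oddP : Odd (P.subgroupOf D₀).index

namespace SignData

variable {s : G} {N A D₀ : Subgroup G}

/-- Membership in a double coset of `D₀`. -/
def Cos (D₀ : Subgroup G) (u w : G) : Prop := ∃ d ∈ D₀, ∃ d' ∈ D₀, w = d * u * d'

open Classical in
/-- The sign kernel. -/
noncomputable def κ (D₀ : Subgroup G) (t s w : G) : ℝ :=
  if Cos D₀ s w then 1 else if Cos D₀ (s * t) w then -1 else 0

theorem cos_mul (u : G) {w d d' : G} (hd : d ∈ D₀) (hd' : d' ∈ D₀) :
    Cos D₀ u (d * w * d') ↔ Cos D₀ u w := by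
  constructor
  · rintro ⟨a, ha, b, hb, e⟩
    refine ⟨d⁻¹ * a, mul_mem (inv_mem hd) ha, b * d'⁻¹, mul_mem hb (inv_mem hd'), ?_⟩
    rw [show d⁻¹ * a * u * (b * d'⁻¹) = d⁻¹ * (a * u * b) * d'⁻¹ by group, ← e]
    group
  · rintro ⟨a, ha, b, hb, rfl⟩
    exact ⟨d * a, mul_mem hd ha, b * d', mul_mem hb hd', by group⟩

theorem κ_mul {w d d' : G} (hd : d ∈ D₀) (hd' : d' ∈ D₀) : κ D₀ t s (d * w * d') = κ D₀ t s w := by
  by_cases h1 : Cos D₀ s w <;> by_cases h2 : Cos D₀ (s * t) w <;>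
    simp [κ, cos_mul _ hd hd', h1, h2]

variable (h : SignData t s P N A D₀)
include h

theorem tconj {d : G} (hd : d ∈ D₀) : t * d * t ∈ D₀ := by
  have := h.nrm t h.tA d hd
  rwa [inv_eq_of_mul_eq_one_right h.tt] at this

theorem cos_excl {w : G} (h1 : Cos D₀ s w) : ¬ Cos D₀ (s * t) w := by
  obtain ⟨a, ha, b, hb, rfl⟩ := h1
  rintro ⟨c, hc, d, hd, e⟩
  refine h.sep (c⁻¹ * a) (mul_mem (inv_mem hc) ha) (b * d⁻¹) (mul_mem hb (inv_mem hd)) ?_
  rw [show c⁻¹ * a * s * (b * d⁻¹) = c⁻¹ * (a * s * b) * d⁻¹ by group, e]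
  group

theorem cos_notA {w : G} (hw : Cos D₀ s w ∨ Cos D₀ (s * t) w) : w ∉ A := by
  intro hwA
  rcases hw with ⟨a, ha, b, hb, e⟩ | ⟨a, ha, b, hb, e⟩
  · exact h.sA (by
      rw [show s = a⁻¹ * w * b⁻¹ by rw [e]; group]
      exact mul_mem (mul_mem (inv_mem (h.D0A ha)) hwA) (inv_mem (h.D0A hb)))
  · exact h.sA (by
      rw [show s = a⁻¹ * w * b⁻¹ * t⁻¹ by rw [e]; group]
      exact mul_mem (mul_mem (mul_mem (inv_mem (h.D0A ha)) hwA) (inv_mem (h.D0A hb))) (inv_mem h.tA))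

theorem κ_A {w : G} (hw : w ∈ A) : κ D₀ t s w = 0 := by
  rw [κ, if_neg fun e => h.cos_notA (Or.inl e) hw, if_neg fun e => h.cos_notA (Or.inr e) hw]

theorem κ_s {w : G} (hw : Cos D₀ s w) : κ D₀ t s w = 1 := by rw [κ, if_pos hw]

theorem κ_st {w : G} (hw : Cos D₀ (s * t) w) : κ D₀ t s w = -1 := by
  rw [κ, if_neg fun e => h.cos_excl e hw, if_pos hw]

theorem swap_left {w : G} :
    (Cos D₀ s w → Cos D₀ (s * t) (t * w)) ∧ (Cos D₀ (s * t) w → Cos D₀ s (t * w)) := by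
  have hp := h.PD (h.tN s h.sN)
  constructor
  · rintro ⟨d, hd, d', hd', rfl⟩
    refine ⟨t * d * t, h.tconj hd, t * (s⁻¹ * t * s) * d', mul_mem hp hd', ?_⟩
    rw [show t * d * t * (s * t) * (t * (s⁻¹ * t * s) * d') =
      t * d * t * s * (t * t) * (s⁻¹ * t * s) * d' by group, h.tt]
    rw [show t * d * t * s * 1 * (s⁻¹ * t * s) * d' = t * d * (t * t) * s * d' by group, h.tt]
    group
  · rintro ⟨d, hd, d', hd', rfl⟩
    refine ⟨t * d * t, h.tconj hd, t * (t * (s⁻¹ * t * s)) * t * d', mul_mem (h.tconj hp) hd', ?_⟩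
    rw [show t * d * t * s * (t * (t * (s⁻¹ * t * s)) * t * d') =
      t * d * t * s * (t * t) * (s⁻¹ * t * s) * t * d' by group, h.tt]
    rw [show t * d * t * s * 1 * (s⁻¹ * t * s) * t * d' = t * d * (t * t) * s * t * d' by group, h.tt]
    group

theorem swap_right {w : G} :
    (Cos D₀ s w → Cos D₀ (s * t) (w * t)) ∧ (Cos D₀ (s * t) w → Cos D₀ s (w * t)) := by
  constructor
  · rintro ⟨d, hd, d', hd', rfl⟩
    refine ⟨d, hd, t * d' * t, h.tconj hd', ?_⟩
    rw [show d * (s * t) * (t * d' * t) = d * s * (t * t) * d' * t by group, h.tt]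
    group
  · rintro ⟨d, hd, d', hd', rfl⟩
    exact ⟨d, hd, t * d' * t, h.tconj hd', by group⟩

theorem κ_tmul (w : G) : κ D₀ t s (t * w) = -κ D₀ t s w := by
  by_cases h1 : Cos D₀ s w
  · rw [h.κ_s h1, h.κ_st (h.swap_left.1 h1)]
  by_cases h2 : Cos D₀ (s * t) w
  · rw [h.κ_st h2, h.κ_s (h.swap_left.2 h2), neg_neg]
  have e : t * (t * w) = w := by rw [← mul_assoc, h.tt, one_mul]
  have h3 : ¬ Cos D₀ s (t * w) := fun h3 => h2 (e ▸ h.swap_left.1 h3)
  have h4 : ¬ Cos D₀ (s * t) (t * w) := fun h4 => h1 (e ▸ h.swap_left.2 h4)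
  simp [κ, h1, h2, h3, h4]

theorem κ_mul_t (w : G) : κ D₀ t s (w * t) = -κ D₀ t s w := by
  by_cases h1 : Cos D₀ s w
  · rw [h.κ_s h1, h.κ_st (h.swap_right.1 h1)]
  by_cases h2 : Cos D₀ (s * t) w
  · rw [h.κ_st h2, h.κ_s (h.swap_right.2 h2), neg_neg]
  have e : w * t * t = w := by rw [mul_assoc, h.tt, mul_one]
  have h3 : ¬ Cos D₀ s (w * t) := fun h3 => h2 (e ▸ h.swap_right.1 h3)
  have h4 : ¬ Cos D₀ (s * t) (w * t) := fun h4 => h1 (e ▸ h.swap_right.2 h4)
  simp [κ, h1, h2, h3, h4]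

theorem κ_inv (w : G) : κ D₀ t s w⁻¹ = κ D₀ t s w := by
  have i1 : ∀ v, Cos D₀ s v → Cos D₀ s v⁻¹ := by
    rintro v ⟨d, hd, d', hd', rfl⟩
    exact ⟨d'⁻¹, inv_mem hd', (s * s)⁻¹ * d⁻¹, mul_mem (inv_mem h.ss) (inv_mem hd), by group⟩
  have i2 : ∀ v, Cos D₀ (s * t) v → Cos D₀ (s * t) v⁻¹ := by
    intro v hv
    have h2 := h.swap_right.2 hv
    have h3 := h.swap_left.1 (i1 _ h2)
    rwa [mul_inv_rev, inv_eq_of_mul_eq_one_right h.tt, ← mul_assoc, h.tt, one_mul] at h3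
  by_cases h1 : Cos D₀ s w
  · rw [h.κ_s h1, h.κ_s (i1 w h1)]
  by_cases h2 : Cos D₀ (s * t) w
  · rw [h.κ_st h2, h.κ_st (i2 w h2)]
  have h3 : ¬ Cos D₀ s w⁻¹ := fun h3 => h1 (by simpa using i1 _ h3)
  have h4 : ¬ Cos D₀ (s * t) w⁻¹ := fun h4 => h2 (by simpa using i2 _ h4)
  simp [κ, h1, h2, h3, h4]

theorem classify {g : G} (hg : g ∈ N) (hgA : g ∉ A) : Cos D₀ s g ∨ Cos D₀ (s * t) g := by
  obtain ⟨c, hc, a, ha, rfl⟩ := (h.double g hg).resolve_left hgA
  have hca : Cos D₀ s (c * s) ∨ Cos D₀ (s * t) (c * s) := by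
    rcases h.split c hc with hd | hd
    · exact Or.inl ⟨c, hd, 1, one_mem _, (mul_one _).symm⟩
    · right
      have := h.swap_left.1 (⟨t * c, hd, 1, one_mem _, (mul_one _).symm⟩ : Cos D₀ s (t * c * s))
      rwa [← mul_assoc, ← mul_assoc, h.tt, one_mul] at this
  rcases h.split a ha with hd | hd
  · rcases hca with h1 | h1
    · left
      have := (cos_mul (D₀ := D₀) s (w := c * s) (one_mem D₀) hd).2 h1
      rwa [one_mul] at this
    · right
      have := (cos_mul (D₀ := D₀) (s * t) (w := c * s) (one_mem D₀) hd).2 h1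
      rwa [one_mul] at this
  · have e : c * s * a = 1 * (c * s * t) * (t * a) := by
      rw [show 1 * (c * s * t) * (t * a) = c * s * (t * t) * a by group, h.tt, mul_one]
    rw [e]
    rcases hca with h1 | h1
    · exact Or.inr ((cos_mul _ (one_mem D₀) hd).2 (h.swap_right.1 h1))
    · exact Or.inl ((cos_mul _ (one_mem D₀) hd).2 (h.swap_right.2 h1))

theorem exists_sign : ∃ χ : N →* ℝ, χ ⟨t, h.AN h.tA⟩ = -1 ∧ ∀ p : N, (p : G) ∈ P → χ p = 1 := by
  classical
  set E : Subgroup N := D₀.subgroupOf N with hE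
  haveI : Fintype (N ⧸ E) := Fintype.ofFinite _
  have hsp : ∀ {x y : N}, (x⁻¹ * y : N) ∈ E ↔ (x : G)⁻¹ * y ∈ D₀ := fun {x y} => Iff.rfl
  set τt : N := ⟨t, h.AN h.tA⟩ with hτt
  -- right multiplication by `t`
  let τ : N ⧸ E → N ⧸ E := Quotient.lift (fun g : N => QuotientGroup.mk (g * τt)) fun a b hab => by
    refine QuotientGroup.eq.2 ?_
    have h1 : (a : G)⁻¹ * b ∈ D₀ := hsp.1 (QuotientGroup.leftRel_apply.1 hab)
    refine hsp.2 ?_
    show ((a : G) * t)⁻¹ * (b * t) ∈ D₀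
    rw [show ((a : G) * t)⁻¹ * (b * t) = t⁻¹ * ((a : G)⁻¹ * b) * t by group,
      inv_eq_of_mul_eq_one_right h.tt]
    exact h.tconj h1
  have hτmk : ∀ g : N, τ (QuotientGroup.mk g) = QuotientGroup.mk (g * τt) := fun g => rfl
  have hττ : ∀ x, τ (τ x) = x := fun x => by
    obtain ⟨g, rfl⟩ := QuotientGroup.mk_surjective x
    rw [hτmk, hτmk, mul_assoc, show τt * τt = 1 from Subtype.ext h.tt, mul_one]
  let k : N ⧸ E → N ⧸ E → ℝ := Quotient.lift₂ (fun a b : N => κ D₀ t s ((a : G)⁻¹ * b))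
    fun a₁ b₁ a₂ b₂ ha hb => by
      have h1 : (a₁ : G)⁻¹ * a₂ ∈ D₀ := hsp.1 (QuotientGroup.leftRel_apply.1 ha)
      have h2 : (b₁ : G)⁻¹ * b₂ ∈ D₀ := hsp.1 (QuotientGroup.leftRel_apply.1 hb)
      show κ D₀ t s ((a₁ : G)⁻¹ * b₁) = κ D₀ t s ((a₂ : G)⁻¹ * b₂)
      rw [← κ_mul (D₀ := D₀) (t := t) (s := s) (w := (a₁ : G)⁻¹ * b₁) (inv_mem h1) h2]
      congr 1
      group
  have hkmk : ∀ a b : N, k (QuotientGroup.mk a) (QuotientGroup.mk b) = κ D₀ t s ((a : G)⁻¹ * b) :=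
    fun a b => rfl
  have hksym : ∀ x y, k x y = k y x := fun x y => by
    obtain ⟨a, rfl⟩ := QuotientGroup.mk_surjective x
    obtain ⟨b, rfl⟩ := QuotientGroup.mk_surjective y
    rw [hkmk, hkmk, ← h.κ_inv, mul_inv_rev, inv_inv]
  have hkτ : ∀ x y, k x (τ y) = -k x y := fun x y => by
    obtain ⟨a, rfl⟩ := QuotientGroup.mk_surjective x
    obtain ⟨b, rfl⟩ := QuotientGroup.mk_surjective y
    rw [hτmk, hkmk, hkmk, ← h.κ_mul_t, Subgroup.coe_mul, mul_assoc]
  have hkτ' : ∀ x y, k (τ x) y = -k x y := fun x y => by rw [hksym, hkτ, hksym]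
  have hksmul : ∀ (g : N) x y, k (g • x) (g • y) = k x y := fun g x y => by
    obtain ⟨a, rfl⟩ := QuotientGroup.mk_surjective x
    obtain ⟨b, rfl⟩ := QuotientGroup.mk_surjective y
    rw [MulAction.Quotient.smul_coe, MulAction.Quotient.smul_coe, hkmk, hkmk]
    congr 1
    simp [mul_assoc]
  have hτsmul : ∀ (g : N) x, τ (g • x) = g • τ x := fun g x => by
    obtain ⟨a, rfl⟩ := QuotientGroup.mk_surjective x
    rw [MulAction.Quotient.smul_coe, hτmk, hτmk, MulAction.Quotient.smul_coe, smul_eq_mul,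
      smul_eq_mul, mul_assoc]
  let M : (N ⧸ E → ℝ) →ₗ[ℝ] (N ⧸ E → ℝ) :=
    { toFun := fun f x => ∑ y, k x y * f y
      map_add' := fun f g => funext fun x => by simp [mul_add, Finset.sum_add_distrib]
      map_smul' := fun c f => funext fun x => by
        simp only [Pi.smul_apply, smul_eq_mul, Finset.mul_sum, RingHom.id_apply]
        exact Finset.sum_congr rfl fun y _ => by ring }
  let ρ₀ : N →* ((N ⧸ E → ℝ) →ₗ[ℝ] (N ⧸ E → ℝ)) :=
    { toFun := fun g => LinearMap.funLeft ℝ ℝ (fun x => g⁻¹ • x)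
      map_one' := by ext f x; simp [LinearMap.funLeft]
      map_mul' := fun a b => by ext f x; simp [LinearMap.funLeft, Module.End.mul_apply, mul_smul] }
  have hρapp : ∀ (g : N) (f : N ⧸ E → ℝ) x, ρ₀ g f x = f (g⁻¹ • x) := fun g f x => rfl
  have hMρ : ∀ (g : N) (f : N ⧸ E → ℝ), M (ρ₀ g f) = ρ₀ g (M f) := fun g f => funext fun x => by
    show ∑ y, k x y * f (g⁻¹ • y) = ∑ y, k (g⁻¹ • x) y * f y
    refine Fintype.sum_equiv (MulAction.toPerm g⁻¹) _ _ fun y => ?_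
    rw [MulAction.toPerm_apply, hksmul]
  -- the two basic fixed vectors
  set o : N ⧸ E := QuotientGroup.mk 1 with ho
  set σ : N ⧸ E := QuotientGroup.mk ⟨s, h.sN⟩ with hσ
  have hoτ : τ o ≠ o := fun e => by
    rw [ho, hτmk, QuotientGroup.eq] at e
    have := hsp.1 e
    simp only [one_mul, OneMemClass.coe_one, mul_one] at this
    exact h.tD (by simpa using inv_mem this)
  set u₀ : N ⧸ E → ℝ := fun x => (if x = o then 1 else 0) - (if x = τ o then 1 else 0) with hu₀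
  set w : N ⧸ E → ℝ := M u₀ with hw
  have hwk : ∀ x, w x = 2 * k x o := by
    intro x
    show ∑ y, k x y * ((if y = o then (1 : ℝ) else 0) - (if y = τ o then 1 else 0)) = _
    simp only [mul_sub, mul_ite, mul_one, mul_zero, Finset.sum_sub_distrib, Finset.sum_ite_eq',
      Finset.mem_univ, if_true]
    rw [hkτ]
    ring
  let Dfix : Submodule ℝ (N ⧸ E → ℝ) :=
    { carrier := {f | (∀ x, f (τ x) = -f x) ∧ ∀ d : N, (d : G) ∈ D₀ → ρ₀ d f = f}
      add_mem' := fun {a b} ha hb => ⟨fun x => by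
        simp only [Pi.add_apply, ha.1, hb.1]; ring, fun d hd => by rw [map_add, ha.2 d hd, hb.2 d hd]⟩
      zero_mem' := ⟨fun x => by simp, fun d hd => map_zero _⟩
      smul_mem' := fun c f hf => ⟨fun x => by simp [hf.1 x], fun d hd => by rw [map_smul, hf.2 d hd]⟩ }
  have hMfix : ∀ f ∈ Dfix, M f ∈ Dfix := fun f hf => ⟨fun x => by
    show ∑ y, k (τ x) y * f y = -∑ y, k x y * f y
    simp [hkτ', Finset.sum_neg_distrib], fun d hd => by rw [← hMρ, hf.2 d hd]⟩
  have hu₀mem : u₀ ∈ Dfix := by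
    refine ⟨fun x => ?_, fun d hd => funext fun x => ?_⟩
    · have e1 : τ x = o ↔ x = τ o := ⟨fun e => by rw [← e, hττ], fun e => by rw [e, hττ]⟩
      have e2 : τ x = τ o ↔ x = o := ⟨fun e => by rw [← hττ x, e, hττ], fun e => by rw [e]⟩
      simp only [hu₀, e1, e2]
      ring
    · have hdo : d • o = o := by
        rw [ho, MulAction.Quotient.smul_coe, smul_eq_mul, mul_one, QuotientGroup.eq]
        refine hsp.2 ?_
        simpa using hd
      have e1 : d⁻¹ • x = o ↔ x = o := by rw [inv_smul_eq_iff, hdo]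
      have e2 : d⁻¹ • x = τ o ↔ x = τ o := by rw [inv_smul_eq_iff, ← hτsmul, hdo]
      simp only [hρapp, hu₀, e1, e2]
  have hwmem : w ∈ Dfix := hMfix u₀ hu₀mem
  have hko : k o o = 0 := by rw [ho, hkmk]; simpa using h.κ_A (one_mem A)
  have hkσ : k σ o = 1 := by
    rw [hksym, ho, hσ, hkmk]
    exact h.κ_s ⟨1, one_mem _, 1, one_mem _, by simp⟩
  have hu₀o : u₀ o = 1 := by simp [hu₀, hoτ.symm]
  have hu₀σ : ∀ g : N, (g : G) ∉ A → u₀ (QuotientGroup.mk g) = 0 := by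
    intro g hgA
    have h1 : (QuotientGroup.mk g : N ⧸ E) ≠ o := fun e => by
      rw [ho, QuotientGroup.eq] at e
      have := hsp.1 e
      simp only [OneMemClass.coe_one, mul_one] at this
      exact hgA (by simpa using inv_mem (h.D0A this))
    have h2 : (QuotientGroup.mk g : N ⧸ E) ≠ τ o := fun e => by
      rw [ho, hτmk, one_mul, QuotientGroup.eq] at e
      have := hsp.1 e
      refine hgA ?_
      have h3 := mul_mem h.tA (inv_mem (h.D0A this))
      rwa [mul_inv_rev, inv_inv, ← mul_assoc, mul_inv_cancel, one_mul] at h3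
    simp [hu₀, h1, h2]
  have hwo : w o = 0 := by rw [hwk, hko, mul_zero]
  have hwσ : w σ = 2 := by rw [hwk, hkσ, mul_one]
  have hdesc : ∀ f ∈ Dfix, f = f o • u₀ + (f σ / 2) • w := by
    rintro f ⟨hfo, hfd⟩
    funext x
    obtain ⟨g, rfl⟩ := QuotientGroup.mk_surjective x
    simp only [Pi.add_apply, Pi.smul_apply, smul_eq_mul]
    by_cases hgA : (g : G) ∈ A
    · have hcase : (QuotientGroup.mk g : N ⧸ E) = o ∨ (QuotientGroup.mk g : N ⧸ E) = τ o := by
        rcases h.split _ hgA with hd | hd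
        · left
          rw [ho, QuotientGroup.eq]
          exact hsp.2 (by simpa using inv_mem hd)
        · right
          rw [ho, hτmk, one_mul, QuotientGroup.eq]
          refine hsp.2 ?_
          have h3 := h.tconj (inv_mem hd)
          show (g : G)⁻¹ * t ∈ D₀
          rw [mul_inv_rev, inv_eq_of_mul_eq_one_right h.tt] at h3
          have h4 := h.nrm t h.tA _ (h.tconj (inv_mem hd))
          rw [mul_inv_rev, inv_eq_of_mul_eq_one_right h.tt] at h4
          rw [show t * (t * ((g : G)⁻¹ * t) * t) * t = t * t * ((g : G)⁻¹ * t) * (t * t) by group,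
            h.tt, one_mul, mul_one] at h4
          exact h4
      rcases hcase with e | e
      · rw [e, hu₀o, hwo]; ring
      · rw [e, hfo, hu₀mem.1, hwmem.1, hu₀o, hwo]; ring
    · rw [hu₀σ g hgA]
      rcases h.classify g.2 hgA with ⟨d, hd, d', hd', e⟩ | ⟨d, hd, d', hd', e⟩
      · have ex : (QuotientGroup.mk g : N ⧸ E) = (⟨d, h.AN (h.D0A hd)⟩ : N) • σ := by
          rw [hσ, MulAction.Quotient.smul_coe, QuotientGroup.eq]
          refine hsp.2 ?_
          show (g : G)⁻¹ * (d * s) ∈ D₀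
          rw [e, show (d * s * d')⁻¹ * (d * s) = d'⁻¹ by group]
          exact inv_mem hd'
        have key : ∀ v ∈ Dfix, v (QuotientGroup.mk g) = v σ := fun v hv => by
          have := congrFun (hv.2 ⟨d, h.AN (h.D0A hd)⟩ hd) (QuotientGroup.mk g)
          rw [hρapp, ex, inv_smul_smul] at this
          rw [ex]; exact this.symm
        rw [key f ⟨hfo, hfd⟩, key w hwmem, hwσ]; ring
      · have ex : (QuotientGroup.mk g : N ⧸ E) = (⟨d, h.AN (h.D0A hd)⟩ : N) • τ σ := by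
          rw [hσ, hτmk, MulAction.Quotient.smul_coe, QuotientGroup.eq]
          refine hsp.2 ?_
          show (g : G)⁻¹ * (d * (s * t)) ∈ D₀
          rw [e, show (d * (s * t) * d')⁻¹ * (d * (s * t)) = d'⁻¹ by group]
          exact inv_mem hd'
        have key : ∀ v ∈ Dfix, v (QuotientGroup.mk g) = -v σ := fun v hv => by
          have := congrFun (hv.2 ⟨d, h.AN (h.D0A hd)⟩ hd) (QuotientGroup.mk g)
          rw [hρapp, ex, inv_smul_smul, hv.1] at this
          rw [ex]; exact this.symm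
        rw [key f ⟨hfo, hfd⟩, key w hwmem, hwσ]; ring
  -- the eigenvalue
  set α : ℝ := M w o with hα
  set β : ℝ := M w σ / 2 with hβ
  have hMw : M w = α • u₀ + β • w := hdesc _ (hMfix w hwmem)
  have hαpos : 0 < α := by
    show 0 < ∑ y, k o y * w y
    refine Finset.sum_pos' (fun y _ => ?_) ⟨σ, Finset.mem_univ _, ?_⟩
    · rw [hwk, hksym o y]
      nlinarith [mul_self_nonneg (k y o)]
    · rw [hwσ, hksym, hkσ]; norm_num
  obtain ⟨μ, hμ0, hμ⟩ : ∃ μ : ℝ, μ ≠ 0 ∧ μ * μ = β * μ + α := by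
    have hs := Real.mul_self_sqrt (show (0 : ℝ) ≤ β * β + 4 * α by nlinarith [mul_self_nonneg β])
    refine ⟨(β + Real.sqrt (β * β + 4 * α)) / 2, fun e => ?_, by linarith [hs, show
      (β + Real.sqrt (β * β + 4 * α)) / 2 * ((β + Real.sqrt (β * β + 4 * α)) / 2) =
      (β * β + 2 * β * Real.sqrt (β * β + 4 * α) +
        Real.sqrt (β * β + 4 * α) * Real.sqrt (β * β + 4 * α)) / 4 by ring]⟩
    have e' : Real.sqrt (β * β + 4 * α) = -β := by linarith
    rw [e'] at hs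
    nlinarith
  let W : Submodule ℝ (N ⧸ E → ℝ) :=
    { carrier := {f | (∀ x, f (τ x) = -f x) ∧ M f = μ • f}
      add_mem' := fun {a b} ha hb => ⟨fun x => by
        simp only [Pi.add_apply, ha.1, hb.1]; ring, by rw [map_add, ha.2, hb.2, smul_add]⟩
      zero_mem' := ⟨fun x => by simp, by simp⟩
      smul_mem' := fun c f hf => ⟨fun x => by simp [hf.1 x], by rw [map_smul, hf.2, smul_comm]⟩ }
  have hinv : ∀ g : N, ∀ f ∈ W, ρ₀ g f ∈ W := fun g f hf => ⟨fun x => by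
    rw [hρapp, hρapp, ← hτsmul, hf.1], by rw [hMρ, hf.2, map_smul]⟩
  let ρ : N →* (W →ₗ[ℝ] W) :=
    { toFun := fun g => (ρ₀ g).restrict (hinv g)
      map_one' := by ext f x; simp
      map_mul' := fun a b => by ext f x; simp [Module.End.mul_apply] }
  have hρ : ∀ (g : N) (f : W), ((ρ g f : W) : N ⧸ E → ℝ) = ρ₀ g f := fun g f => rfl
  have hρP : ∀ p : N, (p : G) ∈ P → ρ p = 1 := by
    intro p hp
    refine LinearMap.ext fun f => Subtype.ext (funext fun x => ?_)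
    rw [hρ, hρapp]
    obtain ⟨a, rfl⟩ := QuotientGroup.mk_surjective x
    refine congrArg f.1 ?_
    rw [MulAction.Quotient.smul_coe, QuotientGroup.eq]
    refine hsp.2 (h.PD ?_)
    simp only [smul_eq_mul, Subgroup.coe_mul, InvMemClass.coe_inv, mul_inv_rev, inv_inv]
    have := h.Pnrm _ (inv_mem a.2) _ hp
    rwa [inv_inv] at this
  -- the fixed space of the odd-order quotient
  set PD := P.subgroupOf D₀ with hPD
  haveI : PD.Normal := ⟨fun x hx g => h.Pnrm _ (h.AN (h.D0A g.2)) _ hx⟩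
  let ι : D₀ →* N := Subgroup.inclusion (h.D0A.trans h.AN)
  let ρD : D₀ ⧸ PD →* (W →ₗ[ℝ] W) := QuotientGroup.lift PD (ρ.comp ι) fun x hx => hρP (ι x) hx
  have hodd : Odd (Nat.card (D₀ ⧸ PD)) := by rw [← Subgroup.index_eq_card]; exact h.oddP
  have hpar := real_parity hodd ρD
  set fv : N ⧸ E → ℝ := α • u₀ + μ • w with hfv
  have hfvD : fv ∈ Dfix := Dfix.add_mem (Dfix.smul_mem α hu₀mem) (Dfix.smul_mem μ hwmem)
  have hfvW : fv ∈ W := ⟨hfvD.1, by
    rw [hfv, map_add, map_smul, map_smul, ← hw, hMw]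
    funext x
    simp only [Pi.add_apply, Pi.smul_apply, smul_eq_mul]
    linear_combination -(w x) * hμ⟩
  have hfix : Module.finrank ℝ (fixedSpace ρD ⊤) = 1 := by
    refine finrank_eq_one (⟨⟨fv, hfvW⟩, fun r _ => ?_⟩ : fixedSpace ρD ⊤) (fun e => ?_) fun v => ?_
    · obtain ⟨d, rfl⟩ := QuotientGroup.mk_surjective r
      exact Subtype.ext (hfvD.2 (ι d) d.2)
    · have := congrFun (congrArg Subtype.val (congrArg Subtype.val e)) o
      simp only [hfv, Pi.add_apply, Pi.smul_apply, smul_eq_mul, hu₀o, hwo, mul_one, mul_zero,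
        add_zero] at this
      exact hαpos.ne' this
    · have hvD : (v.1.1 : N ⧸ E → ℝ) ∈ Dfix := ⟨v.1.2.1, fun d hd => by
        have := congrArg Subtype.val (v.2 (QuotientGroup.mk ⟨(d : G), hd⟩) (Subgroup.mem_top _))
        exact this⟩
      refine ⟨v.1.1 σ / 2 / μ, Subtype.ext (Subtype.ext ?_)⟩
      have hv := hdesc _ hvD
      have h2 := v.1.2.2
      have h3 : M v.1.1 o = v.1.1 σ / 2 * α := by
        conv_lhs => rw [hv]
        rw [map_add, map_smul, map_smul]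
        simp only [Pi.add_apply, Pi.smul_apply, smul_eq_mul, ← hw, hwo, ← hα]
        ring
      rw [h2, Pi.smul_apply, smul_eq_mul] at h3
      conv_rhs => rw [hv]
      show (v.1.1 σ / 2 / μ) • (α • u₀ + μ • w) = _
      rw [smul_add, smul_smul, smul_smul, div_mul_cancel₀ _ hμ0, div_mul_eq_mul_div, ← h3,
        mul_div_cancel_left₀ _ hμ0]
  have hoddW : Odd (Module.finrank ℝ W) := by
    rw [Nat.odd_iff, hpar]
    rw [hfix]
  refine ⟨LinearMap.det.comp ρ, ?_, fun p hp => ?_⟩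
  · have e : ρ τt = (-1 : ℝ) • (LinearMap.id : W →ₗ[ℝ] W) := by
      refine LinearMap.ext fun f => Subtype.ext (funext fun x => ?_)
      rw [hρ, hρapp]
      obtain ⟨a, rfl⟩ := QuotientGroup.mk_surjective x
      simp only [LinearMap.smul_apply, LinearMap.id_apply, SetLike.val_smul, Pi.smul_apply,
        smul_eq_mul, neg_one_mul]
      rw [← f.2.1]
      have hti : τt⁻¹ = τt := inv_eq_of_mul_eq_one_right (Subtype.ext h.tt)
      rw [hti, MulAction.Quotient.smul_coe, hτmk, smul_eq_mul]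
      refine congrArg f.1 ?_
      rw [QuotientGroup.eq]
      refine hsp.2 (h.PD ?_)
      show ((t : G) * a)⁻¹ * (a * t) ∈ P
      have h1 := inv_mem (h.tN a a.2)
      rw [show ((t : G) * a)⁻¹ * (a * t) = (a : G)⁻¹ * t⁻¹ * a * t by group,
        inv_eq_of_mul_eq_one_right h.tt]
      rwa [mul_inv_rev, show ((a : G)⁻¹ * t * a)⁻¹ = (a : G)⁻¹ * t⁻¹ * a by group,
        inv_eq_of_mul_eq_one_right h.tt] at h1
    rw [MonoidHom.comp_apply, e, LinearMap.det_smul, LinearMap.det_id, mul_one, hoddW.neg_one_pow]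
  · rw [MonoidHom.comp_apply, hρP p hp, map_one]

end SignData

end Cfsg.Agent.JanThom
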